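import Cfsg.Agent.Mrg.Omega.NO1.B0.Seven
import Cfsg.Agent.Mrg.Omega.NO1.TH.PlusFin
import Cfsg.Agent.Mrg.Omega.NO1.AB.Beta
import Cfsg.Agent.Mrg.Omega.NO1.Nat.A0

section


/-!
# FIN-BETA for `|V : E| = 2` (FrTwo): contradiction (helper817)

`Out.false_two` : THEOREM B0's output with `|V : E| = 2` : a transvection or a four-group offender
(`V = ⟨z, n, tn, v⟩`, `TH/EndTwo.lean`, `last`).
-/

set_option autoImplicit false
set_option linter.unusedSectionVars false

namespace Cfsg.Agent.Omega.NO1.B0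

open Subgroup Cfsg.Agent.Omega.NO1.AB
open Cfsg.Agent.Omega.NO1.TH.ET (tw card_tw last add_swap)
open scoped Pointwise

universe u

variable {Y : Type u} [Group Y] {V : Type u} [AddCommGroup V] [DistribMulAction Y V]

/-- a subgroup of order two -/
theorem two_elts {W : AddSubgroup V} (hc : Nat.card W = 2) {z : V} (hz : z ∈ W) (hz0 : z ≠ 0) {x : V} (hx : x ∈ W) :
    x = 0 ∨ x = z := by
  have h1 : ({0, z} : Set V).ncard = 2 := Set.ncard_pair (Ne.symm hz0)
  have hfin : (W : Set V).Finite := by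
    apply Set.finite_of_ncard_ne_zero
    change Nat.card W ≠ 0
    omega
  have h2 : ({0, z} : Set V) = W := by
    apply Set.eq_of_subset_of_ncard_le _ _ hfin
    · rintro y (rfl | rfl)
      · exact zero_mem _
      · exact hz
    · rw [h1]; exact hc.le
  have h3 : x ∈ (W : Set V) := hx
  rw [← h2] at h3
  exact h3

theorem Out.false_two [Finite Y] [Finite V] {T : Sylow 2 Y} {M L : Subgroup Y} {A Q L₁ : Subgroup L} {R : Sylow 2 L}
    {E F : AddSubgroup V} {z : V} {t : Y} (o : Out T M L A Q L₁ R E F z t) (hE : E.index = 2) : False := by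
  have H := o.hyp.toHyp0
  have h2 : ∀ v : V, v + v = 0 := H.two
  have hm := H.loc.mem
  -- elements of `A`
  have hQ2 : Nat.card Q = 2 := by rw [o.cQ, hE]
  have hne : Q ≠ ⊥ := by
    intro h1
    rw [h1, Subgroup.card_bot] at hQ2
    omega
  obtain ⟨⟨b, hb⟩, hb1⟩ := Subgroup.ne_bot_iff_exists_ne_one.1 hne
  have hb1' : b ≠ 1 := fun h3 => hb1 (Subtype.ext h3)
  have hQe : ∀ q ∈ Q, q = 1 ∨ q = b := by
    intro q hq
    have h1 : ({1, b} : Set L).ncard = 2 := Set.ncard_pair (Ne.symm hb1')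
    have h3 : ({1, b} : Set L) = Q := by
      apply Set.eq_of_subset_of_ncard_le _ _ (Set.toFinite _)
      · rintro y (rfl | rfl)
        · exact one_mem _
        · exact hb
      · rw [h1]; exact hQ2.le
    have h4 : q ∈ (Q : Set L) := hq
    rw [← h3] at h4
    exact h4
  have hbA := o.QA hb
  obtain ⟨c, hc, hct⟩ := o.QtA b hb
  have hbb := hm.sq b hbA
  have hcc := hm.sq c hc
  have hbc := hm.comm b hbA c hc
  have hA : ∀ s ∈ A, s = 1 ∨ s = b ∨ s = c ∨ s = b * c := by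
    intro s hs
    obtain ⟨q, hq, q', hq', h3⟩ := o.prod s hs
    have h4 : (s : Y) = 1 ∨ (s : Y) = b ∨ (s : Y) = c ∨ (s : Y) = b * c := by
      rw [h3]
      rcases hQe q hq with rfl | rfl <;> rcases hQe q' hq' with rfl | rfl
      · left; simp
      · right; right; left; rw [hct]; simp
      · right; left; simp
      · right; right; right; rw [hct]
    rcases h4 with h4 | h4 | h4 | h4
    · left; exact Subtype.ext h4
    · right; left; exact Subtype.ext h4
    · right; right; left; exact Subtype.ext h4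
    · right; right; right; exact Subtype.ext h4
  have hcb : c ≠ b := by
    intro h3
    apply hb1'
    apply o.inf1 b hb b hb
    rw [← hct, h3]
  have hc1 : c ≠ 1 := by
    intro h3
    apply hb1'
    rw [h3, coe_one] at hct
    have h4 : (b : Y) = t⁻¹ * (t * b * t⁻¹) * t := by group
    rw [← hct] at h4
    exact Subtype.ext (by rw [h4]; simp)
  -- vectors
  have hF2 : Nat.card F = 2 := by rw [o.cF, hE]
  have hX4 : Nat.card ↥(fx V Q) = 4 := by rw [o.cX, hE]; norm_num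
  have hz0 : z ≠ 0 := H.z_ne
  have hzF : z ∈ F := H.loc.z_mem.2
  have hFe : ∀ x ∈ F, x = 0 ∨ x = z := fun x hx => two_elts hF2 hzF hz0 hx
  have hn : ∃ n ∈ fx V Q, n ∉ F := by
    by_contra hcon
    push Not at hcon
    have h3 : fx V Q = F := le_antisymm hcon o.FX
    rw [h3] at hX4
    omega
  obtain ⟨n, hnX, hnF⟩ := hn
  have hXe : ∀ x ∈ fx V Q, x ∈ F ∨ x + n ∈ F := by
    intro x hx
    by_cases hxF : x ∈ F
    · exact Or.inl hxF
    · right
      exact TH.ET.add_mem_of o.FX (by rw [hX4, hF2]) hx hnX hxF hnF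
  have hXE : fx V Q ≤ E := by
    have h3 : fx V Q ≤ fx V Q ⊔ t • fx V Q := le_sup_left
    rwa [← o.supE] at h3
  have htz : t • z = z := by
    have h3 : t • z ∈ F := by
      have h4 : t • z ∈ t • F := smul_mem_smul_as hzF
      rwa [o.tF] at h4
    rcases hFe _ h3 with h4 | h4
    · exfalso; apply hz0; rwa [smul_eq_zero_iff_eq] at h4
    · exact h4
  have bz : b • z = z := hm.FB b hbA z hzF
  have cz : c • z = z := hm.FB c hc z hzF
  have bn : b • n = n := hnX b hb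
  -- `c` moves `n`
  have hcfix : ∀ v : V, c • v = v → v ∈ t • fx V Q := by
    intro v hv
    rw [mem_smul_as]
    apply o.Qfix b hb hb1'
    have h3 : (t * (b : Y) * t⁻¹) • v = v := by rw [← hct]; exact hv
    rw [mul_smul, mul_smul] at h3
    have h4 : t⁻¹ • t • (b : Y) • t⁻¹ • v = t⁻¹ • v := by rw [h3]
    rw [inv_smul_smul] at h4
    exact h4
  have cn : c • n = n + z := by
    have h3 : c • n + n ∈ F := hm.EB c hc n (hXE hnX)
    rcases hFe _ h3 with h4 | h4
    · exfalso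
      apply hnF
      rw [← o.infF]
      exact ⟨hnX, hcfix n ((HE.add_eq_zero' h2).1 h4)⟩
    · exact add_swap h2 h4
  -- `t² ∈ A`
  have htt : ∀ x ∈ fx V Q, (t * t) • x ∈ fx V Q := fun x hx => NX_smul o.tk.tt hx
  have htt' : ∀ x ∈ fx V Q, (t * t)⁻¹ • x ∈ fx V Q := fun x hx => NX_smul (inv_mem o.tk.tt) hx
  obtain ⟨d, hd, hdt⟩ := o.tA c hc
  have hdb : d = b := by
    have h3 : (d : Y) = (t * t) * b * (t * t)⁻¹ := by rw [hdt, hct]; group
    have hdfix : d • n = n := by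
      change (d : Y) • n = n
      have h4 : (b : Y) • (t * t)⁻¹ • n = (t * t)⁻¹ • n := (htt' n hnX) b hb
      rw [h3, mul_smul, mul_smul, h4, smul_inv_smul]
    have hd1 : d ≠ 1 := by
      intro h4
      rw [h4, coe_one] at h3
      apply hb1'
      apply Subtype.ext
      have h5 : (b : Y) = (t * t)⁻¹ * ((t * t) * b * (t * t)⁻¹) * (t * t) := by group
      rw [h5, ← h3]; simp
    rcases hA d hd with h4 | h4 | h4 | h4
    · exact absurd h4 hd1
    · exact h4
    · exfalso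
      rw [h4, cn] at hdfix
      apply hz0
      have : n + z = n + 0 := by rw [add_zero]; exact hdfix
      exact add_left_cancel this
    · exfalso
      rw [h4, mul_smul, cn, smul_add, bn, bz] at hdfix
      apply hz0
      have : n + z = n + 0 := by rw [add_zero]; exact hdfix
      exact add_left_cancel this
  have hct' : t * (c : Y) * t⁻¹ = b := by rw [← hdt, hdb]
  have httA : ∃ a ∈ A, (a : Y) = t * t := by
    apply o.CTA _ (mul_mem o.tk.tT o.tk.tT)
    have kb : t * t * (b : Y) = b * (t * t) := by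
      have h3 : t * t * (b : Y) = t * (t * b * t⁻¹) * t⁻¹ * (t * t) := by group
      rw [h3, ← hct, hct']
    have kc : t * t * (c : Y) = c * (t * t) := by
      have h3 : t * t * (c : Y) = t * (t * c * t⁻¹) * t⁻¹ * (t * t) := by group
      rw [h3, hct', ← hct]
    intro s hs
    rcases hA s hs with h4 | h4 | h4 | h4
    · rw [h4]; simp
    · rw [h4]; exact kb
    · rw [h4]; exact kc
    · rw [h4, coe_mul, ← mul_assoc, kb, mul_assoc, kc, mul_assoc]
  have htA : ∀ s ∈ A, (s : Y) ≠ t := by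
    intro s _ h3
    apply o.tk.tX
    rw [← h3]
    exact H.L_le_NX s.2
  -- `v ∉ E`, the right `t`
  obtain ⟨v, hv⟩ := hm.ne
  have htv : t • v ∉ E := by
    intro h3
    apply hv
    rw [← o.tE, mem_smul_as, inv_smul_smul] at h3
    exact h3
  have h3 : t • v + v ∈ E :=
    (AddSubgroup.add_mem_iff_of_index_two hE).2 ⟨fun h4 => absurd h4 htv, fun h4 => absurd h4 hv⟩
  obtain ⟨r, hr, h4⟩ := hm.surj v hv _ h3
  have hrr := hm.sq r hr
  have h5 : r • v + t • v ∈ F := by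
    have e1 : r • v + v + (t • v + v) = r • v + t • v + (v + v) := by abel
    rwa [e1, h2, add_zero] at h4
  have hf : ((r : Y) * t) • v + v ∈ F := by
    have h6 := hm.FB r hr _ h5
    rw [smul_add, ← mul_smul r r, hrr, one_smul] at h6
    have h7 : (r : Y) • t • v = ((r : Y) * t) • v := (mul_smul _ _ _).symm
    have h8 : r • t • v = ((r : Y) * t) • v := h7
    rw [h8] at h6
    have h9 : ((r : Y) * t) • v + v = v + ((r : Y) * t) • v := add_comm _ _
    rw [h9, h6]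
    exact h5
  have hAt : ∀ s ∈ A, ∃ s' ∈ A, (s' : Y) = t * s * t⁻¹ := o.tA
  -- the square of `r t`
  have hsq : ∃ s ∈ A, (s : Y) = r * t * (r * t) := by
    obtain ⟨r', hr', h6⟩ := hAt r hr
    obtain ⟨a, ha, h7⟩ := httA
    refine ⟨r * r' * a, mul_mem (mul_mem hr hr') ha, ?_⟩
    rw [coe_mul, coe_mul, h6, h7]
    simp only [mul_assoc, inv_mul_cancel_left]
  have hfz := hFe _ hf
  have htf : ∀ f ∈ F, ((r : Y) * t) • f = f := by
    intro f hf
    rcases hFe f hf with rfl | rfl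
    · exact smul_zero _
    · rw [mul_smul, htz]
      exact hm.FB r hr _ hzF
  have hrt : ((r : Y) * t) • v = v + (((r : Y) * t) • v + v) := by
    have e1 : v + (((r : Y) * t) • v + v) = ((r : Y) * t) • v + (v + v) := by abel
    rw [e1, h2, add_zero]
  have hsqv : ((r : Y) * t * (r * t)) • v = v := by
    rw [mul_smul]
    obtain ⟨f, hfe⟩ : ∃ f, f = ((r : Y) * t) • v + v := ⟨_, rfl⟩
    rw [← hfe] at hrt hf
    rw [hrt, smul_add, hrt, htf f hf, add_assoc, h2, add_zero]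
  have h1 : (r : Y) * t * (r * t) = 1 := by
    obtain ⟨s, hs, h6⟩ := hsq
    have h7 : s = 1 := by
      apply hm.inj v hv s hs
      have h8 : s • v = v := by
        change (s : Y) • v = v
        rw [h6]; exact hsqv
      rw [h8, h2]; exact zero_mem _
    rw [← h6, h7, coe_one]
  have noff : ∀ A : Subgroup Y, (∀ x ∈ A, ∀ y ∈ A, x * y = y * x) → (∀ x ∈ A, x * x = 1) → A ≠ ⊥ →
      Nat.card A < (fx V A).index := by
    intro A' _ hsq' hne'
    have h6 := H.off A' hsq' hne'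
    have h7 := (fx V A').card_mul_index
    have h8 : 0 < Nat.card ↥(fx V A') := Nat.card_pos
    rw [← h7, mul_comm] at h6
    exact Nat.lt_of_mul_lt_mul_left h6
  -- `n' = t₁ n`
  have htn : t • n ∈ t • fx V Q := smul_mem_smul_as hnX
  have htnE : t • n ∈ E := by
    have h6 : t • fx V Q ≤ fx V Q ⊔ t • fx V Q := le_sup_right
    rw [← o.supE] at h6
    exact h6 htn
  have hrn : ((r : Y) * t) • n = t • n ∨ ((r : Y) * t) • n = t • n + z := by
    rw [mul_smul]
    have h6 : r • (t • n) + t • n ∈ F := hm.EB r hr _ htnE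
    rcases hFe _ h6 with h7 | h7
    · left; exact (HE.add_eq_zero' h2).1 h7
    · right; exact add_swap h2 h7
  have bY : ∀ x : V, (b : Y) • x = b • x := fun _ => rfl
  have cY : ∀ x : V, (c : Y) • x = c • x := fun _ => rfl
  have rcb : (r : Y) * b = b * r := congrArg Subtype.val (hm.comm r hr b hbA)
  have rcc : (r : Y) * c = c * r := congrArg Subtype.val (hm.comm r hr c hc)
  have htb : t * (b : Y) = c * t := by rw [hct]; group
  have htc : t * (c : Y) = b * t := by rw [← hct']; group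
  have hrtb : (r : Y) * t * b = c * (r * t) := by rw [mul_assoc, htb, ← mul_assoc, rcc, mul_assoc]
  have hrtc : (r : Y) * t * c = b * (r * t) := by rw [mul_assoc, htc, ← mul_assoc, rcb, mul_assoc]
  have tz : ((r : Y) * t) • z = z := htf z hzF
  have bn' : (b : Y) • ((r : Y) * t) • n = ((r : Y) * t) • n + z := by
    rw [← mul_smul, ← hrtc, mul_smul, cY, cn, smul_add, tz]
  have cn' : (c : Y) • ((r : Y) * t) • n = ((r : Y) * t) • n := by
    rw [← mul_smul, ← hrtb, mul_smul, bY, bn]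
  have bv : (b : Y) • v + v = n ∨ (b : Y) • v + v = n + z := by
    have h6 : b • v + v ∈ fx V Q := o.QV b hb v
    have h7 : b • v + v ∉ F := fun h8 => hb1' (hm.inj v hv b hbA h8)
    rcases hXe _ h6 with h8 | h8
    · exact absurd h8 h7
    · rcases hFe _ h8 with h9 | h9
      · left; exact (HE.add_eq_zero' h2).1 h9
      · right
        have := add_swap h2 h9
        exact this
  have cv : (c : Y) • v + v = ((r : Y) * t) • n ∨ (c : Y) • v + v = ((r : Y) * t) • n + z := by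
    have h6 : (c : Y) • v + v = t • (b • t⁻¹ • v + t⁻¹ • v) := by
      rw [smul_add, smul_inv_smul, ← bY, hct, mul_smul, mul_smul]
    have h7 : c • v + v ∉ F := fun h8 => hc1 (hm.inj v hv c hc h8)
    have h8 : b • t⁻¹ • v + t⁻¹ • v ∈ fx V Q := o.QV b hb _
    have h9 : (c : Y) • v + v = t • n ∨ (c : Y) • v + v = t • n + z := by
      rcases hXe _ h8 with h9 | h9
      · exfalso
        apply h7
        change (c : Y) • v + v ∈ F
        rw [h6, ← o.tF]
        exact smul_mem_smul_as h9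
      · rcases hFe _ h9 with h10 | h10
        · left
          rw [h6, (HE.add_eq_zero' h2).1 h10]
        · right
          rw [h6, add_swap h2 h10, smul_add, htz]
    rcases h9 with h9 | h9 <;> rcases hrn with h10 | h10
    · left; rw [h9, h10]
    · right; rw [h9, h10, add_assoc, h2, add_zero]
    · right; rw [h9, h10]
    · left; rw [h9, h10]
  have tvv : ((r : Y) * t) • v = v ∨ ((r : Y) * t) • v = v + z := by
    rcases hfz with h6 | h6
    · left; exact (HE.add_eq_zero' h2).1 h6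
    · right; exact add_swap h2 h6
  have hrtA : ∀ s ∈ A, (s : Y) ≠ r * t := by
    intro s hs h6
    apply htA (r⁻¹ * s) (mul_mem (inv_mem hr) hs)
    rw [coe_mul, coe_inv, h6, inv_mul_cancel_left]
  refine last h2 H.faith noff (b := (b : Y)) (c := (c : Y)) (t := (r : Y) * t) (z := z) (n := n)
    (n' := ((r : Y) * t) • n) (v := v) (congrArg Subtype.val hbb) (congrArg Subtype.val hcc)
    (congrArg Subtype.val hbc) h1 hrtb hrtc ?_ ?_ ?_ bz cz tz bn cn rfl bn' cn' bv cv tvv hz0 ?_ ?_ ?_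
  · intro h6
    exact hrtA 1 (one_mem _) (by rw [h6]; rfl)
  · intro h6
    apply hcb
    have h7 : b * c = 1 := Subtype.ext h6
    have : b * (b * c) = b * 1 := by rw [h7]
    rwa [← mul_assoc, hbb, one_mul, mul_one] at this
  · intro h6
    exact hrtA (b * c) (mul_mem hbA hc) h6
  · intro h6
    have h7 := (HE.add_eq_zero' h2).1 h6
    rw [← h7, cY, cn] at cn'
    apply hz0
    have : n + z = n + 0 := by rw [add_zero]; exact cn'
    exact add_left_cancel this
  · intro h6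
    have h7 : ((r : Y) * t) • n = n + z := by
      have : n + (n + ((r : Y) * t) • n) = n + z := by rw [h6]
      rwa [← add_assoc, h2, zero_add] at this
    rw [h7, cY, smul_add, cn, cz, add_assoc, h2, add_zero] at cn'
    apply hz0
    have : n + z = n + 0 := by rw [add_zero]; exact cn'.symm
    exact add_left_cancel this
  · obtain ⟨n', hn'⟩ : ∃ n', n' = ((r : Y) * t) • n := ⟨_, rfl⟩
    rw [← hn'] at hrn ⊢
    set S := tw h2 z ⊔ tw h2 n ⊔ tw h2 n' ⊔ tw h2 v with hS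
    have hzS : z ∈ S := (le_sup_left.trans (le_sup_left.trans le_sup_left) : tw h2 z ≤ S) (Or.inr rfl)
    have hnS : n ∈ S := (le_sup_right.trans (le_sup_left.trans le_sup_left) : tw h2 n ≤ S) (Or.inr rfl)
    have hn'S : n' ∈ S := (le_sup_right.trans le_sup_left : tw h2 n' ≤ S) (Or.inr rfl)
    have hvS : v ∈ S := (le_sup_right : tw h2 v ≤ S) (Or.inr rfl)
    have hFS : ∀ x ∈ F, x ∈ S := by
      intro x hx
      rcases hFe x hx with rfl | rfl
      · exact zero_mem _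
      · exact hzS
    have hXS : ∀ x ∈ fx V Q, x ∈ S := by
      intro x hx
      rcases hXe x hx with h6 | h6
      · exact hFS x h6
      · have h7 := add_mem (hFS _ h6) hnS
        rwa [add_assoc, h2, add_zero] at h7
    have htnS : t • n ∈ S := by
      rcases hrn with h6 | h6
      · rw [← h6]; exact hn'S
      · have h7 := add_mem hn'S hzS
        rwa [h6, add_assoc, h2, add_zero] at h7
    have htXS : ∀ x ∈ t • fx V Q, x ∈ S := by
      intro x hx
      rw [mem_smul_as] at hx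
      rcases hXe _ hx with h6 | h6
      · apply hFS
        rw [← o.tF, mem_smul_as]
        exact h6
      · have h7 : x + t • n ∈ F := by
          have h8 := smul_mem_smul_as (g := t) h6
          rw [o.tF, smul_add, smul_inv_smul] at h8
          exact h8
        have h8 := add_mem (hFS _ h7) htnS
        rwa [add_assoc, h2, add_zero] at h8
    have hES : ∀ x ∈ E, x ∈ S := by
      intro x hx
      rw [o.supE] at hx
      obtain ⟨y, hy, w, hw, rfl⟩ := AddSubgroup.mem_sup.1 hx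
      exact add_mem (hXS y hy) (htXS w hw)
    intro x
    by_cases hx : x ∈ E
    · exact hES x hx
    · have h6 : x + v ∈ E :=
        (AddSubgroup.add_mem_iff_of_index_two hE).2 ⟨fun h4 => absurd h4 hx, fun h4 => absurd h4 hv⟩
      have h7 := add_mem (hES _ h6) hvS
      rwa [add_assoc, h2, add_zero] at h7

end Cfsg.Agent.Omega.NO1.B0

end

section


/-!
# THEOREM B0 (bb OMEGA 18835, helper970), (8), (8+), `a ≥ 4` (shortcut, helper321)

`SK` : `S^t = A ∩ K`.  `TA` : `T` normalises `A`; `T_cases` : `T = T_X ∪ t T_X`.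
-/

set_option autoImplicit false
set_option linter.unusedSectionVars false
set_option linter.style.haveILetI false

namespace Cfsg.Agent.Omega.NO1.B0

open Subgroup Cfsg.Agent.Omega.NO1.AB
open scoped Pointwise

universe u

variable {Y : Type u} [Group Y] {V : Type u} [AddCommGroup V] [DistribMulAction Y V]

/-- index `≤ 2` -/
theorem card_le_two [Finite Y] {P B : Subgroup Y}
    (h : ∀ p ∈ P, ∀ p' ∈ P, p ∉ B → p' ∉ B → p⁻¹ * p' ∈ B) : Nat.card P ≤ 2 * Nat.card B := by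
  classical
  by_cases hPB : P ≤ B
  · have := Subgroup.card_le_of_le hPB
    omega
  obtain ⟨p₀, hp₀, hp₀B⟩ := Set.not_subset.1 hPB
  have h1 : Nat.card P ≤ Nat.card (Bool × B) := by
    refine Nat.card_le_card_of_injective (fun p : P => if hp : (p : Y) ∈ B then (false, ⟨p, hp⟩) else
      (true, ⟨p₀⁻¹ * p, h p₀ hp₀ p p.2 hp₀B hp⟩)) ?_
    intro p p' hpp
    simp only at hpp
    by_cases h2 : (p : Y) ∈ B <;> by_cases h3 : (p' : Y) ∈ B
    · rw [dif_pos h2, dif_pos h3] at hpp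
      have h4 := congrArg (fun s => (s.2 : Y)) hpp
      exact Subtype.ext h4
    · rw [dif_pos h2, dif_neg h3] at hpp
      exact absurd (congrArg Prod.fst hpp) (by simp)
    · rw [dif_neg h2, dif_pos h3] at hpp
      exact absurd (congrArg Prod.fst hpp) (by simp)
    · rw [dif_neg h2, dif_neg h3] at hpp
      have h4 : p₀⁻¹ * (p : Y) = p₀⁻¹ * (p' : Y) := congrArg (fun s => (s.2 : Y)) hpp
      exact Subtype.ext (mul_left_cancel h4)
  rw [Nat.card_prod] at h1
  simpa using h1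

theorem fx_map {L : Subgroup Y} (Q : Subgroup L) : (fx V (Q.map L.subtype) : AddSubgroup V) = fx V Q := by
  ext v
  constructor
  · intro h q hq
    exact h _ ⟨q, hq, rfl⟩
  · rintro h _ ⟨q, hq, rfl⟩
    exact h q hq

namespace Out

variable {T : Sylow 2 Y} {M L : Subgroup Y} {A Q L₁ : Subgroup L} {R : Sylow 2 L} {E F : AddSubgroup V}
  {z : V} {t : Y} (o : Out T M L A Q L₁ R E F z t)
include o

/-- `l ∈ L₁` normalises `A` -/
theorem L₁_A [Finite Y] [Finite V] {l : L} (hl : l ∈ L₁) : MulAut.conj (l : Y) • A.map L.subtype = A.map L.subtype := by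
  apply conj_eq_self_of_le
  intro y hy
  rw [mem_conj] at hy
  obtain ⟨b, hb, h1⟩ := hy
  obtain ⟨a', ha', h2⟩ := conj_act o.hyp.loc o.hyp.beta o.hyp.C0 hl hb
  have h3 : a'⁻¹ * (l * b * l⁻¹) ∈ Q := by
    apply o.CL
    intro x hx
    rw [mul_smul, h2 x hx, inv_smul_smul]
  have h4 := mul_mem ha' (o.QA h3)
  rw [mul_inv_cancel_left] at h4
  refine ⟨_, h4, ?_⟩
  have h5 : (b : Y) = (l : Y)⁻¹ * y * l := h1
  change ((l * b * l⁻¹ : L) : Y) = y
  rw [coe_mul, coe_mul, coe_inv, h5]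
  group

theorem S_ne [Finite Y] [Finite V] : Q.map L.subtype ≠ MulAut.conj t • Q.map L.subtype := by
  intro h1
  obtain ⟨q, hq, hq1⟩ := o.hyp.exists_q o.tk
  have h2 : (q : Y) ∈ Q.map L.subtype := ⟨q, hq, rfl⟩
  rw [h1, mem_conj] at h2
  obtain ⟨q', hq', h3⟩ := h2
  apply hq1
  apply o.inf1 q hq q' hq'
  have h4 : (q' : Y) = t⁻¹ * q * t := h3
  rw [h4]; group

theorem l_S (l : L) : MulAut.conj (l : Y) • Q.map L.subtype = Q.map L.subtype := by
  ext y
  rw [mem_conj]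
  constructor
  · rintro ⟨q, hq, h1⟩
    refine ⟨q, hq, ?_⟩
    have h2 : (q : Y) = (l : Y)⁻¹ * y * l := h1
    have h3 : (q : Y) * l = l * q := congrArg Subtype.val (o.Qz q hq l)
    change (q : Y) = y
    have h4 : y = l * q * (l : Y)⁻¹ := by rw [h2]; group
    rw [h4, ← h3]; group
  · rintro ⟨q, hq, rfl⟩
    refine ⟨q, hq, ?_⟩
    have h3 : (q : Y) * l = l * q := congrArg Subtype.val (o.Qz q hq l)
    change (q : Y) = (l : Y)⁻¹ * q * l
    rw [mul_assoc, h3]; group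

/-- **`S^t = A ∩ K`** -/
theorem SK [Finite Y] [Finite V] (ha : 4 ≤ E.index) {K : Subgroup L} {k : Type} [Field k] [Finite k] [CharP k 2]
    {e : ↥(fx V Q) ≃+ (Fin 2 → k)} {φ : K ≃* Matrix.SpecialLinearGroup (Fin 2) k} (ok : OutK o K k e φ)
    {q : L} (hq : q ∈ Q) : ∃ b ∈ A, b ∈ K ∧ (b : Y) = t * q * t⁻¹ := by
  obtain ⟨g, g', N, N', c, c', κ, cd, hge, -⟩ := o.exists_cd ok
  -- `x₀ ≠ 0, 1`
  obtain ⟨x₀, hx₀, hx₀1⟩ : ∃ d₀ : k, d₀ ≠ 0 ∧ d₀ ≠ 1 := by
    by_contra hc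
    push Not at hc
    have h3 : (Set.univ : Set k) ⊆ {0, 1} := by
      intro d _
      by_cases h4 : d = 0
      · exact Or.inl h4
      · exact Or.inr (hc d h4)
    have h4 := Set.ncard_le_ncard h3 (Set.toFinite _)
    rw [Set.ncard_univ, ok.card] at h4
    have h5 : ({0, 1} : Set k).ncard ≤ 2 := (Set.ncard_insert_le _ _).trans (by rw [Set.ncard_singleton])
    omega
  let s₀ : Matrix.SpecialLinearGroup (Fin 2) k :=
    ⟨!![x₀, 0; 0, x₀⁻¹], by rw [Matrix.det_fin_two_of]; field_simp; ring⟩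
  set l : L := ((φ.symm s₀ : K) : L) with hl
  have hlK : l ∈ K := (φ.symm s₀).2
  have hXl : ∀ (m : L) (x : V), x ∈ fx V Q → m • x ∈ fx V Q := fun m x hx => o.hyp.Xmem hx
  have hlx : ∀ x ∈ fx V Q, g (l • x) = ![x₀ * g x 0, x₀⁻¹ * g x 1] := by
    intro x hx
    have h1 := ok.act (φ.symm s₀) ⟨x, hx⟩ ⟨l • x, hXl l x hx⟩ rfl
    rw [φ.apply_symm_apply, ← hge, ← hge] at h1
    change g (l • x) = _ at h1
    rw [h1]
    ext i
    fin_cases i
    · simp [s₀, Matrix.mulVec, dotProduct, Fin.sum_univ_two]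
    · simp [s₀, Matrix.mulVec, dotProduct, Fin.sum_univ_two]
  have hlx' : ∀ x ∈ fx V Q, g (l⁻¹ • x) = ![x₀⁻¹ * g x 0, x₀ * g x 1] := by
    intro x hx
    have h1 := hlx (l⁻¹ • x) (hXl _ x hx)
    rw [smul_inv_smul] at h1
    rw [h1]
    ext i
    fin_cases i
    · change _ = x₀⁻¹ * (x₀ * _)
      rw [inv_mul_cancel_left₀ hx₀]
      rfl
    · change _ = x₀ * (x₀⁻¹ * _)
      rw [mul_inv_cancel_left₀ hx₀]
      rfl
  -- `l ∈ L₁`
  have hl1 : l ∈ L₁ := by
    by_contra h1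
    obtain ⟨f, hf, hf1⟩ := cd.surjX ![1, 0]
    have hfF : f ∈ F := (cd.memF f hf).2 (by rw [hf1]; rfl)
    have h2 : l • f ∈ F := (cd.memF _ (hXl l f hf)).2 (by
      rw [hlx f hf, hf1]
      change x₀⁻¹ * 0 = 0
      rw [mul_zero])
    have h3 := o.hyp.loc.mem_C_of_F h1 (smul_mem_smul_as (g := l) (⟨hf, hfF⟩ : f ∈ fx V Q ⊓ F)) h2
    rw [o.hyp.C0, AddSubgroup.mem_bot, smul_eq_zero_iff_eq] at h3
    rw [h3, map_zero] at hf1
    exact one_ne_zero (congrFun hf1 0).symm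
  -- `l` normalises `S^t`
  have hlS : MulAut.conj (l : Y) • MulAut.conj t • Q.map L.subtype = MulAut.conj t • Q.map L.subtype := by
    rcases o.perm_S ha (o.L₁_A hl1) with h1 | h1
    · exact h1.2
    · exact absurd ((o.l_S l).symm.trans h1.1) o.S_ne
  have hx₁ : x₀ ^ 2 + 1 ≠ 0 := by
    intro h1
    have h2 : (x₀ + 1) ^ 2 = 0 := by
      have h3 : (2 : k) = 0 := CharTwo.two_eq_zero
      linear_combination h1 + x₀ * h3
    have h3 := pow_eq_zero_iff (two_ne_zero) |>.1 h2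
    exact hx₀1 (CharTwo.add_eq_zero.1 h3)
  obtain ⟨q₁, hq₁, hd⟩ := cd.c'_surj (c' (t * (q : Y) * t⁻¹) / (x₀ ^ 2 + 1))
  obtain ⟨b, hb, hbe⟩ := o.QtA q₁ hq₁
  have hmS : (l : Y) * (t * q₁ * t⁻¹) * (l : Y)⁻¹ ∈ MulAut.conj t • Q.map L.subtype := by
    rw [← hlS]
    exact conj_mem_conj (conj_mem_conj ⟨q₁, hq₁, rfl⟩)
  rw [mem_conj] at hmS
  obtain ⟨q₂, hq₂, h2⟩ := hmS
  have h2' : (q₂ : Y) = t⁻¹ * ((l : Y) * (t * q₁ * t⁻¹) * (l : Y)⁻¹) * t := h2
  set m : L := l * b * l⁻¹ * b⁻¹ with hm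
  have hmK : m ∈ K := by
    have h3 : b * l⁻¹ * b⁻¹ ∈ K := ok.normal.conj_mem _ (inv_mem hlK) b
    have h4 := mul_mem hlK h3
    have e1 : l * (b * l⁻¹ * b⁻¹) = m := by rw [hm]; group
    rwa [e1] at h4
  have hme : (m : Y) = t * ((q₂ * q₁⁻¹ : L) : Y) * t⁻¹ := by
    rw [hm, coe_mul, coe_mul, coe_mul, coe_inv, coe_inv, hbe, coe_mul, coe_inv, h2']
    group
  have hq₂₁ : q₂ * q₁⁻¹ ∈ Q := mul_mem hq₂ (inv_mem hq₁)
  -- compute
  obtain ⟨x, hx, hx1⟩ := cd.surjX ![0, 1]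
  set d := c' (t * (q₁ : Y) * t⁻¹) with hdd
  have hbx : ∀ x ∈ fx V Q, g (b • x) = ![g x 0 + κ * d * g x 1, g x 1] := by
    intro x hx
    have h3 := cd.κX q₁ hq₁ x hx
    have h4 : b • x = ((b • x) + x) + x := by rw [add_assoc, o.two, add_zero]
    rw [h4, map_add]
    have h5 : g (b • x + x) = ![κ * d * g x 1, 0] := by
      rw [← h3, ← hbe]; rfl
    rw [h5]
    ext i
    fin_cases i
    · change κ * d * g x 1 + g x 0 = g x 0 + κ * d * g x 1
      ring
    · change 0 + g x 1 = g x 1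
      ring
  have hbb : b⁻¹ = b := inv_eq_of_mul_eq_one_left (o.hyp.loc.mem.sq b hb)
  have h3 : g (m • x) = ![κ * d * (1 + x₀ ^ 2), 1] := by
    rw [hm, hbb, mul_smul, mul_smul, mul_smul, hlx _ (hXl _ _ (hXl _ _ (hXl _ _ hx))), hbx _ (hXl _ _ (hXl _ _ hx)),
      hlx' _ (hXl _ _ hx), hbx _ hx, hx1]
    ext i
    fin_cases i
    · change x₀ * (x₀⁻¹ * (0 + κ * d * 1) + κ * d * (x₀ * 1)) = κ * d * (1 + x₀ ^ 2)
      field_simp
      ring
    · change x₀⁻¹ * (x₀ * 1) = 1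
      rw [mul_one, inv_mul_cancel₀ hx₀]
  have h4 := cd.κX _ hq₂₁ x hx
  rw [← hme] at h4
  have h5 : g ((m : Y) • x + x) = ![κ * d * (1 + x₀ ^ 2), 0] := by
    rw [map_add]
    change g (m • x) + g x = _
    rw [h3, hx1]
    ext i
    fin_cases i
    · exact add_zero _
    · exact CharTwo.add_self_eq_zero (1 : k)
  rw [h5, hx1] at h4
  have h6 : κ * d * (1 + x₀ ^ 2) = κ * c' (m : Y) * 1 := congrFun h4 0
  have h7 : c' (m : Y) = c' (t * (q : Y) * t⁻¹) := by
    apply mul_left_cancel₀ cd.κ_ne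
    rw [mul_one] at h6
    rw [← h6, hd]
    field_simp
    ring
  rw [hme] at h7
  have h8 := o.c'_inj cd hq₂₁ hq h7
  obtain ⟨b', hb', hbe'⟩ := o.QtA q hq
  have h9 : b' = m := Subtype.ext (by rw [hbe', hme, h8])
  exact ⟨b', hb', by rw [h9]; exact hmK, hbe'⟩

/-- `T ∩ N(X)`, trivial on `F` ⟹ in `A` -/
theorem memA_of [Finite Y] [Finite V] {r : Y} (hrT : r ∈ T) (hrN : r ∈ NX L V Q) (hr : ∀ f ∈ F, r • f = f) :
    r ∈ A.map L.subtype := by
  have h := o.hyp
  have h1 : ∀ x ∈ fx V Q ⊓ F, (r : Y) • x = x := fun x hx => hr x hx.2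
  obtain ⟨x, hx, hxF⟩ : ∃ x ∈ fx V Q, x ∉ F := by
    obtain ⟨l, hl⟩ := exists_out h.loc h.beta
    refine ⟨l • z, h.Xmem h.loc.z_mem.1, fun h3 => ?_⟩
    have h4 := h.loc.mem_C_of_F hl (smul_mem_smul_as h.loc.z_mem) h3
    rw [h.C0, AddSubgroup.mem_bot, smul_eq_zero_iff_eq] at h4
    exact h.z_ne h4
  have h2 := (h.s2 hrT hrN h1).1 x hx
  obtain ⟨a, ha, c, hc', h3⟩ := h.beta.full x hx hxF _ h2
  rw [h.C0, AddSubgroup.mem_bot] at hc'
  rw [hc', add_zero] at h3
  have h4 : (a : Y) • x = (r : Y) • x := add_right_cancel h3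
  have h7 := (h.s2 (p := (a : Y)⁻¹ * r) (mul_mem (inv_mem (h.AT ha)) hrT) (mul_mem (inv_mem (h.AN a)) hrN) (by
    intro f hf
    rw [mul_smul, h1 f hf, inv_smul_eq_iff]
    exact (h.loc.mem.FB a ha f hf.2).symm)).2 x hx hxF (by rw [mul_smul, ← h4, inv_smul_smul])
  obtain ⟨q, hq, h8⟩ := o.CTX _ (mul_mem (inv_mem (h.AT ha)) hrT) h7
  refine ⟨a * q, mul_mem ha (o.QA hq), ?_⟩
  change ((a * q : L) : Y) = r
  rw [coe_mul, h8, mul_inv_cancel_left]

/-- `T ∩ N(X)` normalises `F` -/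
theorem TX_F [Finite Y] [Finite V] {x : Y} (hxT : x ∈ T) (hxN : x ∈ NX L V Q) {f : V} (hf : f ∈ F) : x • f ∈ F :=
  (o.hyp.comp_z hxN (o.hyp.zT x hxT) ⟨o.FX hf, hf⟩).2

theorem AT' {y : Y} (hy : y ∈ A.map L.subtype) : y ∈ T := by
  obtain ⟨a, ha, rfl⟩ := hy
  exact o.hyp.AT ha

theorem AN' [Finite V] {y : Y} (hy : y ∈ A.map L.subtype) : y ∈ NX L V Q := by
  obtain ⟨a, ha, rfl⟩ := hy
  exact o.hyp.AN a

/-- `T ∩ N(X)` normalises `A` -/
theorem TX_A [Finite Y] [Finite V] {x : Y} (hxT : x ∈ T) (hxN : x ∈ NX L V Q) :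
    MulAut.conj x • A.map L.subtype = A.map L.subtype := by
  apply conj_eq_self_of_le
  intro y hy
  rw [mem_conj] at hy
  have hyT : y ∈ T := by
    have h1 := mul_mem (mul_mem hxT (o.AT' hy)) (inv_mem hxT)
    have e1 : x * (x⁻¹ * y * x) * x⁻¹ = y := by group
    rwa [e1] at h1
  have hyN : y ∈ NX L V Q := by
    have h1 := mul_mem (mul_mem hxN (o.AN' hy)) (inv_mem hxN)
    have e1 : x * (x⁻¹ * y * x) * x⁻¹ = y := by group
    rwa [e1] at h1
  apply o.memA_of hyT hyN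
  intro f hf
  have h1 : x⁻¹ • f ∈ F := o.TX_F (inv_mem hxT) (inv_mem hxN) hf
  obtain ⟨a, ha, h2⟩ := hy
  have h3 := o.hyp.loc.mem.FB a ha _ h1
  change (a : Y) • (x⁻¹ • f) = x⁻¹ • f at h3
  have h4 : (a : Y) = x⁻¹ * y * x := h2
  rw [h4, mul_smul, mul_smul, smul_inv_smul, smul_left_cancel_iff] at h3
  exact h3

theorem X_ne : t • (fx V Q : AddSubgroup V) ≠ fx V Q := o.tk.tX

theorem fx_S' : (fx V (MulAut.conj t • Q.map L.subtype) : AddSubgroup V) = t • fx V Q := by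
  rw [fx_conj, fx_map]

/-- `N(A)` permutes `{X, X^t}` -/
theorem NA_X [Finite Y] [Finite V] (ha : 4 ≤ E.index) {y : Y}
    (hy : MulAut.conj y • A.map L.subtype = A.map L.subtype) : y ∈ NX L V Q ∨ t⁻¹ * y ∈ NX L V Q := by
  rcases o.perm_S ha hy with ⟨h1, -⟩ | ⟨h1, -⟩
  · left
    have h2 := congrArg (fun P : Subgroup Y => (fx V P : AddSubgroup V)) h1
    simp only [fx_conj, fx_map] at h2
    exact h2
  · right
    have h2 := congrArg (fun P : Subgroup Y => (fx V P : AddSubgroup V)) h1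
    simp only [fx_conj, fx_map] at h2
    rw [mem_NX, mul_smul, h2, inv_smul_smul]

theorem NX_S [Finite Y] [Finite V] (ha : 4 ≤ E.index) {y : Y}
    (hy : MulAut.conj y • A.map L.subtype = A.map L.subtype) (hyX : y ∈ NX L V Q) :
    MulAut.conj y • Q.map L.subtype = Q.map L.subtype ∧
      MulAut.conj y • MulAut.conj t • Q.map L.subtype = MulAut.conj t • Q.map L.subtype := by
  rcases o.perm_S ha hy with h1 | ⟨h1, -⟩
  · exact h1
  · exfalso
    have h2 := congrArg (fun P : Subgroup Y => (fx V P : AddSubgroup V)) h1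
    simp only [fx_conj, fx_map] at h2
    rw [mem_NX.1 hyX] at h2
    exact o.X_ne h2.symm

theorem not_NX_S [Finite Y] [Finite V] (ha : 4 ≤ E.index) {y : Y}
    (hy : MulAut.conj y • A.map L.subtype = A.map L.subtype) (hyX : y ∉ NX L V Q) :
    MulAut.conj y • Q.map L.subtype = MulAut.conj t • Q.map L.subtype ∧
      MulAut.conj y • MulAut.conj t • Q.map L.subtype = Q.map L.subtype := by
  rcases o.perm_S ha hy with ⟨h1, -⟩ | h1
  · exfalso
    have h2 := congrArg (fun P : Subgroup Y => (fx V P : AddSubgroup V)) h1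
    simp only [fx_conj, fx_map] at h2
    exact hyX h2
  · exact h1

/-- `S^{tt} = S` -/
theorem S_tt [Finite Y] [Finite V] (ha : 4 ≤ E.index) : MulAut.conj t • MulAut.conj t • Q.map L.subtype =
    Q.map L.subtype := (o.not_NX_S ha o.tAY o.tk.tX).2

/-- the coordinates of `exists_K` are `Co` -/
theorem co_of [Finite Y] [Finite V] {K : Subgroup L} {k : Type} [Field k] [CharP k 2]
    {e : ↥(fx V Q) ≃+ (Fin 2 → k)} {φ : K ≃* Matrix.SpecialLinearGroup (Fin 2) k} (ok : OutK o K k e φ)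
    (ez : ∀ v : ↥(fx V Q), (v : V) = z → e v = ![1, 0]) : Co Q F z k e where
  card := by rw [ok.card, inf_eq_right.2 o.FX, o.cF]
  memF := ok.memF
  act := by
    obtain ⟨g, hg, hge⟩ := o.exists_crd ok
    intro l
    obtain ⟨s, hs⟩ := hg.act l
    refine ⟨s.1, fun v w hw => ?_⟩
    rw [← hge, ← hge, hw]
    exact hs v v.2
  ez := ez

/-- a field automorphism of order 2 on `F`: `|C_{S^t}(f)|² ≤ a` -/
theorem card_cent [Finite Y] [Finite V] {f : Y} (hfT : f ∈ T) (hfN : f ∈ NX L V Q) (hfF : ∃ w ∈ F, f • w ≠ w) :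
    Nat.card {q : Q // f * (t * ((q : L) : Y) * t⁻¹) = t * ((q : L) : Y) * t⁻¹ * f} ^ 2 ≤ E.index := by
  obtain ⟨k, i1, i2, i3, e, K, φ, ok, ez⟩ := o.exists_K
  obtain ⟨g, g', N, N', c, c', κ, cd, hge, -⟩ := o.exists_cd ok
  have hc := o.co_of ok ez
  obtain ⟨α, β, δ, hβ, hf⟩ := o.hyp.semi hc hfN (o.hyp.zT f hfT)
  -- `α ≠ 1`
  have hα : ∃ x, α x ≠ x := by
    by_contra hne
    push Not at hne
    obtain ⟨w, hw, hw1⟩ := hfF
    apply hw1
    have h1 := (hc.memF ⟨w, o.FX hw⟩).1 hw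
    have h2 : ge e hfN (e ⟨w, o.FX hw⟩) = e ⟨w, o.FX hw⟩ := by
      rw [vec_eq (e ⟨w, o.FX hw⟩), h1, hf, hne, map_zero, mul_zero, mul_zero, add_zero]
    rw [ge_e] at h2
    exact congrArg Subtype.val (e.injective h2)
  let s : k ≃+* k := RingEquiv.ofBijective α ⟨α.injective, Finite.surjective_of_injective α.injective⟩
  have hs : ∀ x, s x = α x := fun _ => rfl
  have hs1 : s ≠ 1 := by
    intro h1
    obtain ⟨x, hx⟩ := hα
    exact hx (by rw [← hs, h1]; rfl)
  have hfix := NatA.card_fix_sq hs1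
  have h2 : Nat.card {q : Q // f * (t * ((q : L) : Y) * t⁻¹) = t * ((q : L) : Y) * t⁻¹ * f} ≤
      Nat.card {c : k // s c = c} := by
    have h3 := card_le_of_ratio (F := k) (Fx := {c : k | s c = c}) (D := {d : k | α d = β * d})
      (by simp) (by
        intro d hd d' hd' hne
        change s (d / d') = d / d'
        rw [map_div₀, hs, hs, show α d = β * d from hd, show α d' = β * d' from hd']
        field_simp)
    refine le_trans ?_ h3
    have h4 : ∀ q : {q : Q // f * (t * ((q : L) : Y) * t⁻¹) = t * ((q : L) : Y) * t⁻¹ * f},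
        α (κ * c' (t * ((q.1 : L) : Y) * t⁻¹)) = β * (κ * c' (t * ((q.1 : L) : Y) * t⁻¹)) := by
      rintro ⟨q, hq⟩
      obtain ⟨b, hb, hbe⟩ := o.QtA q q.2
      obtain ⟨x, hx, hx1⟩ := cd.surjX ![0, 1]
      simp only
      set d := κ * c' (t * ((q : L) : Y) * t⁻¹) with hd
      have hbX : b • x ∈ fx V Q := o.hyp.Xmem hx
      have hg1 : g (b • x) = ![d, 1] := by
        have h3 := cd.κX q q.2 x hx
        have h4 : b • x = ((b • x) + x) + x := by rw [add_assoc, o.two, add_zero]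
        rw [h4, map_add]
        have h5 : g (b • x + x) = ![d * g x 1, 0] := by
          rw [hd, ← h3, ← hbe]; rfl
        rw [h5, hx1]
        ext i
        fin_cases i
        · change d * 1 + 0 = d
          ring
        · exact zero_add _
      have hbfX : f • x ∈ fx V Q := NX_smul hfN hx
      have hgf : ∀ y (hy : y ∈ fx V Q), g (f • y) = ge e hfN (g y) := by
        intro y hy
        have h5 := hge ⟨y, hy⟩
        have h6 := hge ⟨f • y, NX_smul hfN hy⟩
        change g y = _ at h5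
        change g (f • y) = _ at h6
        rw [h5, h6, ge_e]
        rfl
      have hgf1 : g (f • x) = ![δ, β] := by
        rw [hgf x hx, hx1, hf, map_zero, map_one, mul_one, mul_one, zero_add]
      have h5 : g (f • (b • x)) = ![α d + δ, β] := by
        rw [hgf _ hbX, hg1, hf, map_one, mul_one, mul_one]
      have h6 : g (b • (f • x)) = ![d * β + δ, β] := by
        have h3 := cd.κX q q.2 _ hbfX
        have h4 : b • (f • x) = ((b • (f • x)) + f • x) + f • x := by rw [add_assoc, o.two, add_zero]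
        rw [h4, map_add]
        have h5 : g (b • (f • x) + f • x) = ![d * g (f • x) 1, 0] := by
          rw [hd, ← h3, ← hbe]; rfl
        rw [h5, hgf1]
        ext i
        fin_cases i
        · rfl
        · exact zero_add _
      have h7 : f • (b • x) = b • (f • x) := by
        change f • ((b : Y) • x) = (b : Y) • (f • x)
        rw [← mul_smul, ← mul_smul, hbe]
        exact congrArg (· • x) hq
      rw [h7, h6] at h5
      have h8 : d * β + δ = α d + δ := congrFun h5 0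
      rw [← add_right_cancel h8, mul_comm]
    refine Nat.card_le_card_of_injective (fun q => (⟨κ * c' (t * ((q.1 : L) : Y) * t⁻¹), h4 q⟩ : {d : k | α d = β * d})) ?_
    intro q q' hqq
    have h5 : κ * c' (t * ((q.1 : L) : Y) * t⁻¹) = κ * c' (t * ((q'.1 : L) : Y) * t⁻¹) := congrArg Subtype.val hqq
    have h6 := o.c'_inj cd q.1.2 q'.1.2 (mul_left_cancel₀ cd.κ_ne h5)
    exact Subtype.ext (Subtype.ext h6)
  rw [ok.card] at hfix
  calc _ = Nat.card {q : Q // f * (t * ((q : L) : Y) * t⁻¹) = t * ((q : L) : Y) * t⁻¹ * f} *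
        Nat.card {q : Q // f * (t * ((q : L) : Y) * t⁻¹) = t * ((q : L) : Y) * t⁻¹ * f} := pow_two _
    _ ≤ _ := Nat.mul_le_mul h2 h2
    _ ≤ _ := hfix

omit o in
theorem mem_cent {f y : Y} : y ∈ centralizer ({f} : Set Y) ↔ f * y = y * f := by
  rw [mem_centralizer_iff]
  simp

theorem inf_S [Finite Y] [Finite V] {y : Y} (hy : y ∈ Q.map L.subtype) (hy' : y ∈ MulAut.conj t • Q.map L.subtype) :
    y = 1 := by
  obtain ⟨q, hq, rfl⟩ := hy
  rw [mem_conj] at hy'
  obtain ⟨q', hq', h1⟩ := hy'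
  have h2 : q = 1 := o.inf1 q hq q' hq' (by
    have h3 : (q' : Y) = t⁻¹ * q * t := h1
    rw [h3]; group)
  rw [h2]; rfl

theorem cS [Finite Y] : Nat.card (Q.map L.subtype) = E.index := by
  rw [← o.cQ]
  exact Nat.card_congr (Q.equivMapOfInjective _ L.subtype_injective).symm.toEquiv

theorem cAY [Finite Y] : Nat.card (A.map L.subtype) = E.index ^ 2 := by
  rw [← o.cA]
  exact Nat.card_congr (A.equivMapOfInjective _ L.subtype_injective).symm.toEquiv

theorem SA : Q.map L.subtype ≤ A.map L.subtype := map_mono o.QA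

theorem S'A [Finite Y] : MulAut.conj t • Q.map L.subtype ≤ A.map L.subtype := by
  rw [← o.tAY]
  exact conj_le_conj t o.SA

/-- `|C_{S^t}(f)|² ≤ a` -/
theorem card_cS' [Finite Y] [Finite V] {f : Y} (hfT : f ∈ T) (hfN : f ∈ NX L V Q) (hfF : ∃ w ∈ F, f • w ≠ w) :
    Nat.card ↥((MulAut.conj t • Q.map L.subtype) ⊓ centralizer ({f} : Set Y)) ^ 2 ≤ E.index := by
  refine le_trans (Nat.pow_le_pow_left ?_ 2) (o.card_cent hfT hfN hfF)
  have h1 : ∀ y : ↥((MulAut.conj t • Q.map L.subtype) ⊓ centralizer ({f} : Set Y)),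
      ∃ q : Q, (y : Y) = t * ((q : L) : Y) * t⁻¹ := by
    rintro ⟨y, hy0⟩
    have hy := hy0.1
    rw [SetLike.mem_coe, mem_toSubmonoid, mem_conj] at hy
    obtain ⟨q, hq, h1⟩ := hy
    refine ⟨⟨q, hq⟩, ?_⟩
    have h2 : (q : Y) = t⁻¹ * y * t := h1
    change y = t * (q : Y) * t⁻¹
    rw [h2]; group
  choose s hs using h1
  refine Nat.card_le_card_of_injective (fun y => (⟨s y, by
    rw [← hs y]
    exact mem_cent.1 y.2.2⟩ : {q : Q // f * (t * ((q : L) : Y) * t⁻¹) = t * ((q : L) : Y) * t⁻¹ * f})) ?_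
  intro y y' hyy
  have h2 : s y = s y' := congrArg Subtype.val hyy
  apply Subtype.ext
  rw [hs y, hs y', h2]

/-- `|C_S(f)|² ≤ a` -/
theorem card_cS [Finite Y] [Finite V] (ha : 4 ≤ E.index) {f : Y} (hfT : f ∈ T) (hfN : f ∈ NX L V Q)
    (hfF : ∃ w ∈ F, f • w ≠ w) :
    Nat.card ↥(Q.map L.subtype ⊓ centralizer ({f} : Set Y)) ^ 2 ≤ E.index := by
  have h0 : MulAut.conj t⁻¹ • Q.map L.subtype = MulAut.conj t • Q.map L.subtype := by
    have h1 := congrArg (fun P : Subgroup Y => MulAut.conj t⁻¹ • P) (o.S_tt ha)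
    simp only [conj_inv_conj] at h1
    exact h1.symm
  refine le_trans (Nat.pow_le_pow_left ?_ 2) (o.card_cS' (f := t⁻¹ * f * t)
    (mul_mem (mul_mem (inv_mem o.tk.tT) hfT) o.tk.tT) (o.tk.cj' f hfT hfN) ?_)
  · refine Nat.card_le_card_of_injective (fun y => (⟨t⁻¹ * (y : Y) * t, ?_, ?_⟩ :
      ↥((MulAut.conj t • Q.map L.subtype) ⊓ centralizer ({t⁻¹ * f * t} : Set Y)))) ?_
    · rw [← h0]
      have h1 := conj_mem_conj (g := t⁻¹) y.2.1
      rwa [inv_inv] at h1
    · have h1 := mem_cent.1 y.2.2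
      apply mem_cent.2
      have e1 : t⁻¹ * f * t * (t⁻¹ * (y : Y) * t) = t⁻¹ * (f * y) * t := by group
      have e2 : t⁻¹ * (y : Y) * t * (t⁻¹ * f * t) = t⁻¹ * (y * f) * t := by group
      rw [e1, e2, h1]
    · intro y y' hyy
      have h1 : t⁻¹ * (y : Y) * t = t⁻¹ * (y' : Y) * t := congrArg Subtype.val hyy
      exact Subtype.ext (mul_left_cancel (mul_right_cancel h1))
  · obtain ⟨w, hw, hw1⟩ := hfF
    refine ⟨t⁻¹ • w, ?_, ?_⟩
    · rw [← mem_smul_as, o.tF]
      exact hw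
    · intro h1
      apply hw1
      rw [mul_smul, mul_smul, smul_inv_smul, smul_left_cancel_iff] at h1
      exact h1

/-- `|C_A(f)| ≤ a` -/
theorem card_cA [Finite Y] [Finite V] (ha : 4 ≤ E.index) {f : Y} (hfT : f ∈ T) (hfN : f ∈ NX L V Q)
    (hfF : ∃ w ∈ F, f • w ≠ w) : Nat.card ↥(A.map L.subtype ⊓ centralizer ({f} : Set Y)) ≤ E.index := by
  obtain ⟨n1, n2⟩ := o.NX_S ha (o.TX_A hfT hfN) hfN
  set S := Q.map L.subtype with hS
  set S' := MulAut.conj t • S with hS'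
  have h1 : ∀ y : ↥(A.map L.subtype ⊓ centralizer ({f} : Set Y)), ∃ (s : ↥(S ⊓ centralizer ({f} : Set Y)))
      (s' : ↥(S' ⊓ centralizer ({f} : Set Y))), (y : Y) = s * s' := by
    rintro ⟨y, hy, hyc⟩
    obtain ⟨q, hq, q', hq', h2⟩ := o.mem_A hy
    set r := t * (q' : Y) * t⁻¹ with hr
    have hqS : (q : Y) ∈ S := ⟨q, hq, rfl⟩
    have hrS : r ∈ S' := conj_mem_conj ⟨q', hq', rfl⟩
    have h3 : f * q * f⁻¹ ∈ S := by
      rw [← n1]; exact conj_mem_conj hqS
    have h4 : f * r * f⁻¹ ∈ S' := by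
      rw [← n2]; exact conj_mem_conj hrS
    have h5 : (f * q * f⁻¹) * (f * r * f⁻¹) = q * r := by
      have h6 := mem_cent.1 hyc
      have e1 : (f * q * f⁻¹) * (f * r * f⁻¹) = f * y * f⁻¹ := by rw [h2]; group
      rw [e1, h6, ← h2]; group
    have h6 : (q : Y)⁻¹ * (f * q * f⁻¹) = r * (f * r * f⁻¹)⁻¹ := by
      rw [inv_mul_eq_iff_eq_mul, ← mul_assoc, eq_mul_inv_iff_mul_eq]
      exact h5
    have h7 : (q : Y)⁻¹ * (f * q * f⁻¹) = 1 := by
      apply o.inf_S (mul_mem (inv_mem hqS) h3)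
      rw [h6]
      exact mul_mem hrS (inv_mem h4)
    rw [h7] at h6
    have h8 : f * q = q * f := by
      have h9 := inv_mul_eq_one.1 h7
      have h10 : f * q * f⁻¹ * f = q * f := by rw [← h9]
      rw [← h10]; group
    have h9 : f * r = r * f := by
      have h10 := mul_inv_eq_one.1 h6.symm
      have h11 : f * r * f⁻¹ * f = r * f := by rw [← h10]
      rw [← h11]; group
    exact ⟨⟨q, hqS, mem_cent.2 h8⟩, ⟨r, hrS, mem_cent.2 h9⟩, h2⟩
  choose s s' hss using h1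
  have h2 : Nat.card ↥(A.map L.subtype ⊓ centralizer ({f} : Set Y)) ≤
      Nat.card (↥(S ⊓ centralizer ({f} : Set Y)) × ↥(S' ⊓ centralizer ({f} : Set Y))) := by
    refine Nat.card_le_card_of_injective (fun y => (s y, s' y)) ?_
    intro y y' hyy
    apply Subtype.ext
    have h3 : s y = s y' := congrArg Prod.fst hyy
    have h4 : s' y = s' y' := congrArg Prod.snd hyy
    rw [hss y, hss y', h3, h4]
  rw [Nat.card_prod] at h2
  have h3 := o.card_cS ha hfT hfN hfF
  have h4 := o.card_cS' hfT hfN hfF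
  have h5 : (Nat.card ↥(S ⊓ centralizer ({f} : Set Y)) * Nat.card ↥(S' ⊓ centralizer ({f} : Set Y))) ^ 2 ≤
      E.index ^ 2 := by
    rw [mul_pow, pow_two E.index]
    exact Nat.mul_le_mul h3 h4
  exact h2.trans ((Nat.pow_le_pow_iff_left two_ne_zero).1 h5)

/-- at most one field involution -/
theorem card_semi [Finite Y] [Finite V] {B : Subgroup Y} (hBT : B ≤ T) (hBN : B ≤ NX L V Q)
    (hB : ∀ b ∈ B, b * b = 1) : Nat.card B ≤ 2 * Nat.card ↥(B ⊓ fixingSubgroup Y (F : Set V)) := by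
  obtain ⟨k, i1, i2, i3, e, K, φ, ok, ez⟩ := o.exists_K
  have hc := o.co_of ok ez
  apply card_le_two
  intro p hp p' hp' hpI hp'I
  suffices hsuf : p⁻¹ * p' ∈ fixingSubgroup Y (F : Set V) from mem_inf.2 ⟨mul_mem (inv_mem hp) hp', hsuf⟩
  obtain ⟨α, β, δ, hβ, hf⟩ := o.hyp.semi hc (hBN hp) (o.hyp.zT p (hBT hp))
  obtain ⟨α', β', δ', hβ', hf'⟩ := o.hyp.semi hc (hBN hp') (o.hyp.zT p' (hBT hp'))
  -- action on `F`
  have key : ∀ (p : Y) (hpN : p ∈ NX L V Q) (α : k →+* k) (β δ : k)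
      (_ : ∀ x y', ge e hpN ![x, y'] = ![α x + δ * α y', β * α y']) (w : V) (hw : w ∈ F),
      e ⟨p • w, NX_smul hpN (o.FX hw)⟩ = ![α (e ⟨w, o.FX hw⟩ 0), 0] := by
    intro p hpN α β δ hf w hw
    have h1 := (hc.memF ⟨w, o.FX hw⟩).1 hw
    have h2 : ge e hpN (e ⟨w, o.FX hw⟩) = ![α (e ⟨w, o.FX hw⟩ 0), 0] := by
      rw [vec_eq (e ⟨w, o.FX hw⟩), h1, hf, map_zero, mul_zero, mul_zero, add_zero]
      rfl
    rw [ge_e] at h2
    exact h2
  have hinv : ∀ (p : Y) (hpN : p ∈ NX L V Q) (_ : p * p = 1) (α : k →+* k) (β δ : k)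
      (_ : ∀ x y', ge e hpN ![x, y'] = ![α x + δ * α y', β * α y']), ∀ x, α (α x) = x := by
    intro p hpN hpp α β δ hf x
    have h1 := hf x 0
    rw [map_zero, mul_zero, mul_zero, add_zero] at h1
    have h2 := hf (α x) 0
    rw [map_zero, mul_zero, mul_zero, add_zero, ← h1] at h2
    have h3 : ge e hpN (ge e hpN ![x, 0]) = ![x, 0] := by
      rw [ge_apply, ge_apply, AddEquiv.symm_apply_apply]
      have h4 : gy hpN (gy hpN (e.symm ![x, 0])) = e.symm ![x, 0] := by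
        apply Subtype.ext
        rw [gy_apply, gy_apply, ← mul_smul, hpp, one_smul]
      rw [h4, AddEquiv.apply_symm_apply]
    rw [h3] at h2
    exact (congrFun h2 0).symm
  have hne : ∀ (p : Y) (hpN : p ∈ NX L V Q) (_ : p ∉ fixingSubgroup Y (F : Set V)) (α : k →+* k) (β δ : k)
      (_ : ∀ x y', ge e hpN ![x, y'] = ![α x + δ * α y', β * α y']), α ≠ RingHom.id k := by
    intro p hpN hpF α β δ hf h1
    apply hpF
    rw [mem_fixingSubgroup_iff]
    intro w hw
    have h2 := key p hpN α β δ hf w hw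
    rw [h1] at h2
    have h3 := (hc.memF ⟨w, o.FX hw⟩).1 hw
    have h4 : ![(RingHom.id k) (e ⟨w, o.FX hw⟩ 0), 0] = e ⟨w, o.FX hw⟩ := by
      conv_rhs => rw [vec_eq (e ⟨w, o.FX hw⟩), h3]
      rfl
    rw [h4] at h2
    exact congrArg Subtype.val (e.injective h2)
  have hα := hinv p _ (hB p hp) α β δ hf
  have hα' := hinv p' _ (hB p' hp') α' β' δ' hf'
  have hα1 := hne p _ (fun h1 => hpI ⟨hp, h1⟩) α β δ hf
  have hα1' := hne p' _ (fun h1 => hp'I ⟨hp', h1⟩) α' β' δ' hf'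
  have hαα : α = α' := by
    by_contra hneq
    have h1 := card_inv_le (F := k) ({RingHom.id k, α, α'} : Set (k →+* k)) (by
      rintro γ (rfl | rfl | rfl) x
      · rfl
      · exact hα x
      · exact hα' x)
    rw [Nat.card_coe_set_eq, Set.ncard_eq_three.2 ⟨_, _, _, hα1.symm, hα1'.symm, hneq, rfl⟩] at h1
    omega
  rw [mem_fixingSubgroup_iff]
  intro w hw
  have h1 := key p _ α β δ hf w hw
  have h2 := key p' _ α' β' δ' hf' w hw
  rw [← hαα, ← h1] at h2
  have h3 : p' • w = p • w := congrArg Subtype.val (e.injective h2)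
  rw [mul_smul, h3, inv_smul_smul]

/-- **(8), (8+) : `T` normalises `A`** (`a ≥ 4`) -/
theorem TA [Finite Y] [Finite V] (ha : 4 ≤ E.index) {x : Y} (hx : x ∈ T) :
    MulAut.conj x • A.map L.subtype = A.map L.subtype := by
  set N : Subgroup Y := (MulAction.stabilizer (MulAut Y) (A.map L.subtype)).comap MulAut.conj with hN
  have hNm : ∀ y, y ∈ N ↔ MulAut.conj y • A.map L.subtype = A.map L.subtype := fun _ => Iff.rfl
  by_contra hx1
  obtain ⟨⟨r, hr⟩, h1, -, h3⟩ := exists_sq T.2 (N.subgroupOf T) (by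
    rw [Ne, subgroupOf_eq_top]
    exact fun h2 => hx1 ((hNm x).1 (h2 hx)))
  have hrN : r ∉ N := fun h4 => h1 (mem_subgroupOf.2 h4)
  have hAN : A.map L.subtype ≤ N := fun y hy => (hNm y).2 (o.TX_A (o.AT' hy) (o.AN' hy))
  set P : Subgroup Y := MulAut.conj r • A.map L.subtype with hP
  have hPA : ∀ p ∈ P, ∃ y ∈ A.map L.subtype, p = r * y * r⁻¹ := by
    intro p hp
    rw [hP, mem_conj] at hp
    exact ⟨_, hp, by group⟩
  have hPT : P ≤ T := by
    intro p hp
    obtain ⟨y, hy, rfl⟩ := hPA p hp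
    exact mul_mem (mul_mem hr (o.AT' hy)) (inv_mem hr)
  have hPN : P ≤ N := by
    intro p hp
    obtain ⟨y, hy, rfl⟩ := hPA p hp
    have h4 := (h3 ⟨y, o.AT' hy⟩).1 (mem_subgroupOf.2 (hAN hy))
    exact mem_subgroupOf.1 h4
  have hPsq : ∀ p ∈ P, p * p = 1 := by
    intro p hp
    obtain ⟨y, ⟨a, ha', rfl⟩, rfl⟩ := hPA p hp
    have h4 : (a : Y) * a = 1 := congrArg Subtype.val (o.hyp.loc.mem.sq a ha')
    change r * (a : Y) * r⁻¹ * (r * (a : Y) * r⁻¹) = 1
    have e1 : r * (a : Y) * r⁻¹ * (r * (a : Y) * r⁻¹) = r * ((a : Y) * a) * r⁻¹ := by group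
    rw [e1, h4]; group
  have hPc : ∀ p ∈ P, ∀ p' ∈ P, p * p' = p' * p := by
    intro p hp p' hp'
    have hi : p⁻¹ = p := inv_eq_of_mul_eq_one_left (hPsq p hp)
    have hi' : p'⁻¹ = p' := inv_eq_of_mul_eq_one_left (hPsq p' hp')
    have hpi : (p * p')⁻¹ = p * p' := inv_eq_of_mul_eq_one_left (hPsq _ (mul_mem hp hp'))
    rw [← hpi, mul_inv_rev, hi, hi']
  have hPcard : Nat.card P = E.index ^ 2 := by rw [hP, card_conj, o.cAY]
  have hPne : ¬ P ≤ A.map L.subtype := fun h4 =>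
    hrN ((hNm r).2 (eq_of_le_of_card_ge h4 (by rw [hPcard, o.cAY])))
  set B : Subgroup Y := P ⊓ NX L V Q with hB
  set I : Subgroup Y := B ⊓ fixingSubgroup Y (F : Set V) with hI
  have c1 : Nat.card P ≤ 2 * Nat.card B := by
    apply card_le_two
    intro p hp p' hp' hpB hp'B
    refine mem_inf.2 ⟨mul_mem (inv_mem hp) hp', ?_⟩
    have h4 := (o.NA_X ha ((hNm p).1 (hPN hp))).resolve_left fun h5 => hpB ⟨hp, h5⟩
    have h5 := (o.NA_X ha ((hNm p').1 (hPN hp'))).resolve_left fun h5 => hp'B ⟨hp', h5⟩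
    have h6 := mul_mem (inv_mem h4) h5
    have e1 : (t⁻¹ * p)⁻¹ * (t⁻¹ * p') = p⁻¹ * p' := by group
    rwa [e1] at h6
  have c2 : Nat.card B ≤ 2 * Nat.card I :=
    o.card_semi (inf_le_left.trans hPT) inf_le_right fun b hb => hPsq b hb.1
  have hIA : I ≤ A.map L.subtype := by
    rintro y ⟨⟨hyP, hyN⟩, hyF⟩
    exact o.memA_of (hPT hyP) hyN fun f hf => (mem_fixingSubgroup_iff Y).1 hyF f hf
  -- (ii)
  have hii : ∀ p₀ ∈ P, p₀ ∉ NX L V Q → I ⊓ Q.map L.subtype = ⊥ := by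
    intro p₀ hp₀ hp₀X
    rw [eq_bot_iff]
    rintro s ⟨hsI, hsS⟩
    rw [mem_bot]
    have h4 := o.not_NX_S ha ((hNm p₀).1 (hPN hp₀)) hp₀X
    apply o.inf_S hsS
    rw [← h4.1]
    have h5 := conj_mem_conj (g := p₀) hsS
    have h6 : p₀ * s * p₀⁻¹ = s := by
      rw [hPc p₀ hp₀ s hsI.1.1, mul_inv_cancel_right]
    rwa [h6] at h5
  have hii' : ∀ p₀ ∈ P, p₀ ∉ NX L V Q → Nat.card I ≤ E.index := by
    intro p₀ hp₀ hp₀X
    have h4 := card_mul_le hIA o.SA
    rw [hii p₀ hp₀ hp₀X, o.cAY, o.cS, card_bot, mul_one, pow_two] at h4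
    exact Nat.le_of_mul_le_mul_right h4 (by omega)
  -- (iii)
  have hiii : ∀ f₀ ∈ B, f₀ ∉ fixingSubgroup Y (F : Set V) → I ≤ A.map L.subtype ⊓ centralizer ({f₀} : Set Y) ∧
      Nat.card ↥(A.map L.subtype ⊓ centralizer ({f₀} : Set Y)) ≤ E.index := by
    intro f₀ hf₀ hf₀F
    refine ⟨fun y hy => ⟨hIA hy, mem_cent.2 (hPc f₀ hf₀.1 y hy.1.1)⟩, ?_⟩
    apply o.card_cA ha (hPT hf₀.1) hf₀.2
    by_contra h4
    push Not at h4
    exact hf₀F ((mem_fixingSubgroup_iff Y).2 h4)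
  by_cases hp : ∃ p₀ ∈ P, p₀ ∉ NX L V Q <;> by_cases hf : ∃ f₀ ∈ B, f₀ ∉ fixingSubgroup Y (F : Set V)
  · obtain ⟨p₀, hp₀, hp₀X⟩ := hp
    obtain ⟨f₀, hf₀, hf₀F⟩ := hf
    have h4 := hii' p₀ hp₀ hp₀X
    obtain ⟨h5, h6⟩ := hiii f₀ hf₀ hf₀F
    have h7 : E.index ≤ Nat.card I := by
      rw [hPcard] at c1
      have h8 : E.index * E.index ≤ 4 * Nat.card I := by rw [← pow_two]; omega
      nlinarith
    have h8 : I = A.map L.subtype ⊓ centralizer ({f₀} : Set Y) := eq_of_le_of_card_ge h5 (h6.trans h7)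
    -- `C_S(f₀) ≠ 1`
    obtain ⟨n1, n2⟩ := o.NX_S ha ((hNm f₀).1 (hPN hf₀.1)) hf₀.2
    obtain ⟨q, hq, hq1⟩ := o.hyp.exists_q o.tk
    have hqS : (q : Y) ∈ Q.map L.subtype := ⟨q, hq, rfl⟩
    have hqq : (q : Y) * q = 1 := congrArg Subtype.val (o.hyp.loc.mem.sq q (o.QA hq))
    have hff := hPsq f₀ hf₀.1
    have hfi : f₀⁻¹ = f₀ := inv_eq_of_mul_eq_one_left hff
    have hcS : ∀ s ∈ Q.map L.subtype, f₀ * s = s * f₀ → s = 1 := by
      intro s hs hsf
      have h9 : s ∈ I ⊓ Q.map L.subtype := ⟨by rw [h8]; exact ⟨o.SA hs, mem_cent.2 hsf⟩, hs⟩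
      rw [hii p₀ hp₀ hp₀X, mem_bot] at h9
      exact h9
    have hfq : f₀ * q * f₀⁻¹ ∈ Q.map L.subtype := by rw [← n1]; exact conj_mem_conj hqS
    -- `q q^f`
    have h9 := hcS (q * (f₀ * q * f₀⁻¹)) (mul_mem hqS hfq) (by
      obtain ⟨q', hq', h10⟩ := hfq
      have h10' : (q' : Y) = f₀ * q * f₀⁻¹ := h10
      have h11 : (q : Y) * q' = q' * q := congrArg Subtype.val (o.Qz q hq q')
      rw [h10'] at h11
      have e1 : f₀ * (q * (f₀ * q * f₀⁻¹)) = (f₀ * q * f₀⁻¹) * (f₀ * f₀) * q * f₀⁻¹ := by group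
      rw [e1, hff, mul_one, hfi]
      rw [hfi] at h11
      rw [h11])
    have h10 : f₀ * q * f₀⁻¹ = q := by
      have h11 : (q : Y)⁻¹ = q := inv_eq_of_mul_eq_one_left hqq
      rw [mul_eq_one_iff_eq_inv', h11] at h9
      exact h9
    have h11 := hcS q hqS (by
      have h12 := congrArg (· * f₀) h10
      simpa using h12)
    exact hq1 (Subtype.ext h11)
  · obtain ⟨p₀, hp₀, hp₀X⟩ := hp
    push Not at hf
    have h4 := hii' p₀ hp₀ hp₀X
    have h5 : B ≤ I := fun b hb => ⟨hb, hf b hb⟩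
    have h6 := Subgroup.card_le_of_le h5
    rw [hPcard, pow_two] at c1
    have h7 : E.index * E.index ≤ 2 * E.index := c1.trans (by omega)
    have h8 := Nat.le_of_mul_le_mul_right h7 (by omega)
    omega
  · obtain ⟨f₀, hf₀, hf₀F⟩ := hf
    push Not at hp
    obtain ⟨h5, h6⟩ := hiii f₀ hf₀ hf₀F
    have h7 := Subgroup.card_le_of_le h5
    have h8 : P ≤ B := fun p hp' => ⟨hp', hp p hp'⟩
    have h9 := Subgroup.card_le_of_le h8
    rw [hPcard, pow_two] at h9
    have h10 : E.index * E.index ≤ 2 * E.index := h9.trans (by omega)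
    have h11 := Nat.le_of_mul_le_mul_right h10 (by omega)
    omega
  · push Not at hp hf
    apply hPne
    intro p hp'
    exact hIA ⟨⟨hp', hp p hp'⟩, hf p ⟨hp', hp p hp'⟩⟩

/-- **`T = T_X ∪ t T_X`** (`a ≥ 4`) -/
theorem T_cases [Finite Y] [Finite V] (ha : 4 ≤ E.index) {x : Y} (hx : x ∈ T) :
    x ∈ NX L V Q ∨ t⁻¹ * x ∈ NX L V Q := o.NA_X ha (o.TA ha hx)

end Out

end Cfsg.Agent.Omega.NO1.B0

end
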