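import Mathlib
import Cfsg.Agent.Mrg.Omega.NO1.AB.Beta
import Cfsg.Agent.Mrg.Omega.FF.TvBasic
import Cfsg.Agent.Solvable.Gaschutz

-- merged: Cfsg.Agent.Omega.NO1.B0.Pure
section

/-!
# N1, THEOREM B0 (bb OMEGA #18835, helper970), step (0)/(1): semilinear maps of `F²`, pure part

`semi`: an additive injective map of `F²` mapping lines to lines and fixing `(1,0)` is
`(x, y) ↦ (α x + δ α y, β α y)` with `α` a ring homomorphism.
-/

set_option autoImplicit false
set_option linter.unusedSectionVars false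
set_option linter.style.haveILetI false

namespace Cfsg.Agent.Omega.NO1.B0

variable {F : Type*} [Field F] [Finite F]

theorem vec_eq (v : Fin 2 → F) : v = ![v 0, v 1] := by
  ext i; fin_cases i <;> rfl

omit [Finite F] in
theorem smul_vec (k x y : F) : k • ![x, y] = ![k * x, k * y] := by
  ext i; fin_cases i <;> rfl

omit [Finite F] in
theorem add_vec (x y x' y' : F) : ![x, y] + ![x', y'] = ![x + x', y + y'] := by
  ext i; fin_cases i <;> rfl

omit [Finite F] in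
theorem vec_inj {x y x' y' : F} (h : ![x, y] = ![x', y']) : x = x' ∧ y = y' :=
  ⟨congrFun h 0, congrFun h 1⟩

theorem semi (g : (Fin 2 → F) →+ (Fin 2 → F)) (hinj : Function.Injective g)
    (hline : ∀ (v : Fin 2 → F) (k : F), ∃ k' : F, g (k • v) = k' • g v) (h1 : g ![1, 0] = ![1, 0]) :
    ∃ (α : F →+* F) (β δ : F), β ≠ 0 ∧ ∀ x y, g ![x, y] = ![α x + δ * α y, β * α y] := by
  -- first coordinate
  have hx : ∀ x, g ![x, 0] = ![g ![x, 0] 0, 0] := by
    intro x
    obtain ⟨k, hk⟩ := hline ![1, 0] x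
    rw [smul_vec, mul_one, mul_zero, h1, smul_vec, mul_one, mul_zero] at hk
    rw [hk]; rfl
  set δ := g ![0, 1] 0 with hδ
  set β := g ![0, 1] 1 with hβ
  have h01 : g ![0, 1] = ![δ, β] := vec_eq _
  have hαinj : Function.Injective (fun x : F => g ![x, 0] 0) := by
    intro x y hxy
    have h2 : g ![x, 0] = g ![y, 0] := by
      rw [hx x, hx y]; exact congrArg (fun c => ![c, 0]) hxy
    exact (vec_inj (hinj h2)).1
  have hβ0 : β ≠ 0 := by
    intro h0
    obtain ⟨x, hx'⟩ := (Finite.injective_iff_surjective.1 hαinj) δ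
    have h2 : g ![x, 0] = g ![0, 1] := by
      rw [hx x, h01, h0]; exact congrArg (fun c => ![c, 0]) hx'
    exact zero_ne_one (vec_inj (hinj h2)).2
  have hadd : ∀ x y : F, g ![x, y] = g ![x, 0] + g ![0, y] := by
    intro x y
    rw [← map_add, add_vec, add_zero, zero_add]
  have hy : ∀ y, g ![0, y] = ![δ * g ![y, 0] 0, β * g ![y, 0] 0] := by
    intro y
    obtain ⟨k, hk⟩ := hline ![0, 1] y
    rw [smul_vec, mul_one, mul_zero, h01, smul_vec] at hk
    obtain ⟨k', hk'⟩ := hline ![1, 1] y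
    rw [smul_vec, mul_one, hadd y y, hk, hadd 1 1, h1, h01, hx y, add_vec, add_vec, smul_vec] at hk'
    obtain ⟨e1, e2⟩ := vec_inj hk'
    rw [zero_add, zero_add] at e2
    have h2 : k = k' := mul_right_cancel₀ hβ0 e2
    subst h2
    have h3 : g ![y, 0] 0 = k := by
      have : g ![y, 0] 0 + k * δ = k + k * δ := by rw [e1]; ring
      exact add_right_cancel this
    rw [hk, h3, mul_comm, mul_comm k β]
  have hα1 : g ![1, 0] 0 = 1 := by rw [h1]; rfl
  have hmul : ∀ m y : F, g ![y * m, 0] 0 = g ![y, 0] 0 * g ![m, 0] 0 := by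
    intro m y
    obtain ⟨k, hk⟩ := hline ![m, 1] y
    rw [smul_vec, mul_one, hadd (y * m) y, hy y, hadd m 1, hy 1, hα1, hx (y * m), hx m, add_vec,
      add_vec, smul_vec] at hk
    obtain ⟨e1, e2⟩ := vec_inj hk
    rw [zero_add, zero_add, mul_one] at e2
    have h2 : g ![y, 0] 0 = k := by
      have : β * g ![y, 0] 0 = β * k := by rw [e2]; ring
      exact mul_left_cancel₀ hβ0 this
    rw [← h2] at e1
    have : g ![y * m, 0] 0 + δ * g ![y, 0] 0 =
        g ![y, 0] 0 * g ![m, 0] 0 + δ * g ![y, 0] 0 := by rw [e1]; ring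
    exact add_right_cancel this
  let α : F →+* F :=
    { toFun := fun x => g ![x, 0] 0
      map_one' := hα1
      map_mul' := fun x y => hmul y x
      map_zero' := by
        have : (![0, 0] : Fin 2 → F) = 0 := by ext i; fin_cases i <;> rfl
        rw [this, map_zero]; rfl
      map_add' := fun x y => by
        have : ![x + y, 0] = ![x, 0] + ![y, (0 : F)] := by rw [add_vec, add_zero]
        rw [this, map_add]; rfl }
  refine ⟨α, β, δ, hβ0, fun x y => ?_⟩
  rw [hadd x y, hx x, hy y, add_vec, zero_add]; rfl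

/-- the number of ring endomorphisms of order `≤ 2` is at most 2 -/
theorem card_inv_le [CharP F 2] (S : Set (F →+* F)) (hS : ∀ α ∈ S, ∀ x, α (α x) = x) :
    Nat.card S ≤ 2 := by
  classical
  letI : Algebra (ZMod 2) F := ZMod.algebra F 2
  haveI : Fintype (F ≃ₐ[ZMod 2] F) := Fintype.ofFinite _
  let φ : S → (F ≃ₐ[ZMod 2] F) := fun α =>
    { toFun := α.1
      invFun := α.1
      left_inv := hS α.1 α.2
      right_inv := hS α.1 α.2
      map_mul' := map_mul α.1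
      map_add' := map_add α.1
      commutes' := fun r => by
        change α.1 (algebraMap (ZMod 2) F r) = algebraMap (ZMod 2) F r
        exact congrFun (congrArg DFunLike.coe (RingHom.ext_zmod (α.1.comp (algebraMap (ZMod 2) F))
          (algebraMap (ZMod 2) F))) r }
  have hφ : Function.Injective φ := by
    intro α β h
    apply Subtype.ext
    ext x
    exact DFunLike.congr_fun h x
  have h2 : ∀ α, (φ α) ^ 2 = 1 := by
    intro α
    ext x
    rw [pow_two]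
    exact hS α.1 α.2 x
  have h3 := IsCyclic.card_pow_eq_one_le (α := F ≃ₐ[ZMod 2] F) (n := 2) (by norm_num)
  have h4 : Nat.card S ≤ Nat.card {a : F ≃ₐ[ZMod 2] F // a ∈ (Finset.univ.filter fun a => a ^ 2 = 1)} := by
    refine Nat.card_le_card_of_injective (fun α => ⟨φ α, by simp [h2]⟩) ?_
    intro α β h
    exact hφ (congrArg Subtype.val h)
  have h5 : Nat.card {a : F ≃ₐ[ZMod 2] F // a ∈ (Finset.univ.filter fun a => a ^ 2 = 1)} =
      (Finset.univ.filter fun a : F ≃ₐ[ZMod 2] F => a ^ 2 = 1).card := by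
    rw [Nat.card_eq_fintype_card, Fintype.card_coe]
  rw [h5] at h4
  exact h4.trans h3

theorem exists_vec (v : Fin 2 → F) : ∃ x y, v = ![x, y] := ⟨v 0, v 1, vec_eq v⟩

/-- sets on which the quotients lie in `Fx` -/
theorem card_le_of_ratio {Fx D : Set F} (h0 : (0 : F) ∈ Fx)
    (h : ∀ d ∈ D, ∀ d' ∈ D, d' ≠ 0 → d / d' ∈ Fx) : Nat.card D ≤ Nat.card Fx := by
  by_cases hD : ∃ d' ∈ D, d' ≠ 0
  · obtain ⟨d', hd', hne⟩ := hD
    refine Nat.card_le_card_of_injective (fun d : D => (⟨d.1 / d', h d.1 d.2 d' hd' hne⟩ : Fx)) ?_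
    intro a b hab
    have := congrArg Subtype.val hab
    simp only at this
    exact Subtype.ext ((div_left_inj' hne).1 this)
  · push Not at hD
    refine Nat.card_le_card_of_injective (fun _ : D => (⟨0, h0⟩ : Fx)) ?_
    intro a b _
    exact Subtype.ext ((hD a.1 a.2).trans (hD b.1 b.2).symm)

/-- **PL2** -/
theorem triv_of_mu [CharP F 2] {P : Type*} [Group P] [Finite P]
    (g : P → ((Fin 2 → F) →+ (Fin 2 → F))) (h1 : ∀ v, g 1 v = v)
    (hmul : ∀ p q v, g (p * q) v = g p (g q v)) (hsq : ∀ p : P, p * p = 1)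
    (hform : ∀ p, ∃ (α : F →+* F) (β δ : F), β ≠ 0 ∧ ∀ x y, g p ![x, y] = ![α x + δ * α y, β * α y])
    (hmu : Nat.card {p : P | ∀ v, g p v = v} * Nat.card F ^ 2 ≤
      Nat.card P * Nat.card {v : Fin 2 → F | ∀ p, g p v = v}) (p : P) (x : F) :
    g p ![x, 0] = ![x, 0] := by
  classical
  have hcomm : ∀ p q : P, p * q = q * p := by
    intro p q
    have hp : p⁻¹ = p := inv_eq_of_mul_eq_one_left (hsq p)
    have hq : q⁻¹ = q := inv_eq_of_mul_eq_one_left (hsq q)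
    have hpq : (p * q)⁻¹ = p * q := inv_eq_of_mul_eq_one_left (hsq _)
    rw [← hpq, mul_inv_rev, hp, hq]
  have hinv : ∀ p v, g p (g p v) = v := fun p v => by rw [← hmul, hsq, h1]
  by_contra hne
  choose α β δ hβ hg using hform
  have hp0 : ∀ p x, g p ![x, 0] = ![α p x, 0] := by
    intro p x; rw [hg, map_zero, mul_zero, mul_zero, add_zero]
  have hαα : ∀ p x, α p (α p x) = x := by
    intro p x
    have := hinv p ![x, 0]
    rw [hp0, hp0] at this
    exact (vec_inj this).1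
  have hαmul : ∀ p q x, α (p * q) x = α p (α q x) := by
    intro p q x
    have := hmul p q ![x, 0]
    rw [hp0, hp0, hp0] at this
    exact (vec_inj this).1
  have hαne : ∃ x, α p x ≠ x := ⟨x, fun h => hne (by rw [hp0, h])⟩
  -- the kernel of `α`
  let P₀ : Set P := {q | ∀ x, α q x = x}
  have c1 : Nat.card P ≤ 2 * Nat.card P₀ := by
    have h2 := card_inv_le (Set.range α) (by
      rintro _ ⟨q, rfl⟩ x
      exact hαα q x)
    have h3 : Nat.card P ≤ Nat.card (Set.range α × P₀) := by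
      choose r hr using fun s : Set.range α => s.2
      refine Nat.card_le_card_of_injective (fun q : P =>
        ((⟨α q, q, rfl⟩ : Set.range α), (⟨r ⟨α q, q, rfl⟩ * q, fun x => by
          rw [hαmul, hr ⟨α q, q, rfl⟩]; exact hαα q x⟩ : P₀))) ?_
      intro q q' hqq
      have e1 := congrArg (fun s => s.1) hqq
      have e2 := congrArg (fun s => s.2.1) hqq
      simp only at e1 e2
      rw [e1] at e2
      exact mul_left_cancel e2
    rw [Nat.card_prod] at h3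
    calc Nat.card P ≤ _ := h3
      _ ≤ 2 * Nat.card P₀ := Nat.mul_le_mul_right _ h2
  -- the form on `P₀`
  have hP₀ : ∀ q ∈ P₀, ∀ x y, g q ![x, y] = ![x + δ q * y, y] := by
    intro q hq x y
    have h2 := hinv q ![0, 1]
    rw [hg, hg, hq, hq, hq] at h2
    have h3 := (vec_inj h2).2
    rw [hq] at h3
    have h4 : β q = 1 := by
      have h5 : (β q - 1) ^ 2 = 0 := by
        have : (β q - 1) ^ 2 = β q ^ 2 - 1 := by
          have h2 : (2 : F) = 0 := by exact_mod_cast CharP.cast_eq_zero F 2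
          linear_combination (-β q + 1) * h2
        rw [this]
        linear_combination h3
      exact sub_eq_zero.1 (pow_eq_zero_iff (two_ne_zero) |>.1 h5)
    rw [hg, hq, hq, h4, one_mul]
  have hcp : ∀ q ∈ P₀, α p (δ q) = δ q * β p := by
    intro q hq
    have h2 : g p (g q ![0, 1]) = g q (g p ![0, 1]) := by rw [← hmul, hcomm, hmul]
    rw [hP₀ q hq, hg p, hg p, hP₀ q hq] at h2
    have h3 := (vec_inj h2).1
    simp only [zero_add, mul_one, map_zero, map_one] at h3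
    have : α p (δ q) + δ p = δ q * β p + δ p := by rw [h3]; ring
    exact add_right_cancel this
  -- fixed field
  let Fx : AddSubgroup F := { carrier := {x | α p x = x}
                              zero_mem' := map_zero _
                              add_mem' := fun {a b} ha hb => by
                                change α p (a + b) = a + b
                                rw [map_add]; exact congrArg₂ (· + ·) ha hb
                              neg_mem' := fun {a} ha => by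
                                change α p (-a) = -a
                                rw [map_neg]; exact congrArg Neg.neg ha }
  have hFx0 : 0 < Nat.card Fx := Nat.card_pos
  have hr : 2 * Nat.card Fx ≤ Nat.card F := by
    have h2 := Fx.card_mul_index
    have h3 : Fx.index ≠ 1 := by
      intro h3
      rw [AddSubgroup.index_eq_one] at h3
      obtain ⟨x, hx⟩ := hαne
      apply hx
      have : x ∈ Fx := h3 ▸ AddSubgroup.mem_top x
      exact this
    have h4 : Fx.index ≠ 0 := AddSubgroup.index_ne_zero_of_finite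
    rw [← h2, mul_comm]
    exact Nat.mul_le_mul_left _ (by omega)
  let N₀ : Set P := {q | ∀ v, g q v = v}
  let Fix : Set (Fin 2 → F) := {v | ∀ q, g q v = v}
  have hmu' : Nat.card N₀ * Nat.card F ^ 2 ≤ Nat.card P * Nat.card Fix := hmu
  have hN₀pos : 0 < Nat.card N₀ := by
    have : Nonempty N₀ := ⟨⟨1, h1⟩⟩
    exact Nat.card_pos
  have key : Nat.card F ^ 2 ≤ 2 * Nat.card Fx ^ 2 := by
    by_cases hδ : ∀ q ∈ P₀, δ q = 0
    · -- case A
      have h2 : Nat.card P₀ ≤ Nat.card N₀ := by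
        refine Nat.card_le_card_of_injective (fun q : P₀ => (⟨q.1, fun v => by
          obtain ⟨x, y, rfl⟩ := exists_vec v
          rw [hP₀ q.1 q.2, hδ q.1 q.2, zero_mul, add_zero]⟩ : N₀)) ?_
        intro a b hab
        have h3 : a.1 = b.1 := congrArg (fun c : N₀ => c.1) hab
        exact Subtype.ext h3
      have h3 : Nat.card Fix ≤ Nat.card Fx * Nat.card Fx := by
        let Ey : Set F := {y | β p * α p y = y}
        have h4 : Nat.card Ey ≤ Nat.card Fx := by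
          refine card_le_of_ratio (Fx := (Fx : Set F)) Fx.zero_mem ?_
          intro d hd d' hd' hne'
          change α p (d / d') = d / d'
          rw [map_div₀]
          have e1 : α p d = (β p)⁻¹ * d := by
            have : β p * α p d = d := hd
            rw [← this, ← mul_assoc, inv_mul_cancel₀ (hβ p), one_mul, this]
          have e2 : α p d' = (β p)⁻¹ * d' := by
            have : β p * α p d' = d' := hd'
            rw [← this, ← mul_assoc, inv_mul_cancel₀ (hβ p), one_mul, this]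
          rw [e1, e2, mul_div_mul_left _ _ (inv_ne_zero (hβ p))]
        have h5 : Nat.card Fix ≤ Nat.card (Ey × Fx) := by
          have hmem : ∀ v : Fix, β p * α p (v.1 1) = v.1 1 ∧
              α p (v.1 0) + δ p * α p (v.1 1) = v.1 0 := by
            intro v
            have h6 := v.2 p
            obtain ⟨x, y, hxy⟩ := exists_vec v.1
            rw [hxy, hg] at h6
            obtain ⟨e1, e2⟩ := vec_inj h6
            rw [hxy]
            exact ⟨e2, e1⟩
          -- representatives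
          let rep : F → F := fun y => if hy : ∃ v : Fix, v.1 1 = y then hy.choose.1 0 else 0
          have hrep : ∀ v : Fix, α p (rep (v.1 1)) + δ p * α p (v.1 1) = rep (v.1 1) := by
            intro v
            have hy : ∃ v' : Fix, v'.1 1 = v.1 1 := ⟨v, rfl⟩
            have e : rep (v.1 1) = hy.choose.1 0 := by simp only [rep, hy, dite_true]
            rw [e]
            have := (hmem hy.choose).2
            rw [hy.choose_spec] at this
            exact this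
          refine Nat.card_le_card_of_injective (fun v : Fix =>
            ((⟨v.1 1, (hmem v).1⟩ : Ey), (⟨v.1 0 - rep (v.1 1), by
              change α p (v.1 0 - rep (v.1 1)) = v.1 0 - rep (v.1 1)
              rw [map_sub]
              have e1 := (hmem v).2
              have e2 := hrep v
              linear_combination e1 - e2⟩ : Fx))) ?_
          intro a b hab
          have e1 := congrArg (fun s => s.1.1) hab
          have e2 := congrArg (fun s => s.2.1) hab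
          simp only at e1 e2
          rw [e1] at e2
          have e3 := sub_left_injective e2
          apply Subtype.ext
          rw [vec_eq a.1, vec_eq b.1, e1, e3]
        rw [Nat.card_prod] at h5
        exact h5.trans (Nat.mul_le_mul_right _ h4)
      have h4 : Nat.card N₀ * Nat.card F ^ 2 ≤ Nat.card N₀ * (2 * Nat.card Fx ^ 2) := by
        calc Nat.card N₀ * Nat.card F ^ 2 ≤ Nat.card P * Nat.card Fix := hmu'
          _ ≤ (2 * Nat.card N₀) * (Nat.card Fx * Nat.card Fx) :=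
              Nat.mul_le_mul (c1.trans (Nat.mul_le_mul_left _ h2)) h3
          _ = Nat.card N₀ * (2 * Nat.card Fx ^ 2) := by ring
      exact Nat.le_of_mul_le_mul_left h4 hN₀pos
    · -- case B
      push Not at hδ
      obtain ⟨q, hq, hδq⟩ := hδ
      have h3 : Nat.card Fix ≤ Nat.card Fx := by
        have hmem : ∀ v : Fix, v.1 1 = 0 ∧ α p (v.1 0) = v.1 0 := by
          intro v
          obtain ⟨x, y, hxy⟩ := exists_vec v.1
          have h6 := v.2 q
          have h7 := v.2 p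
          rw [hxy] at h6 h7 ⊢
          rw [hP₀ q hq] at h6
          have e1 := (vec_inj h6).1
          have e2 : δ q * y = 0 := by linear_combination e1
          have e3 : y = 0 := (mul_eq_zero.1 e2).resolve_left hδq
          subst e3
          rw [hp0] at h7
          exact ⟨rfl, (vec_inj h7).1⟩
        refine Nat.card_le_card_of_injective (fun v : Fix => (⟨v.1 0, (hmem v).2⟩ : Fx)) ?_
        intro a b hab
        have e1 : a.1 0 = b.1 0 := congrArg Subtype.val hab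
        apply Subtype.ext
        rw [vec_eq a.1, vec_eq b.1, e1, (hmem a).1, (hmem b).1]
      let D : Set F := {d | α p d = d * β p}
      have h4 : Nat.card D ≤ Nat.card Fx := by
        refine card_le_of_ratio (Fx := (Fx : Set F)) Fx.zero_mem ?_
        intro d hd d' hd' hne'
        change α p (d / d') = d / d'
        rw [map_div₀, show α p d = d * β p from hd, show α p d' = d' * β p from hd',
          mul_div_mul_right _ _ (hβ p)]
      have h5 : Nat.card P₀ ≤ Nat.card D * Nat.card N₀ := by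
        rw [← Nat.card_prod]
        have hδm : ∀ a ∈ P₀, ∀ b ∈ P₀, ∀ x y, g (a * b) ![x, y] = ![x + (δ a + δ b) * y, y] := by
          intro a ha b hb x y
          rw [hmul, hP₀ b hb, hP₀ a ha]
          congr 1
          ring
        let r : D → P := fun d => if hd : ∃ a : P₀, δ a.1 = d.1 then hd.choose.1 else 1
        have hr1 : ∀ a : P₀, r ⟨δ a.1, hcp a.1 a.2⟩ ∈ P₀ ∧ δ (r ⟨δ a.1, hcp a.1 a.2⟩) = δ a.1 := by
          intro a
          have hd : ∃ a' : P₀, δ a'.1 = δ a.1 := ⟨a, rfl⟩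
          have e : r ⟨δ a.1, hcp a.1 a.2⟩ = hd.choose.1 := by simp only [r, hd, dite_true]
          rw [e]
          exact ⟨hd.choose.2, hd.choose_spec⟩
        refine Nat.card_le_card_of_injective (fun a : P₀ =>
          ((⟨δ a.1, hcp a.1 a.2⟩ : D), (⟨r ⟨δ a.1, hcp a.1 a.2⟩ * a.1, fun v => by
            obtain ⟨x, y, rfl⟩ := exists_vec v
            rw [hδm _ (hr1 a).1 _ a.2, (hr1 a).2]
            have : δ a.1 + δ a.1 = 0 := CharTwo.add_self_eq_zero _
            rw [this, zero_mul, add_zero]⟩ : N₀))) ?_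
        intro a b hab
        have e1 := congrArg (fun s => s.1) hab
        have e2 := congrArg (fun s => s.2.1) hab
        simp only at e1 e2
        rw [e1] at e2
        exact Subtype.ext (mul_left_cancel e2)
      have h6 : Nat.card N₀ * Nat.card F ^ 2 ≤ Nat.card N₀ * (2 * Nat.card Fx ^ 2) := by
        calc Nat.card N₀ * Nat.card F ^ 2 ≤ Nat.card P * Nat.card Fix := hmu'
          _ ≤ (2 * (Nat.card D * Nat.card N₀)) * Nat.card Fx :=
              Nat.mul_le_mul (c1.trans (Nat.mul_le_mul_left _ h5)) h3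
          _ ≤ (2 * (Nat.card Fx * Nat.card N₀)) * Nat.card Fx := by gcongr
          _ = Nat.card N₀ * (2 * Nat.card Fx ^ 2) := by ring
      exact Nat.le_of_mul_le_mul_left h6 hN₀pos
  nlinarith [key, hr, hFx0]

end Cfsg.Agent.Omega.NO1.B0

end

-- merged: Cfsg.Agent.Mrg.Omega.NO1.B0.Fld
section

section


/-!
# THEOREM B0 (bb OMEGA 18835, helper970): coordinates on `X`

`Loc`, `Beta` with `C = C_V(L) = 0`: `L` acts on `X = C_V(Q)` as `SL₂(K)`, `|K| = |X₁|`, natural module,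
`X₁ = {(x,0)}`.
-/

set_option autoImplicit false
set_option linter.unusedSectionVars false
set_option linter.style.haveILetI false

namespace Cfsg.Agent.Omega.NO1.B0

open Subgroup Cfsg.Agent.Omega.NO1.AB
open scoped Pointwise MatrixGroups

universe u

variable {L : Type u} [Group L] {V : Type u} [AddCommGroup V] [DistribMulAction L V]

/-- the action on an invariant subgroup -/
@[reducible] def actX {X : AddSubgroup V} (hX : ∀ (l : L), ∀ x ∈ X, l • x ∈ X) : DistribMulAction L X where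
  smul l x := ⟨l • (x : V), hX l x x.2⟩
  one_smul x := Subtype.ext (one_smul L (x : V))
  mul_smul l m x := Subtype.ext (mul_smul l m (x : V))
  smul_zero l := Subtype.ext (smul_zero l)
  smul_add l x y := Subtype.ext (smul_add l (x : V) (y : V))

/-- the endomorphism of `X` -/
def endX {X : AddSubgroup V} (hX : ∀ (l : L), ∀ x ∈ X, l • x ∈ X) : L →* (AddMonoid.End X)ˣ :=
  letI := actX hX
  MonoidHom.toHomUnits (DistribMulAction.toAddMonoidEnd L X)

theorem endX_apply {X : AddSubgroup V} (hX : ∀ (l : L), ∀ x ∈ X, l • x ∈ X) (l : L) (x : X) :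
    ((endX hX l • x : X) : V) = l • (x : V) := rfl

section

variable {A : Subgroup L} {E F : AddSubgroup V} {Q L₁ : Subgroup L} {R : Sylow 2 L} {z : V}
  (h : Loc A E F Q L₁ R z) (hb : Beta A E F (fx V Q) Q L₁)
include h hb

theorem exists_out : ∃ g : L, g ∉ L₁ := by
  by_contra hc
  push Not at hc
  exact h.ne (eq_top_iff.2 fun g _ => hc g)

theorem X1_card_mul [Finite L] [Finite V] (hC : fx V (⊤ : Subgroup L) = ⊥) :
    Nat.card ↥(fx V Q ⊓ F) * Nat.card ↥(A ⊓ Q) = Nat.card A := by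
  rw [hb.card, hC, AddSubgroup.card_bot, one_mul]

theorem inf_comp [Finite L] [Finite V] (hC : fx V (⊤ : Subgroup L) = ⊥) {g k : L} (hgk : g⁻¹ * k ∉ L₁) :
    g • (fx V Q ⊓ F) ⊓ k • (fx V Q ⊓ F) = ⊥ := by
  rw [eq_bot_iff, ← hC]
  rintro v ⟨h1, h2⟩
  exact h.mem_C_of hgk h1 h2

theorem inf_F [Finite L] [Finite V] (hC : fx V (⊤ : Subgroup L) = ⊥) {g : L} (hg : g ∉ L₁) :
    g • F ⊓ F = ⊥ := by
  rw [eq_bot_iff, ← hC]
  rintro v ⟨h1, h2⟩
  exact h.fix_all (x := 1) (y := g) (by simpa using hg) (by simpa using h2) (mem_smul_as.1 h1)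

theorem card_X [Finite L] [Finite V] (hC : fx V (⊤ : Subgroup L) = ⊥) :
    Nat.card ↥(fx V Q) = Nat.card ↥(fx V Q ⊓ F) ^ 2 := by
  obtain ⟨g, hg⟩ := exists_out h hb
  have h1 := card_sup_as (fx V Q ⊓ F) (g • (fx V Q ⊓ F))
  have h2 := inf_comp h hb hC (g := 1) (k := g) (by simpa using hg)
  rw [one_smul] at h2
  rw [h2, ← hb.sup g hg, AddSubgroup.card_bot, mul_one, card_smul_as] at h1
  rw [h1, pow_two]

/-- the elements which act on `X` as an element of `A` -/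
theorem conj_act [Finite L] [Finite V] (hC : fx V (⊤ : Subgroup L) = ⊥) {l : L} (hl : l ∈ L₁) {a : L}
    (ha : a ∈ A) : ∃ a' ∈ A, ∀ x ∈ fx V Q, (l * a * l⁻¹) • x = a' • x := by
  obtain ⟨g, hg⟩ := exists_out h hb
  set m := l * a * l⁻¹ with hm
  have hmL : m ∈ L₁ := mul_mem (mul_mem hl (h.A_le ha)) (inv_mem hl)
  have hmg : m * g ∉ L₁ := fun h1 => hg (by
    have := mul_mem (inv_mem hmL) h1
    rwa [inv_mul_cancel_left] at this)
  obtain ⟨b, hb1, hb2⟩ := hb.tra g hg (m * g) hmg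
  refine ⟨b, hb1, ?_⟩
  set X₁ := fx V Q ⊓ F with hX₁
  -- `m` is trivial on `X₁`
  have e1 : ∀ x ∈ X₁, m • x = x := by
    intro x hx
    have h1 : l⁻¹ • x ∈ X₁ := by
      have h2 := smul_mem_smul_as (g := l⁻¹) hx
      rwa [hb.inv l⁻¹ (inv_mem hl)] at h2
    rw [hm, mul_smul, mul_smul, h.mem.FB a ha _ h1.2, smul_inv_smul]
  have e2 : ∀ x ∈ fx V Q, m • x + x ∈ X₁ := by
    intro x hx
    have h1 : l⁻¹ • x ∈ fx V Q := h.smul_X _ hx
    have h2 : a • (l⁻¹ • x) + l⁻¹ • x ∈ X₁ :=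
      ⟨(fx V Q).add_mem (h.smul_X _ h1) h1, h.mem.EB a ha _ (hb.XE h1)⟩
    have h3 := smul_mem_smul_as (g := l) h2
    rw [hb.inv l hl] at h3
    have e : l • (a • (l⁻¹ • x) + l⁻¹ • x) = m • x + x := by
      rw [smul_add, smul_inv_smul, hm, mul_smul, mul_smul]
    rwa [e] at h3
  -- `k = b⁻¹ m`
  have hbb : b⁻¹ = b := inv_eq_of_mul_eq_one_left (h.mem.sq b hb1)
  have e3 : ∀ x ∈ g • X₁, (b⁻¹ * m) • x = x := by
    intro x hx
    have hxX : x ∈ fx V Q := h.mem_X_of hx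
    have h1 : (b⁻¹ * m) • x ∈ g • X₁ := by
      rw [mem_smul_as]
      have h2 := mem_smul_as.1 hx
      have h3 : g⁻¹ • (b⁻¹ * m) • x = ((b * g)⁻¹ * (m * g)) • (g⁻¹ • x) := by
        rw [← mul_smul, ← mul_smul]
        congr 1
        group
      have h4 := smul_mem_smul_as (g := (b * g)⁻¹ * (m * g)) h2
      rw [hb.inv _ hb2] at h4
      rwa [h3]
    have h2 : (b⁻¹ * m) • x + x ∈ X₁ := by
      have h3 : (b⁻¹ * m) • x + x = b⁻¹ • (m • x + x) + (b⁻¹ • x + x) := by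
        rw [smul_add, mul_smul]
        have : b⁻¹ • m • x + b⁻¹ • x + (b⁻¹ • x + x) = b⁻¹ • m • x + (b⁻¹ • x + b⁻¹ • x) + x := by abel
        rw [this, h.two, add_zero]
      rw [h3]
      refine X₁.add_mem ?_ ?_
      · have h4 := e2 x hxX
        rw [hbb, h.mem.FB b hb1 _ h4.2]
        exact h4
      · rw [hbb]
        exact ⟨(fx V Q).add_mem (h.smul_X _ hxX) hxX, h.mem.EB b hb1 _ (hb.XE hxX)⟩
    have h3 : (b⁻¹ * m) • x + x ∈ fx V (⊤ : Subgroup L) :=
      h.mem_C_of_F hg ((g • X₁).add_mem h1 hx) h2.2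
    rw [hC, AddSubgroup.mem_bot] at h3
    rw [← neg_eq_iff_add_eq_zero] at h3
    rw [← neg_eq_of_add_eq_zero_left (h.two ((b⁻¹ * m) • x)), h3]
  intro x hx
  rw [hb.sup g hg, AddSubgroup.mem_sup] at hx
  obtain ⟨y, hy, w, hw, rfl⟩ := hx
  have h1 : m • w = b • w := by
    have := e3 w hw
    rwa [mul_smul, inv_smul_eq_iff] at this
  rw [smul_add, smul_add, e1 y hy, h.mem.FB b hb1 y hy.2, h1]

/-- **Coordinates on `X`.** -/
theorem exists_coord [Finite L] [Finite V] (hC : fx V (⊤ : Subgroup L) = ⊥) :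
    ∃ (K : Type) (_ : Field K) (_ : Fintype K) (_ : CharP K 2) (e : ↥(fx V Q) ≃+ (Fin 2 → K)),
      Nat.card K = Nat.card ↥(fx V Q ⊓ F) ∧ (∀ v : ↥(fx V Q), (v : V) ∈ F ↔ e v 1 = 0) ∧
      (∀ l : L, ∃ s : Matrix.SpecialLinearGroup (Fin 2) K, ∀ v : ↥(fx V Q),
        e ⟨l • (v : V), h.smul_X l v.2⟩ = s.1.mulVec (e v)) ∧
      (∀ s : Matrix.SpecialLinearGroup (Fin 2) K, ∃ l : L, ∀ v : ↥(fx V Q),
        e ⟨l • (v : V), h.smul_X l v.2⟩ = s.1.mulVec (e v)) ∧
      (∀ a ∈ A, ∃ k : K, ∀ v : ↥(fx V Q),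
        e ⟨a • (v : V), h.smul_X a v.2⟩ = (!![1, k; 0, 1] : Matrix (Fin 2) (Fin 2) K).mulVec (e v)) := by
  set X := fx V Q with hX
  have hXi : ∀ (l : L), ∀ x ∈ X, l • x ∈ X := fun l x hx => h.smul_X l hx
  set ρ : L →* (AddMonoid.End X)ˣ := endX hXi with hρ
  obtain ⟨g₀, hg₀⟩ := exists_out h hb
  -- the group
  set T : Subgroup ρ.range := A.map ρ.rangeRestrict with hT
  set U : AddSubgroup X := F.addSubgroupOf X with hU
  have hTmem : ∀ {t : ρ.range}, t ∈ T ↔ ∃ a ∈ A, ρ.rangeRestrict a = t := fun {t} => Iff.rfl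
  have happ : ∀ (l : L) (x : X), ((ρ.rangeRestrict l • x : X) : V) = l • (x : V) := fun l x => rfl
  have htriv : ∀ l : L, (∀ x ∈ X, l • x = x) → ρ.rangeRestrict l = 1 := by
    intro l hl
    apply Subtype.ext
    apply Units.ext
    apply AddMonoidHom.ext
    intro x
    exact Subtype.ext (hl x x.2)
  have hext : ∀ l m : L, (∀ x ∈ X, l • x = m • x) → ρ.rangeRestrict l = ρ.rangeRestrict m := by
    intro l m hl
    apply Subtype.ext
    apply Units.ext
    apply AddMonoidHom.ext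
    intro x
    exact Subtype.ext (hl x x.2)
  have two : ∀ v : X, v + v = 0 := fun v => Subtype.ext (h.two v)
  have hout : ∃ x ∈ X, x ∉ F := by
    refine ⟨g₀ • z, h.smul_X _ h.z_mem.1, fun h1 => ?_⟩
    have h2 := h.mem_C_of_F hg₀ (smul_mem_smul_as h.z_mem) h1
    rw [hC, AddSubgroup.mem_bot] at h2
    apply h.z_not
    rw [hC, AddSubgroup.mem_bot]
    rwa [smul_eq_zero_iff_eq] at h2
  -- the kernel on `A`
  have hker : ∀ a ∈ A, ρ.rangeRestrict a = 1 → a ∈ Q := by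
    intro a ha h1
    obtain ⟨x, hx, hxF⟩ := hout
    apply hb.cen x hx hxF a ha
    have h2 := congrArg (fun t : ρ.range => ((t • (⟨x, hx⟩ : X) : X) : V)) h1
    simpa [happ] using h2
  have hcT : Nat.card T = Nat.card ↥(X ⊓ F) := by
    let f : A →* ρ.range := ρ.rangeRestrict.comp A.subtype
    have h1 : f.range = T := by
      rw [hT, MonoidHom.range_comp, Subgroup.range_subtype]
    have h2 : Nat.card f.ker = Nat.card ↥(A ⊓ Q) := by
      apply Nat.card_congr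
      exact
        { toFun := fun a => ⟨a.1.1, a.1.2, hker _ a.1.2 (MonoidHom.mem_ker.1 a.2)⟩
          invFun := fun a => ⟨⟨a.1, a.2.1⟩, MonoidHom.mem_ker.2 (htriv _ fun x hx => hx a a.2.2)⟩
          left_inv := fun a => rfl
          right_inv := fun a => rfl }
    have h3 := Subgroup.card_mul_index f.ker
    rw [Subgroup.index_ker, h1, h2, ← X1_card_mul h hb hC, mul_comm] at h3
    exact Nat.eq_of_mul_eq_mul_right Nat.card_pos h3
  have hX1 : 1 < Nat.card ↥(X ⊓ F) := by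
    have h1 : z ≠ 0 := by
      intro h1
      apply h.z_not
      rw [h1]; exact AddSubgroup.zero_mem _
    have : Nontrivial ↥(X ⊓ F) := ⟨⟨⟨z, h.z_mem⟩, 0, fun h2 => h1 (congrArg Subtype.val h2)⟩⟩
    exact Finite.one_lt_card
  have hcU : Nat.card U = Nat.card ↥(X ⊓ F) := by
    apply Nat.card_congr
    exact
      { toFun := fun v => ⟨v.1.1, v.1.2, AddSubgroup.mem_addSubgroupOf.1 v.2⟩
        invFun := fun v => ⟨⟨v.1, v.2.1⟩, AddSubgroup.mem_addSubgroupOf.2 v.2.2⟩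
        left_inv := fun v => rfl
        right_inv := fun v => rfl }
  haveI : Finite ρ.range := Finite.of_surjective ρ.rangeRestrict ρ.rangeRestrict_surjective
  obtain ⟨K, i1, i2, i3, φ, e, h1, h2, h3, h4, h5, h6, h7⟩ :=
    Cfsg.Agent.Omega.FF.SpreadEnd.exists_field_add (L := ρ.range) (V := X) T U ⊥ two (by
      rintro ⟨_, l, rfl⟩ hl
      exact htriv l fun x hx => congrArg Subtype.val (hl ⟨x, hx⟩)) (by
      intro v
      rw [AddSubgroup.mem_addSubgroupOf]
      constructor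
      · rintro hv _ ⟨a, ha, rfl⟩
        exact Subtype.ext (h.mem.FB a ha _ hv)
      · intro hv
        exact h.mem.CB _ fun a ha => congrArg Subtype.val (hv _ ⟨a, ha, rfl⟩)) (by
      intro v
      rw [AddSubgroup.mem_bot]
      constructor
      · rintro rfl x
        exact smul_zero x
      · intro hv
        have h1 : (v : V) ∈ fx V (⊤ : Subgroup L) := fun l _ => congrArg Subtype.val (hv (ρ.rangeRestrict l))
        rw [hC, AddSubgroup.mem_bot] at h1
        exact Subtype.ext h1) (by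
      rintro _ ⟨a, ha, rfl⟩
      change ρ.rangeRestrict a * ρ.rangeRestrict a = 1
      rw [← map_mul, h.mem.sq a ha, map_one]) (by
      rintro _ ⟨a, ha, rfl⟩ v
      rw [AddSubgroup.mem_addSubgroupOf]
      exact h.mem.EB a ha _ (hb.XE v.2)) (by
      rintro _ ⟨a, ha, rfl⟩ h1 v hv
      rw [AddSubgroup.mem_addSubgroupOf]
      by_contra hvF
      apply h1
      have h2 := hb.cen _ v.2 hvF a ha (congrArg Subtype.val hv)
      exact htriv a fun x hx => hx a h2) (by rw [hcT]; exact hX1) (by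
      have h1 := AddSubgroup.card_mul_index U
      rw [hcU, card_X h hb hC, pow_two] at h1
      rw [hcT]
      exact Nat.eq_of_mul_eq_mul_left Nat.card_pos h1) (by
      rw [AddSubgroup.relIndex_bot_left, hcU, hcT]) (by
      intro K hK
      have h1 : (⊤ : Subgroup L) ≤ K.comap ρ.rangeRestrict := by
        rw [← h.top_of hg₀]
        refine sup_le ?_ ?_
        · intro a ha
          have := hK 1 (ρ.rangeRestrict a) ⟨a, ha, rfl⟩
          simpa using this
        · intro a ha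
          rw [mem_conj] at ha
          have := hK (ρ.rangeRestrict g₀) (ρ.rangeRestrict (g₀⁻¹ * a * g₀)) ⟨_, ha, rfl⟩
          rw [← map_mul, ← map_inv, ← map_mul] at this
          have e : g₀ * (g₀⁻¹ * a * g₀) * g₀⁻¹ = a := by group
          rwa [e] at this
      rw [eq_top_iff]
      rintro ⟨_, l, rfl⟩ _
      exact h1 (mem_top l)) (by
      rintro ⟨_, l, rfl⟩ hl v hv hlv
      rw [AddSubgroup.mem_addSubgroupOf] at hv hlv
      rw [AddSubgroup.mem_bot]
      by_cases hlL : l ∈ L₁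
      · exfalso
        apply hl
        have key : ∀ l ∈ L₁, ∀ t ∈ T, ρ.rangeRestrict l * t * (ρ.rangeRestrict l)⁻¹ ∈ T := by
          rintro l hl _ ⟨a, ha, rfl⟩
          obtain ⟨a', ha', h1⟩ := conj_act h hb hC hl ha
          refine ⟨a', ha', ?_⟩
          change ρ.rangeRestrict a' = ρ.rangeRestrict l * ρ.rangeRestrict a * (ρ.rangeRestrict l)⁻¹
          rw [← map_mul, ← map_inv, ← map_mul]
          exact (hext _ _ h1).symm
        change ρ.rangeRestrict l ∈ _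
        rw [mem_normalizer_iff]
        intro y
        constructor
        · exact key l hlL y
        · intro hy
          have h1 := key l⁻¹ (inv_mem hlL) _ hy
          have e : ρ.rangeRestrict l⁻¹ * (ρ.rangeRestrict l * y * (ρ.rangeRestrict l)⁻¹) * (ρ.rangeRestrict l⁻¹)⁻¹
              = y := by rw [map_inv]; group
          rwa [e] at h1
      · have h1 : l • (v : V) ∈ fx V (⊤ : Subgroup L) :=
          h.mem_C_of_F hlL (smul_mem_smul_as ⟨v.2, hv⟩) hlv
        rw [hC, AddSubgroup.mem_bot] at h1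
        exact Subtype.ext h1) (by
      rintro ⟨_, l, rfl⟩ _ hl
      by_contra hcon
      push Not at hcon
      apply hl
      apply htriv l
      intro x hx
      have h1 := hcon ⟨x, hx⟩
      rw [AddSubgroup.mem_bot] at h1
      have h2 : l • x + x = 0 := congrArg Subtype.val h1
      have h3 := neg_eq_iff_add_eq_zero.2 h2
      rw [neg_eq_of_add_eq_zero_left (h.two (l • x))] at h3
      exact h3)
  have hinj : Function.Injective e := by
    intro v w hvw
    have h8 : e (v + w) = 0 := by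
      rw [h2, hvw, ← h2, two, (h4 _).2 (AddSubgroup.zero_mem _)]
    rw [h4, AddSubgroup.mem_bot] at h8
    rw [← neg_eq_iff_add_eq_zero, neg_eq_of_add_eq_zero_left (two v)] at h8
    exact h8
  let e' : X ≃+ (Fin 2 → K) := AddEquiv.ofBijective (AddMonoidHom.mk' e h2) ⟨hinj, h3⟩
  refine ⟨K, i1, i2, i3, e', by rw [h1, hcT], fun v => ?_, fun l => ⟨φ (ρ.rangeRestrict l), fun v => ?_⟩,
    fun s => ?_, fun a ha => ?_⟩
  · rw [← AddSubgroup.mem_addSubgroupOf (K := X)]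
    exact h6 v
  · exact h5 (ρ.rangeRestrict l) v
  · obtain ⟨⟨_, l, rfl⟩, hl⟩ := φ.surjective s
    refine ⟨l, fun v => ?_⟩
    rw [← hl]
    exact h5 (ρ.rangeRestrict l) v
  · obtain ⟨k, hk⟩ := (h7 (ρ.rangeRestrict a)).1 ⟨a, ha, rfl⟩
    refine ⟨k, fun v => ?_⟩
    rw [← hk]
    exact h5 (ρ.rangeRestrict a) v

end

end Cfsg.Agent.Omega.NO1.B0

end

section


/-!
# THEOREM B0 (bb OMEGA 18835, helper970): the hypotheses in `Y`, the components, the 2-element `t`
-/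

set_option autoImplicit false
set_option linter.unusedSectionVars false
set_option linter.style.haveILetI false

namespace Cfsg.Agent.Omega.NO1.B0

open Subgroup Cfsg.Agent.Omega.NO1.AB
open scoped Pointwise MatrixGroups

universe u

section

variable {L : Type u} [Group L] {V : Type u} [AddCommGroup V] [DistribMulAction L V]
  {A : Subgroup L} {E F : AddSubgroup V} {Q L₁ : Subgroup L} {R : Sylow 2 L} {z : V}
  (h : Loc A E F Q L₁ R z) (hb : Beta A E F (fx V Q) Q L₁)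
include h hb

/-- Coordinates on `X` with `z = (1,0)`. -/
theorem exists_coord' [Finite L] [Finite V] (hC : fx V (⊤ : Subgroup L) = ⊥) :
    ∃ (K : Type) (_ : Field K) (_ : Fintype K) (_ : CharP K 2) (e : ↥(fx V Q) ≃+ (Fin 2 → K)),
      Nat.card K = Nat.card ↥(fx V Q ⊓ F) ∧ (∀ v : ↥(fx V Q), (v : V) ∈ F ↔ e v 1 = 0) ∧
      (∀ l : L, ∃ s : Matrix.SpecialLinearGroup (Fin 2) K, ∀ v : ↥(fx V Q),
        e ⟨l • (v : V), h.smul_X l v.2⟩ = s.1.mulVec (e v)) ∧
      (∀ s : Matrix.SpecialLinearGroup (Fin 2) K, ∃ l : L, ∀ v : ↥(fx V Q),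
        e ⟨l • (v : V), h.smul_X l v.2⟩ = s.1.mulVec (e v)) ∧
      e ⟨z, h.z_mem.1⟩ = ![1, 0] := by
  obtain ⟨K, i1, i2, i3, e, h1, h2, h3, h4, -⟩ := exists_coord h hb hC
  have hz1 : e ⟨z, h.z_mem.1⟩ 1 = 0 := (h2 _).1 h.z_mem.2
  have hz0 : e ⟨z, h.z_mem.1⟩ 0 ≠ 0 := by
    intro h0
    have h5 : e ⟨z, h.z_mem.1⟩ = 0 := by
      ext i
      fin_cases i
      · exact h0
      · exact hz1
    rw [map_eq_zero_iff e e.injective] at h5
    apply h.z_not
    rw [hC, AddSubgroup.mem_bot]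
    exact congrArg Subtype.val h5
  set c := e ⟨z, h.z_mem.1⟩ 0 with hc
  let sc : (Fin 2 → K) ≃+ (Fin 2 → K) :=
    { toFun := fun v => c⁻¹ • v
      invFun := fun v => c • v
      left_inv := fun v => by
        change c • c⁻¹ • v = v
        rw [smul_smul, mul_inv_cancel₀ hz0, one_smul]
      right_inv := fun v => by
        change c⁻¹ • c • v = v
        rw [smul_smul, inv_mul_cancel₀ hz0, one_smul]
      map_add' := fun v w => smul_add _ _ _ }
  refine ⟨K, i1, i2, i3, e.trans sc, h1, fun v => ?_, fun l => ?_, fun s => ?_, ?_⟩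
  · rw [h2]
    change _ ↔ c⁻¹ * e v 1 = 0
    rw [mul_eq_zero, inv_eq_zero]
    exact ⟨Or.inr, fun h6 => h6.resolve_left hz0⟩
  · obtain ⟨s, hs⟩ := h3 l
    refine ⟨s, fun v => ?_⟩
    change c⁻¹ • e _ = s.1.mulVec (c⁻¹ • e v)
    rw [hs, Matrix.mulVec_smul]
  · obtain ⟨l, hs⟩ := h4 s
    refine ⟨l, fun v => ?_⟩
    change c⁻¹ • e _ = s.1.mulVec (c⁻¹ • e v)
    rw [hs, Matrix.mulVec_smul]
  · change c⁻¹ • e ⟨z, h.z_mem.1⟩ = ![1, 0]
    rw [vec_eq (e ⟨z, h.z_mem.1⟩), ← hc, hz1, smul_vec, inv_mul_cancel₀ hz0, mul_zero]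

/-- `L` is transitive on `X#` -/
theorem trans_z [Finite L] [Finite V] (hC : fx V (⊤ : Subgroup L) = ⊥) {x : V} (hx : x ∈ fx V Q)
    (hx0 : x ≠ 0) : ∃ l : L, l • z = x := by
  obtain ⟨K, i1, i2, i3, e, h1, h2, h3, h4, h5⟩ := exists_coord' h hb hC
  have key : ∃ s : Matrix.SpecialLinearGroup (Fin 2) K, s.1.mulVec ![1, 0] = e ⟨x, hx⟩ := by
    set a := e ⟨x, hx⟩ 0 with ha
    set b := e ⟨x, hx⟩ 1 with hb'
    have hv : e ⟨x, hx⟩ = ![a, b] := vec_eq _
    rw [hv]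
    by_cases ha0 : a = 0
    · have hb0 : b ≠ 0 := by
        intro hb0
        rw [ha0, hb0] at hv
        have h6 : e ⟨x, hx⟩ = 0 := by
          rw [hv]
          ext i
          fin_cases i <;> rfl
        rw [map_eq_zero_iff e e.injective] at h6
        exact hx0 (congrArg Subtype.val h6)
      refine ⟨⟨!![0, -b⁻¹; b, 0], by rw [Matrix.det_fin_two_of]; field_simp; ring⟩, ?_⟩
      ext i
      fin_cases i <;> simp [Matrix.mulVec, dotProduct, Fin.sum_univ_two, ha0]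
    · refine ⟨⟨!![a, 0; b, a⁻¹], by rw [Matrix.det_fin_two_of]; field_simp; ring⟩, ?_⟩
      ext i
      fin_cases i <;> simp [Matrix.mulVec, dotProduct, Fin.sum_univ_two]
  obtain ⟨s, hs⟩ := key
  obtain ⟨l, hl⟩ := h4 s
  refine ⟨l, ?_⟩
  have h6 := hl ⟨z, h.z_mem.1⟩
  rw [h5, hs] at h6
  exact congrArg Subtype.val (e.injective h6)

end

variable {Y : Type u} [Group Y] {V : Type u} [AddCommGroup V] [DistribMulAction Y V]

/-- The hypotheses in `Y` (`X = C_V(Q)`, `C_V(L) = 0`). -/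
structure Hyp0 (T : Sylow 2 Y) (M L : Subgroup Y) (A Q L₁ : Subgroup L) (R : Sylow 2 L) (E F : AddSubgroup V)
    (z : V) : Prop where
  loc : Loc A E F Q L₁ R z
  beta : Beta A E F (fx V Q) Q L₁
  C0 : fx V (⊤ : Subgroup L) = ⊥
  faith : ∀ y : Y, (∀ v : V, y • v = v) → y = 1
  irr : ∀ W : AddSubgroup V, (∀ y : Y, ∀ w ∈ W, y • w ∈ W) → W ≤ E → W = ⊥
  off : ∀ B : Subgroup Y, (∀ b ∈ B, b * b = 1) → B ≠ ⊥ → Nat.card B * Nat.card ↥(fx V B) < Nat.card V
  TM : (T : Subgroup Y) ≤ M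
  M_ne : M ≠ ⊤
  uniqM : ∀ H : Subgroup Y, (T : Subgroup Y) ≤ H → H ≠ ⊤ → H ≤ M
  L₁M : ∀ l : L, l ∈ L₁ → (l : Y) ∈ M
  LM : ¬ L ≤ M
  RT : ∀ r : L, r ∈ R → (r : Y) ∈ T
  zT : ∀ t ∈ T, t • z = z

/-- `N_Y(X)` -/
def NX (L : Subgroup Y) (V : Type u) [AddCommGroup V] [DistribMulAction Y V] (Q : Subgroup L) : Subgroup Y :=
  MulAction.stabilizer Y (fx V Q : AddSubgroup V)

theorem mem_NX {L : Subgroup Y} {Q : Subgroup L} {y : Y} : y ∈ NX L V Q ↔ y • (fx V Q : AddSubgroup V) = fx V Q :=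
  Iff.rfl

theorem NX_smul {L : Subgroup Y} {Q : Subgroup L} {y : Y} (hy : y ∈ NX L V Q) {x : V} (hx : x ∈ fx V Q) :
    y • x ∈ fx V Q := by
  rw [← mem_NX.1 hy]
  exact smul_mem_smul_as hx

theorem mem_NX_of [Finite V] {L : Subgroup Y} {Q : Subgroup L} {y : Y} (hy : ∀ x ∈ fx V Q, y • x ∈ fx V Q) :
    y ∈ NX L V Q := by
  rw [mem_NX]
  apply eq_of_le_as
  · intro v hv
    have := hy _ (mem_smul_as.1 hv)
    rwa [smul_inv_smul] at this
  · exact (card_smul_as y _).ge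

namespace Hyp0

variable {T : Sylow 2 Y} {M L : Subgroup Y} {A Q L₁ : Subgroup L} {R : Sylow 2 L} {E F : AddSubgroup V}
  {z : V} (h : Hyp0 T M L A Q L₁ R E F z)
include h

theorem two (v : V) : v + v = 0 := h.loc.two v

theorem neg (v : V) : -v = v := neg_eq_of_add_eq_zero_left (h.two v)

theorem eq_of_add {v w : V} (hvw : v + w = 0) : v = w := by
  rw [← neg_eq_iff_add_eq_zero, h.neg] at hvw
  exact hvw

theorem z_ne : z ≠ 0 := by
  intro h1
  apply h.loc.z_not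
  rw [h1]
  exact AddSubgroup.zero_mem _

theorem L_le_NX [Finite V] : L ≤ NX L V Q := by
  intro l hl
  apply mem_NX_of
  intro x hx
  exact h.loc.smul_X ⟨l, hl⟩ hx

theorem mem_L₁ {l : L} : l ∈ L₁ ↔ (l : Y) ∈ M := by
  refine ⟨h.L₁M l, fun hl => ?_⟩
  have h1 := h.loc.uniq (M.subgroupOf L) (fun a ha => h.L₁M a (h.loc.A_le ha)) (by
    rw [Ne, subgroupOf_eq_top]
    exact h.LM)
  exact h1 hl

theorem stab_z : MulAction.stabilizer Y z ≤ M := by
  apply h.uniqM
  · intro t ht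
    exact h.zT t ht
  · intro h1
    -- `z` fixed by `Y`
    obtain ⟨l, hl⟩ := h.loc.zL
    apply hl
    have : (l : Y) ∈ MulAction.stabilizer Y z := by rw [h1]; exact mem_top _
    exact this

theorem trans [Finite Y] [Finite V] {x : V} (hx : x ∈ fx V Q) (hx0 : x ≠ 0) : ∃ l : L, l • z = x :=
  trans_z h.loc h.beta h.C0 hx hx0

/-- `N_Y(X)` permutes the components -/
theorem comp [Finite Y] [Finite V] {y : Y} (hy : y ∈ NX L V Q) (l : L) :
    ∃ m : L, ∀ x : V, l⁻¹ • x ∈ fx V Q ⊓ F → m⁻¹ • (y • x) ∈ fx V Q ⊓ F := by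
  have hz : l • z ∈ fx V Q := h.loc.smul_X l h.loc.z_mem.1
  have hyz : y • (l • z) ∈ fx V Q := NX_smul hy hz
  obtain ⟨m, hm⟩ := h.trans hyz (by
    rw [Ne, smul_eq_zero_iff_eq, smul_eq_zero_iff_eq]
    exact h.z_ne)
  refine ⟨m, ?_⟩
  intro x hx
  by_cases hx0 : x = 0
  · rw [hx0, smul_zero, smul_zero]; exact AddSubgroup.zero_mem _
  have hxX : x ∈ fx V Q := h.loc.mem_X_of (mem_smul_as.2 hx)
  obtain ⟨k, hk⟩ := h.trans hxX hx0
  have hk0 : k • z ∉ fx V (⊤ : Subgroup L) := by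
    rw [hk, h.C0, AddSubgroup.mem_bot]; exact hx0
  -- `l⁻¹ k ∈ L₁`
  have h1 : l⁻¹ * k ∈ L₁ := by
    by_contra h2
    exact hk0 (h.loc.mem_C_of h2 (by rw [hk]; exact mem_smul_as.2 hx) (smul_mem_smul_as h.loc.z_mem))
  obtain ⟨n, hn⟩ := h.trans (NX_smul hy hxX) (by rwa [Ne, smul_eq_zero_iff_eq])
  have h2 : ((m : Y)⁻¹ * y * l : Y) ∈ M := by
    apply h.stab_z
    rw [MulAction.mem_stabilizer_iff, mul_smul, mul_smul, inv_smul_eq_iff]
    exact hm.symm
  have h3 : ((n : Y)⁻¹ * y * k : Y) ∈ M := by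
    apply h.stab_z
    rw [MulAction.mem_stabilizer_iff, mul_smul, mul_smul, inv_smul_eq_iff]
    have : (k : Y) • z = x := hk
    rw [this]
    exact hn.symm
  have h4 : m⁻¹ * n ∈ L₁ := by
    rw [h.mem_L₁]
    have e : ((m⁻¹ * n : L) : Y) = ((m : Y)⁻¹ * y * l) * ((l⁻¹ * k : L) : Y) * ((n : Y)⁻¹ * y * k)⁻¹ := by
      rw [coe_mul, coe_mul, coe_inv, coe_inv]; group
    rw [e]
    exact mul_mem (mul_mem h2 (h.mem_L₁.1 h1)) (inv_mem h3)
  have h5 := smul_mem_smul_as (g := m⁻¹ * n) h.loc.z_mem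
  rw [h.beta.inv _ h4, mul_smul] at h5
  rw [← hn]
  exact h5

theorem comp_z [Finite Y] [Finite V] {y : Y} (hy : y ∈ NX L V Q) (hyz : y • z = z) {x : V}
    (hx : x ∈ fx V Q ⊓ F) : y • x ∈ fx V Q ⊓ F := by
  obtain ⟨m, hm⟩ := h.comp hy 1
  have h1 := hm z (by rw [inv_one, one_smul]; exact h.loc.z_mem)
  rw [hyz] at h1
  have h2 : m ∈ L₁ := by
    by_contra h3
    have h4 := h.loc.mem_C_of_F h3 (mem_smul_as.2 h1) h.loc.z_mem.2
    exact h.loc.z_not h4
  have h3 := smul_mem_smul_as (g := m) (hm x (by rw [inv_one, one_smul]; exact hx))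
  rwa [h.beta.inv m h2, smul_inv_smul] at h3

end Hyp0

/-- ... and `N_T(X)` is Sylow in `N_Y(X)` -/
structure Hyp (T : Sylow 2 Y) (M L : Subgroup Y) (A Q L₁ : Subgroup L) (R : Sylow 2 L) (E F : AddSubgroup V)
    (z : V) : Prop extends Hyp0 T M L A Q L₁ R E F z where
  max : ∀ P : Subgroup Y, IsPGroup 2 P → P ≤ NX L V Q → (T : Subgroup Y) ⊓ NX L V Q ≤ P → P ≤ T

theorem Hyp0.exists_hyp [Finite Y] [Finite V] {T : Sylow 2 Y} {M L : Subgroup Y} {A Q L₁ : Subgroup L}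
    {R : Sylow 2 L} {E F : AddSubgroup V} {z : V} (h : Hyp0 T M L A Q L₁ R E F z) :
    ∃ (T' : Sylow 2 Y) (z' : V), Hyp T' M L A Q L₁ R E F z' := by
  have : Fact (Nat.Prime 2) := ⟨Nat.prime_two⟩
  set N := NX L V Q with hN
  set RY : Subgroup Y := (R : Subgroup L).map L.subtype with hRY
  have hRN : RY ≤ N := by
    rintro _ ⟨r, hr, rfl⟩
    exact h.L_le_NX r.2
  have hR2 : IsPGroup 2 RY := R.2.map _
  have hRN2 : IsPGroup 2 (RY.subgroupOf N) := hR2.comap_of_injective N.subtype Subtype.coe_injective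
  obtain ⟨P, hP⟩ := hRN2.exists_le_sylow
  have hP2 : IsPGroup 2 ((P : Subgroup N).map N.subtype) := P.2.map _
  obtain ⟨T', hT'⟩ := hP2.exists_le_sylow
  have hRT' : RY ≤ T' := by
    intro r hr
    exact hT' ⟨⟨r, hRN hr⟩, hP (mem_subgroupOf.2 hr), rfl⟩
  -- `T'` is a conjugate of `T`
  obtain ⟨y, hy⟩ := MulAction.exists_smul_eq Y T T'
  set z' := y • z with hz'
  have hz'T : ∀ t ∈ T', t • z' = z' := by
    intro t ht
    rw [← hy, HE.mem_smul_sylow] at ht
    have h1 := h.zT _ ht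
    rw [mul_smul, mul_smul, inv_smul_eq_iff] at h1
    exact h1
  have hz'0 : z' ≠ 0 := by
    rw [hz', Ne, smul_eq_zero_iff_eq]
    exact h.z_ne
  have hz'R : ∀ r ∈ R, (r : L) • z' = z' := fun r hr => hz'T _ (hRT' ⟨r, hr, rfl⟩)
  have hz'X : z' ∈ fx V Q ⊓ F :=
    ⟨fun q hq => hz'R q (h.loc.Q_le_R hq), h.loc.mem.CB z' fun b hb => hz'R b (h.loc.AR hb)⟩
  obtain ⟨l, hl⟩ := h.trans hz'X.1 hz'0
  have hlL : l ∈ L₁ := by
    by_contra h1
    have h2 := h.loc.mem_C_of_F h1 (smul_mem_smul_as h.loc.z_mem) (by rw [hl]; exact hz'X.2)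
    rw [hl, h.C0, AddSubgroup.mem_bot] at h2
    exact hz'0 h2
  -- `y ∈ M`
  have hyM : y ∈ M := by
    have h1 : (l : Y)⁻¹ * y ∈ M := by
      apply h.stab_z
      rw [MulAction.mem_stabilizer_iff, mul_smul, inv_smul_eq_iff]
      exact hl.symm
    have := mul_mem (h.L₁M l hlL) h1
    rwa [mul_inv_cancel_left] at this
  have hT'M : (T' : Subgroup Y) ≤ M := by
    intro t ht
    have ht' : t ∈ T' := ht
    rw [← hy, HE.mem_smul_sylow] at ht'
    have := mul_mem (mul_mem hyM (h.TM ht')) (inv_mem hyM)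
    have e : y * (y⁻¹ * t * y) * y⁻¹ = t := by group
    rwa [e] at this
  refine ⟨T', z', ?_⟩
  exact
    { loc := { h.loc with
        zR := hz'R
        zL := by
          by_contra hc
          push Not at hc
          apply hz'0
          have : z' ∈ fx V (⊤ : Subgroup L) := fun l _ => hc l
          rwa [h.C0, AddSubgroup.mem_bot] at this }
      beta := h.beta
      C0 := h.C0
      faith := h.faith
      irr := h.irr
      off := h.off
      TM := hT'M
      M_ne := h.M_ne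
      uniqM := by
        intro H hH hH1
        -- conjugate
        have h1 : (T : Subgroup Y) ≤ MulAut.conj y⁻¹ • H := by
          intro t ht
          rw [mem_conj, inv_inv]
          apply hH
          change y * t * y⁻¹ ∈ T'
          rw [← hy, HE.mem_smul_sylow]
          have e : y⁻¹ * (y * t * y⁻¹) * y = t := by group
          rwa [e]
        have h2 := h.uniqM _ h1 fun h3 => hH1 (conj_eq_top h3)
        intro x hx
        have h3 : y⁻¹ * x * y ∈ MulAut.conj y⁻¹ • H := by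
          rw [mem_conj]
          have e : y⁻¹⁻¹ * (y⁻¹ * x * y) * y⁻¹ = x := by group
          rwa [e]
        have := mul_mem (mul_mem hyM (h2 h3)) (inv_mem hyM)
        have e : y * (y⁻¹ * x * y) * y⁻¹ = x := by group
        rwa [e] at this
      L₁M := h.L₁M
      LM := h.LM
      RT := fun r hr => hRT' ⟨r, hr, rfl⟩
      zT := hz'T
      max := by
        intro P' hP'2 hP'N hP'
        have h1 : IsPGroup 2 (P'.subgroupOf N) := hP'2.comap_of_injective N.subtype Subtype.coe_injective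
        have h2 : (P : Subgroup N) ≤ P'.subgroupOf N := by
          intro p hp
          rw [mem_subgroupOf]
          exact hP' ⟨hT' ⟨p, hp, rfl⟩, p.2⟩
        have h3 := P.is_maximal' h1 h2
        intro p hp
        apply hT'
        have h4 : (⟨p, hP'N hp⟩ : N) ∈ (P : Subgroup N) := by
          rw [← h3]
          exact mem_subgroupOf.2 hp
        exact ⟨⟨p, hP'N hp⟩, h4, rfl⟩ }

end Cfsg.Agent.Omega.NO1.B0

end

end

-- merged: Cfsg.Agent.Mrg.Omega.NO1.B0.Semi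
section

section


/-!
# THEOREM B0 (bb OMEGA 18835, helper970): (S1), (S2), the 2-element `t`

`N_Y(X)` acts semilinearly on `X`; a member in `T_X = N_T(X)` centralises `X₁` (`s1`); a 2-element of `T_X` which
centralises `X₁` is a transvection (or 1) on `X` (`s2`, `s2'`).
-/

set_option autoImplicit false
set_option linter.unusedSectionVars false
set_option linter.style.haveILetI false

namespace Cfsg.Agent.Omega.NO1.B0

open Subgroup Cfsg.Agent.Omega.NO1.AB
open scoped Pointwise MatrixGroups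

universe u

/-- a proper subgroup of a 2-group -/
theorem exists_sq {P : Type*} [Group P] [Finite P] (hP : IsPGroup 2 P) (H : Subgroup P) (hH : H ≠ ⊤) :
    ∃ t, t ∉ H ∧ t * t ∈ H ∧ ∀ x, x ∈ H ↔ t * x * t⁻¹ ∈ H := by
  have : Fact (Nat.Prime 2) := ⟨Nat.prime_two⟩
  have : Group.IsNilpotent P := hP.isNilpotent
  have h1 := Group.normalizerCondition_of_isNilpotent H (lt_top_iff_ne_top.2 hH)
  obtain ⟨t, ht1, ht2⟩ := Set.exists_of_ssubset h1
  have hex : ∃ n : ℕ, t ^ 2 ^ n ∈ H := by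
    obtain ⟨n, hn⟩ := hP t
    exact ⟨n, by rw [hn]; exact one_mem _⟩
  classical
  set n := Nat.find hex with hn
  have h2 : t ^ 2 ^ n ∈ H := Nat.find_spec hex
  have h3 : n ≠ 0 := by
    intro h4
    rw [h4, pow_zero, pow_one] at h2
    exact ht2 h2
  obtain ⟨m, hm⟩ := Nat.exists_eq_succ_of_ne_zero h3
  refine ⟨t ^ 2 ^ m, ?_, ?_, ?_⟩
  · exact Nat.find_min hex (by rw [← hn, hm]; exact Nat.lt_succ_self m)
  · rw [← pow_add]
    have e : 2 ^ m + 2 ^ m = 2 ^ n := by rw [hm, pow_succ]; ring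
    rw [e]
    exact h2
  · have h4 : t ^ 2 ^ m ∈ normalizer (H : Set P) := pow_mem ht1 _
    exact mem_normalizer_iff.1 h4

variable {Y : Type u} [Group Y] {V : Type u} [AddCommGroup V] [DistribMulAction Y V]

/-- a member with (MU) -/
structure MemU (B : Subgroup Y) (E F : AddSubgroup V) : Prop extends Mem B E F where
  mu : ∀ B₀ ≤ B, Nat.card B₀ * Nat.card ↥(fx V B₀ ⊓ E) ≤ Nat.card E

theorem MemU.conj {B : Subgroup Y} {E F : AddSubgroup V} (h : MemU B E F) (y : Y) :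
    MemU (MulAut.conj y • B) (y • E) (y • F) := by
  have key : ∀ {b : Y}, b ∈ MulAut.conj y • B → ∃ c ∈ B, b = y * c * y⁻¹ := by
    intro b hb
    rw [mem_conj] at hb
    exact ⟨_, hb, by group⟩
  have hs : ∀ (c : Y) (v : V), y⁻¹ • (y * c * y⁻¹) • v = c • y⁻¹ • v := by
    intro c v
    rw [← mul_smul, ← mul_smul]
    congr 1
    group
  exact
    { comm := by
        intro b hb b' hb'
        obtain ⟨c, hc, rfl⟩ := key hb
        obtain ⟨c', hc', rfl⟩ := key hb'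
        have e1 : y * c * y⁻¹ * (y * c' * y⁻¹) = y * (c * c') * y⁻¹ := by group
        rw [e1, h.comm c hc c' hc']
        group
      sq := by
        intro b hb
        obtain ⟨c, hc, rfl⟩ := key hb
        have e1 : y * c * y⁻¹ * (y * c * y⁻¹) = y * (c * c) * y⁻¹ := by group
        rw [e1, h.sq c hc]
        group
      FE := by
        intro v hv
        rw [mem_smul_as] at hv ⊢
        exact h.FE hv
      VB := by
        intro b hb v
        obtain ⟨c, hc, rfl⟩ := key hb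
        rw [mem_smul_as, smul_add, hs]
        exact h.VB c hc _
      EB := by
        intro b hb e he
        obtain ⟨c, hc, rfl⟩ := key hb
        rw [mem_smul_as] at he ⊢
        rw [smul_add, hs]
        exact h.EB c hc _ he
      FB := by
        intro b hb f hf
        obtain ⟨c, hc, rfl⟩ := key hb
        rw [mem_smul_as] at hf
        have h1 := h.FB c hc _ hf
        rw [← hs, smul_left_cancel_iff] at h1
        exact h1
      CB := by
        intro v hv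
        rw [mem_smul_as]
        apply h.CB
        intro c hc
        rw [← hs, hv _ (conj_mem_conj hc)]
      inj := by
        intro w hw b hb hbw
        obtain ⟨c, hc, rfl⟩ := key hb
        rw [mem_smul_as] at hw hbw
        rw [smul_add, hs] at hbw
        rw [h.inj _ hw c hc hbw]
        group
      surj := by
        intro w hw e he
        rw [mem_smul_as] at hw he
        obtain ⟨c, hc, h1⟩ := h.surj _ hw _ he
        refine ⟨_, conj_mem_conj hc, ?_⟩
        rw [mem_smul_as, smul_add, smul_add, hs]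
        exact h1
      ne := by
        obtain ⟨v, hv⟩ := h.ne
        refine ⟨y • v, ?_⟩
        rwa [mem_smul_as, inv_smul_smul]
      mu := by
        intro B₀ hB₀
        have h1 := h.mu (MulAut.conj y⁻¹ • B₀) (by
          rw [conj_le_iff, inv_inv]
          exact hB₀)
        have h2 : Nat.card (MulAut.conj y⁻¹ • B₀ : Subgroup Y) = Nat.card B₀ :=
          (Nat.card_congr (Subgroup.equivSMul (MulAut.conj y⁻¹) B₀).toEquiv).symm
        have h3 : Nat.card ↥(fx V (MulAut.conj y⁻¹ • B₀) ⊓ E) = Nat.card ↥(fx V B₀ ⊓ y • E) := by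
          rw [← card_smul_as y (fx V (MulAut.conj y⁻¹ • B₀) ⊓ E)]
          congr 2
          ext v
          rw [mem_smul_as, AddSubgroup.mem_inf, AddSubgroup.mem_inf, mem_smul_as]
          refine and_congr_left fun _ => ?_
          constructor
          · intro hv b hb
            have h4 := hv (y⁻¹ * b * y⁻¹⁻¹) (conj_mem_conj hb)
            rw [inv_inv, mul_smul, mul_smul, smul_inv_smul, smul_left_cancel_iff] at h4
            exact h4
          · intro hv b hb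
            rw [mem_conj, inv_inv] at hb
            have h4 := hv _ hb
            rw [mul_smul, mul_smul] at h4
            rw [eq_inv_smul_iff]
            exact h4
        rw [h2, h3] at h1
        rwa [card_smul_as] }

/-- coordinates -/
structure Co {L : Subgroup Y} (Q : Subgroup L) (F : AddSubgroup V) (z : V) (K : Type) [Field K]
    (e : ↥(fx V Q) ≃+ (Fin 2 → K)) : Prop where
  card : Nat.card K = Nat.card ↥(fx V Q ⊓ F)
  memF : ∀ v : ↥(fx V Q), (v : V) ∈ F ↔ e v 1 = 0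
  act : ∀ l : L, ∃ s : Matrix (Fin 2) (Fin 2) K, ∀ v w : ↥(fx V Q), (w : V) = l • (v : V) → e w = s.mulVec (e v)
  ez : ∀ v : ↥(fx V Q), (v : V) = z → e v = ![1, 0]

/-- the action of `y ∈ N_Y(X)` on `X` -/
def gy {L : Subgroup Y} {Q : Subgroup L} {y : Y} (hy : y ∈ NX L V Q) : ↥(fx V Q) →+ ↥(fx V Q) where
  toFun v := ⟨y • (v : V), NX_smul hy v.2⟩
  map_zero' := Subtype.ext (smul_zero y)
  map_add' v w := Subtype.ext (smul_add y (v : V) (w : V))

theorem gy_apply {L : Subgroup Y} {Q : Subgroup L} {y : Y} (hy : y ∈ NX L V Q) (v : ↥(fx V Q)) :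
    (gy hy v : V) = y • (v : V) := rfl

/-- ... in coordinates -/
def ge {L : Subgroup Y} {Q : Subgroup L} {K : Type} [Field K] (e : ↥(fx V Q) ≃+ (Fin 2 → K)) {y : Y}
    (hy : y ∈ NX L V Q) : (Fin 2 → K) →+ (Fin 2 → K) :=
  (e.toAddMonoidHom.comp (gy hy)).comp e.symm.toAddMonoidHom

theorem ge_apply {L : Subgroup Y} {Q : Subgroup L} {K : Type} [Field K] (e : ↥(fx V Q) ≃+ (Fin 2 → K)) {y : Y}
    (hy : y ∈ NX L V Q) (v : Fin 2 → K) : ge e hy v = e (gy hy (e.symm v)) := rfl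

theorem ge_e {L : Subgroup Y} {Q : Subgroup L} {K : Type} [Field K] (e : ↥(fx V Q) ≃+ (Fin 2 → K)) {y : Y}
    (hy : y ∈ NX L V Q) (v : ↥(fx V Q)) : ge e hy (e v) = e (gy hy v) := by
  rw [ge_apply, AddEquiv.symm_apply_apply]

/-- `y` is trivial on `X` -/
theorem ge_triv {L : Subgroup Y} {Q : Subgroup L} {K : Type} [Field K] (e : ↥(fx V Q) ≃+ (Fin 2 → K)) {y : Y}
    (hy : y ∈ NX L V Q) : (∀ v, ge e hy v = v) ↔ ∀ x ∈ fx V Q, y • x = x := by
  constructor
  · intro h1 x hx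
    have h2 := h1 (e ⟨x, hx⟩)
    rw [ge_e] at h2
    exact congrArg Subtype.val (e.injective h2)
  · intro h1 v
    rw [ge_apply]
    have : gy hy (e.symm v) = e.symm v := Subtype.ext (h1 _ (e.symm v).2)
    rw [this, AddEquiv.apply_symm_apply]

namespace Hyp0

variable {T : Sylow 2 Y} {M L : Subgroup Y} {A Q L₁ : Subgroup L} {R : Sylow 2 L} {E F : AddSubgroup V}
  {z : V} (h : Hyp0 T M L A Q L₁ R E F z)
include h

theorem exists_co [Finite Y] [Finite V] :
    ∃ (K : Type) (_ : Field K) (_ : Fintype K) (_ : CharP K 2) (e : ↥(fx V Q) ≃+ (Fin 2 → K)), Co Q F z K e := by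
  obtain ⟨K, i1, i2, i3, e, h1, h2, h3, h4, h5⟩ := exists_coord' h.loc h.beta h.C0
  refine ⟨K, i1, i2, i3, e, h1, h2, fun l => ?_, fun v hv => ?_⟩
  · obtain ⟨s, hs⟩ := h3 l
    refine ⟨s.1, fun v w hw => ?_⟩
    rw [← hs v]
    congr 1
    exact Subtype.ext hw
  · rw [← h5]
    congr 1
    exact Subtype.ext hv

theorem line [Finite Y] [Finite V] {K : Type} [Field K] {e : ↥(fx V Q) ≃+ (Fin 2 → K)} (hc : Co Q F z K e)
    {y : Y} (hy : y ∈ NX L V Q) (v : Fin 2 → K) (k : K) : ∃ k' : K, ge e hy (k • v) = k' • ge e hy v := by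
  by_cases hv : v = 0
  · exact ⟨0, by rw [hv, smul_zero, zero_smul, map_zero]⟩
  set x := e.symm v with hx
  have hev : e x = v := e.apply_symm_apply v
  set x' := e.symm (k • v) with hx'
  have hev' : e x' = k • v := e.apply_symm_apply _
  have hx0 : (x : V) ≠ 0 := by
    intro h1
    apply hv
    have : x = 0 := Subtype.ext h1
    rw [← hev, this, map_zero]
  obtain ⟨l, hl⟩ := h.trans x.2 hx0
  obtain ⟨s, hs⟩ := hc.act l⁻¹
  have hlx : l⁻¹ • (x : V) = z := by rw [← hl, inv_smul_smul]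
  -- `l⁻¹ x' ∈ X₁`
  have h1 : e ⟨l⁻¹ • (x' : V), h.loc.smul_X _ x'.2⟩ = ![k, 0] := by
    rw [hs x' _ rfl, hev', Matrix.mulVec_smul, ← hev, ← hs x ⟨l⁻¹ • (x : V), h.loc.smul_X _ x.2⟩ rfl,
      hc.ez _ hlx, smul_vec, mul_one, mul_zero]
  have h2 : l⁻¹ • (x' : V) ∈ fx V Q ⊓ F :=
    ⟨h.loc.smul_X _ x'.2, (hc.memF ⟨l⁻¹ • (x' : V), h.loc.smul_X _ x'.2⟩).2 (by rw [h1]; rfl)⟩
  have h3 : l⁻¹ • (x : V) ∈ fx V Q ⊓ F := by rw [hlx]; exact h.loc.z_mem
  obtain ⟨m, hm⟩ := h.comp hy l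
  have h4 := hm _ h2
  have h5 := hm _ h3
  obtain ⟨sm, hsm⟩ := hc.act m
  set u : ↥(fx V Q) := ⟨m⁻¹ • (y • (x : V)), h5.1⟩ with hu
  set u' : ↥(fx V Q) := ⟨m⁻¹ • (y • (x' : V)), h4.1⟩ with hu'
  have h6 : e (gy hy x) = sm.mulVec (e u) := hsm u _ (by rw [gy_apply, hu, smul_inv_smul])
  have h7 : e (gy hy x') = sm.mulVec (e u') := hsm u' _ (by rw [gy_apply, hu', smul_inv_smul])
  have hu1 : e u 1 = 0 := (hc.memF u).1 h5.2
  have hu'1 : e u' 1 = 0 := (hc.memF u').1 h4.2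
  have hu0 : e u 0 ≠ 0 := by
    intro h8
    have h9 : e u = 0 := by
      ext i
      fin_cases i
      · exact h8
      · exact hu1
    rw [map_eq_zero_iff e e.injective] at h9
    have h10 : m⁻¹ • (y • (x : V)) = 0 := congrArg Subtype.val h9
    rw [smul_eq_zero_iff_eq, smul_eq_zero_iff_eq] at h10
    exact hx0 h10
  refine ⟨e u' 0 / e u 0, ?_⟩
  have h8 : e u' = (e u' 0 / e u 0) • e u := by
    ext i
    fin_cases i
    · change e u' 0 = e u' 0 / e u 0 * e u 0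
      rw [div_mul_cancel₀ _ hu0]
    · change e u' 1 = e u' 0 / e u 0 * e u 1
      rw [hu1, hu'1, mul_zero]
  rw [ge_apply, ge_apply, ← hx, ← hx', h6, h7, h8, Matrix.mulVec_smul, ← h8]

theorem semi [Finite Y] [Finite V] {K : Type} [Field K] {e : ↥(fx V Q) ≃+ (Fin 2 → K)} (hc : Co Q F z K e)
    {y : Y} (hy : y ∈ NX L V Q) (hyz : y • z = z) :
    ∃ (α : K →+* K) (β δ : K), β ≠ 0 ∧ ∀ x y', ge e hy ![x, y'] = ![α x + δ * α y', β * α y'] := by
  haveI : Finite K := by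
    have : Finite (Fin 2 → K) := Finite.of_equiv _ e.toEquiv
    exact Finite.of_injective (fun k : K => (fun _ : Fin 2 => k)) fun a b hab => congrFun hab 0
  apply B0.semi (ge e hy) _ (h.line hc hy)
  · have h1 : ![1, 0] = e ⟨z, h.loc.z_mem.1⟩ := (hc.ez _ rfl).symm
    rw [h1, ge_e]
    congr 1
    exact Subtype.ext hyz
  · intro v w hvw
    rw [ge_apply, ge_apply] at hvw
    have h1 := congrArg Subtype.val (e.injective hvw)
    rw [gy_apply, gy_apply, smul_left_cancel_iff] at h1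
    exact e.symm.injective (Subtype.ext h1)

theorem fin_K [Finite V] {K : Type} [Field K] (e : ↥(fx V Q) ≃+ (Fin 2 → K)) : Finite K := by
  have : Finite (Fin 2 → K) := Finite.of_equiv _ e.toEquiv
  exact Finite.of_injective (fun k : K => (fun _ : Fin 2 => k)) fun a b hab => congrFun hab 0

/-- **(S1)** -/
theorem s1 [Finite Y] [Finite V] {P : Subgroup Y} {E' F' : AddSubgroup V} (hm : MemU P E' F')
    (hP : ∀ p ∈ P, p ∈ NX L V Q ∧ p • z = z) (hcard : Nat.card ↥(fx V Q) ≤ Nat.card P) :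
    ∀ p ∈ P, ∀ x ∈ fx V Q ⊓ F, p • x = x := by
  classical
  obtain ⟨K, i1, i2, i3, e, hc⟩ := h.exists_co
  haveI : Finite K := h.fin_K e
  -- `X ≤ E'`
  have hXE : fx V Q ≤ E' := by
    intro x hx
    by_contra hxE
    let f : Option P → ↥(fx V Q) := fun p => p.elim 0 fun p => ⟨(p : Y) • x, NX_smul (hP p p.2).1 hx⟩
    have hx0 : x ≠ 0 := fun h1 => hxE (h1 ▸ E'.zero_mem)
    have hf : Function.Injective f := by
      rintro (_ | p) (_ | p') hpp
      · rfl
      · exfalso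
        have h1 : (0 : V) = (p' : Y) • x := congrArg Subtype.val hpp
        rw [eq_comm, smul_eq_zero_iff_eq] at h1
        exact hx0 h1
      · exfalso
        have h1 : (p : Y) • x = 0 := congrArg Subtype.val hpp
        rw [smul_eq_zero_iff_eq] at h1
        exact hx0 h1
      · have h1 : (p : Y) • x = (p' : Y) • x := congrArg Subtype.val hpp
        have h2 := hm.inj x hxE ((p' : Y)⁻¹ * p) (mul_mem (inv_mem p'.2) p.2) (by
          rw [mul_smul, h1, inv_smul_smul, h.two]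
          exact F'.zero_mem)
        congr 1
        apply Subtype.ext
        rw [inv_mul_eq_one] at h2
        exact h2.symm
    have h1 := Nat.card_le_card_of_injective f hf
    rw [Finite.card_option] at h1
    omega
  let g : P → ((Fin 2 → K) →+ (Fin 2 → K)) := fun p => ge e (hP p p.2).1
  have hg1 : ∀ v, g 1 v = v := by
    rw [ge_triv]
    intro x _
    exact one_smul Y x
  have hgm : ∀ p q v, g (p * q) v = g p (g q v) := by
    intro p q v
    change e (gy _ (e.symm v)) = e (gy _ (e.symm (e (gy _ (e.symm v)))))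
    rw [e.symm_apply_apply]
    congr 1
    exact Subtype.ext (mul_smul (p : Y) (q : Y) _)
  have key := triv_of_mu g hg1 hgm (fun p => Subtype.ext (hm.sq p p.2))
    (fun p => h.semi hc (hP p p.2).1 (hP p p.2).2) (by
      -- (MU)
      let P₀ : Subgroup Y :=
        { carrier := {p | p ∈ P ∧ ∀ x ∈ fx V Q, p • x = x}
          mul_mem' := fun {a b} ha hb => ⟨mul_mem ha.1 hb.1, fun x hx => by rw [mul_smul, hb.2 x hx, ha.2 x hx]⟩
          one_mem' := ⟨one_mem _, fun x _ => one_smul Y x⟩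
          inv_mem' := fun {a} ha => ⟨inv_mem ha.1, fun x hx => by rw [inv_smul_eq_iff, ha.2 x hx]⟩ }
      have h1 := hm.mu P₀ (fun p hp => hp.1)
      rw [hm.card_E h.two] at h1
      have h2 : fx V Q ⊔ F' ≤ fx V P₀ ⊓ E' := by
        refine sup_le (le_inf (fun x hx p hp => hp.2 x hx) hXE) (le_inf ?_ hm.FE)
        intro f hf p hp
        exact hm.FB p hp.1 f hf
      have h3 : Nat.card ↥(fx V Q ⊔ F') ≤ Nat.card ↥(fx V P₀ ⊓ E') :=
        Nat.card_le_card_of_injective _ (AddSubgroup.inclusion_injective h2)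
      have h4 := card_sup_as (fx V Q) F'
      have h5 : Nat.card {p : P | ∀ v, g p v = v} = Nat.card P₀ := by
        apply Nat.card_congr
        exact
          { toFun := fun p => ⟨p.1.1, p.1.2, (ge_triv e _).1 p.2⟩
            invFun := fun p => ⟨⟨p.1, p.2.1⟩, (ge_triv e _).2 p.2.2⟩
            left_inv := fun p => rfl
            right_inv := fun p => rfl }
      have h6 : Nat.card {v : Fin 2 → K | ∀ p, g p v = v} = Nat.card ↥(fx V Q ⊓ F') := by
        apply Nat.card_congr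
        exact
          { toFun := fun v => ⟨(e.symm v.1 : V), (e.symm v.1).2, hm.CB _ fun p hp => by
              have h7 := v.2 ⟨p, hp⟩
              have h8 : gy (hP p hp).1 (e.symm v.1) = e.symm v.1 := by
                apply e.injective
                rw [e.apply_symm_apply]
                exact h7
              exact congrArg Subtype.val h8⟩
            invFun := fun v => ⟨e ⟨v.1, v.2.1⟩, fun p => by
              change ge e _ _ = _
              rw [ge_e]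
              congr 1
              exact Subtype.ext (hm.FB p p.2 _ v.2.2)⟩
            left_inv := fun v => Subtype.ext (e.apply_symm_apply v.1)
            right_inv := fun v => Subtype.ext (by
              change ((e.symm (e ⟨v.1, v.2.1⟩) : ↥(fx V Q)) : V) = v.1
              rw [e.symm_apply_apply]) }
      have h7 : Nat.card K ^ 2 = Nat.card ↥(fx V Q) := by
        rw [Nat.card_congr e.toEquiv, Nat.card_fun, Nat.card_fin]
      rw [h5, h6, h7]
      have hF0 : 0 < Nat.card F' := Nat.card_pos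
      apply Nat.le_of_mul_le_mul_left _ hF0
      calc Nat.card F' * (Nat.card P₀ * Nat.card ↥(fx V Q))
          = Nat.card P₀ * (Nat.card ↥(fx V Q ⊔ F') * Nat.card ↥(fx V Q ⊓ F')) := by rw [h4]; ring
        _ ≤ Nat.card P₀ * (Nat.card ↥(fx V P₀ ⊓ E') * Nat.card ↥(fx V Q ⊓ F')) :=
          Nat.mul_le_mul_left _ (Nat.mul_le_mul_right _ h3)
        _ = Nat.card P₀ * Nat.card ↥(fx V P₀ ⊓ E') * Nat.card ↥(fx V Q ⊓ F') := by ring
        _ ≤ Nat.card F' * Nat.card P * Nat.card ↥(fx V Q ⊓ F') := Nat.mul_le_mul_right _ h1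
        _ = _ := by ring)
  intro p hp x hx
  have h1 := key ⟨p, hp⟩ (e ⟨x, hx.1⟩ 0)
  have h2 : e ⟨x, hx.1⟩ = ![e ⟨x, hx.1⟩ 0, 0] := by
    have h3 := vec_eq (e ⟨x, hx.1⟩)
    rw [(hc.memF ⟨x, hx.1⟩).1 hx.2] at h3
    exact h3
  rw [← h2] at h1
  change ge e _ (e ⟨x, hx.1⟩) = _ at h1
  rw [ge_e] at h1
  exact congrArg Subtype.val (e.injective h1)

/-- **(S2)** -/
theorem s2 [Finite Y] [Finite V] {p : Y} (hp : p ∈ T) (hpX : p ∈ NX L V Q)
    (hp1 : ∀ x ∈ fx V Q ⊓ F, p • x = x) :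
    (∀ x ∈ fx V Q, p • x + x ∈ fx V Q ⊓ F) ∧
      ∀ v ∈ fx V Q, v ∉ F → p • v = v → ∀ x ∈ fx V Q, p • x = x := by
  obtain ⟨K, i1, i2, i3, e, hc⟩ := h.exists_co
  haveI : Finite K := h.fin_K e
  obtain ⟨α, β, δ, hβ, hg⟩ := h.semi hc hpX (h.zT p hp)
  have hα : ∀ x, α x = x := by
    intro x
    have h1 : (e.symm ![x, 0] : V) ∈ F := (hc.memF _).2 (by rw [e.apply_symm_apply]; rfl)
    have h2 : gy hpX (e.symm ![x, 0]) = e.symm ![x, 0] := Subtype.ext (hp1 _ ⟨(e.symm ![x, 0]).2, h1⟩)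
    have h3 := hg x 0
    rw [ge_apply, h2, e.apply_symm_apply] at h3
    have h4 := (vec_inj h3).1
    rw [map_zero, mul_zero, add_zero] at h4
    exact h4.symm
  -- `β = 1`
  have hβ1 : β = 1 := by
    obtain ⟨n, hn⟩ := T.2 ⟨p, hp⟩
    have hn' : p ^ 2 ^ n = 1 := congrArg Subtype.val hn
    have hk : ∀ (k : ℕ) (w : ↥(fx V Q)), (w : V) = p ^ k • (e.symm ![0, 1] : V) → e w 1 = β ^ k := by
      intro k
      induction k with
      | zero =>
        intro w hw
        have : w = e.symm ![0, 1] := Subtype.ext (by rw [hw, pow_zero, one_smul])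
        rw [this, e.apply_symm_apply, pow_zero]; rfl
      | succ k ih =>
        intro w hw
        have hw' : p ^ k • (e.symm ![0, 1] : V) ∈ fx V Q := NX_smul (pow_mem hpX k) (e.symm ![0, 1]).2
        have h1 : w = gy hpX ⟨_, hw'⟩ := Subtype.ext (by rw [gy_apply, hw, pow_succ', mul_smul])
        rw [h1, ← ge_e, vec_eq (e ⟨_, hw'⟩), hg, pow_succ', hα, hα]
        change β * e ⟨_, hw'⟩ 1 = _
        rw [ih _ rfl]
    have h1 := hk (2 ^ n) (e.symm ![0, 1]) (by rw [hn', one_smul])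
    rw [e.apply_symm_apply] at h1
    have h3 : β ^ 2 ^ n = 1 := h1.symm
    have h4 : (β - 1) ^ 2 ^ n = 0 := by
      rw [sub_pow_char_pow, one_pow, h3, sub_self]
    exact sub_eq_zero.1 (pow_eq_zero_iff (pow_ne_zero n two_ne_zero) |>.1 h4)
  have hg' : ∀ x y, ge e hpX ![x, y] = ![x + δ * y, y] := by
    intro x y
    rw [hg, hα, hα, hβ1, one_mul]
  constructor
  · intro x hx
    refine ⟨(fx V Q).add_mem (NX_smul hpX hx) hx, ?_⟩
    have h1 := (hc.memF (gy hpX ⟨x, hx⟩ + ⟨x, hx⟩)).2 (by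
      rw [map_add, ← ge_e, vec_eq (e ⟨x, hx⟩), hg', add_vec]
      change e ⟨x, hx⟩ 1 + e ⟨x, hx⟩ 1 = 0
      exact CharTwo.add_self_eq_zero _)
    exact h1
  · intro v hv hvF hpv
    have h1 : e ⟨v, hv⟩ 1 ≠ 0 := fun h2 => hvF ((hc.memF ⟨v, hv⟩).2 h2)
    have h2 : gy hpX ⟨v, hv⟩ = ⟨v, hv⟩ := Subtype.ext hpv
    have h3 : ge e hpX (e ⟨v, hv⟩) = e ⟨v, hv⟩ := by rw [ge_e, h2]
    rw [vec_eq (e ⟨v, hv⟩), hg'] at h3
    have h4 := (vec_inj h3).1
    have h5 : δ = 0 := by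
      have h6 : δ * e ⟨v, hv⟩ 1 = 0 := by
        have := h4
        rwa [add_eq_left] at this
      exact (mul_eq_zero.1 h6).resolve_right h1
    rw [← ge_triv e hpX]
    intro w
    rw [vec_eq w, hg', h5, zero_mul, add_zero]

end Hyp0

/-- the 2-element `t` -/
structure Tk (T : Sylow 2 Y) (L : Subgroup Y) (V : Type u) [AddCommGroup V] [DistribMulAction Y V]
    (Q : Subgroup L) (t : Y) : Prop where
  tT : t ∈ T
  tX : t ∉ NX L V Q
  tt : t * t ∈ NX L V Q
  cj : ∀ p ∈ T, p ∈ NX L V Q → t * p * t⁻¹ ∈ NX L V Q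
  cj' : ∀ p ∈ T, p ∈ NX L V Q → t⁻¹ * p * t ∈ NX L V Q

namespace Hyp0

variable {T : Sylow 2 Y} {M L : Subgroup Y} {A Q L₁ : Subgroup L} {R : Sylow 2 L} {E F : AddSubgroup V}
  {z : V} (h : Hyp0 T M L A Q L₁ R E F z)
include h

theorem not_T_le [Finite Y] [Finite V] : ¬ (T : Subgroup Y) ≤ NX L V Q := by
  intro h1
  by_cases h2 : NX L V Q = ⊤
  · have h3 := h.irr (fx V Q) (fun y w hw => NX_smul (by rw [h2]; exact mem_top y) hw) h.beta.XE
    have h4 : z ∈ fx V Q := h.loc.z_mem.1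
    rw [h3, AddSubgroup.mem_bot] at h4
    exact h.z_ne h4
  · exact h.LM (h.L_le_NX.trans (h.uniqM _ h1 h2))

theorem exists_t [Finite Y] [Finite V] : ∃ t, Tk T L V Q t := by
  obtain ⟨⟨t, ht⟩, h1, h2, h3⟩ := exists_sq T.2 ((NX L V Q).subgroupOf T) (by
    rw [Ne, subgroupOf_eq_top]
    exact h.not_T_le)
  refine ⟨t, ht, fun h4 => h1 (mem_subgroupOf.2 h4), mem_subgroupOf.1 h2, ?_, ?_⟩
  · intro p hp hpX
    exact mem_subgroupOf.1 ((h3 ⟨p, hp⟩).1 (mem_subgroupOf.2 hpX))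
  · intro p hp hpX
    have h5 : (⟨t, ht⟩ : (T : Subgroup Y)) * ⟨t⁻¹ * p * t, mul_mem (mul_mem (inv_mem ht) hp) ht⟩ * (⟨t, ht⟩)⁻¹ ∈
        (NX L V Q).subgroupOf T := by
      rw [mem_subgroupOf]
      change t * (t⁻¹ * p * t) * t⁻¹ ∈ _
      have e : t * (t⁻¹ * p * t) * t⁻¹ = p := by group
      rwa [e]
    exact mem_subgroupOf.1 ((h3 _).2 h5)

end Hyp0

end Cfsg.Agent.Omega.NO1.B0

end

section


/-!
# THEOREM B0 (bb OMEGA 18835, helper970): the conclusions of (1)-(7)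

`X = C_V(Q)`, `S = Q`, `a = |V/E|`.
-/

set_option autoImplicit false
set_option linter.unusedSectionVars false
set_option linter.style.haveILetI false

namespace Cfsg.Agent.Omega.NO1.B0

open Subgroup Cfsg.Agent.Omega.NO1.AB
open scoped Pointwise

universe u

variable {Y : Type u} [Group Y] {V : Type u} [AddCommGroup V] [DistribMulAction Y V]

/-- The conclusions of (1)-(7) (`S = Q = B₁ = B₂ = D`, `K` = `SL₂(a)`). -/
structure Out (T : Sylow 2 Y) (M L : Subgroup Y) (A Q L₁ : Subgroup L) (R : Sylow 2 L) (E F : AddSubgroup V)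
    (z : V) (t : Y) : Prop where
  hyp : Hyp T M L A Q L₁ R E F z
  tk : Tk T L V Q t
  QA : Q ≤ A
  cQ : Nat.card Q = E.index
  cA : Nat.card A = E.index ^ 2
  cF : Nat.card F = E.index
  cX : Nat.card ↥(fx V Q) = E.index ^ 2
  cV : Nat.card V = E.index ^ 4
  FX : F ≤ fx V Q
  supE : E = fx V Q ⊔ t • fx V Q
  infF : fx V Q ⊓ t • fx V Q = F
  tF : t • F = F
  tE : t • E = E
  Qz : ∀ q ∈ Q, ∀ l : L, q * l = l * q
  /-- `C_V(q) = X` -/
  Qfix : ∀ q ∈ Q, q ≠ 1 → ∀ v : V, q • v = v → v ∈ fx V Q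
  /-- `[V,q] = X` -/
  QV : ∀ q ∈ Q, ∀ v : V, q • v + v ∈ fx V Q
  Qsurj : ∀ q ∈ Q, q ≠ 1 → ∀ x ∈ fx V Q, ∃ v : V, q • v + v = x
  /-- `A = S × S^t = A^t` -/
  QtA : ∀ q ∈ Q, ∃ b ∈ A, (b : Y) = t * q * t⁻¹
  tA : ∀ b ∈ A, ∃ c ∈ A, (c : Y) = t * b * t⁻¹
  prod : ∀ b ∈ A, ∃ q ∈ Q, ∃ q' ∈ Q, (b : Y) = q * (t * q' * t⁻¹)
  inf1 : ∀ q ∈ Q, ∀ q' ∈ Q, (q : Y) = t * q' * t⁻¹ → q = 1
  /-- `C_A(X') = S^t` -/
  CAX' : ∀ b ∈ A, (∀ x ∈ t • fx V Q, b • x = x) → ∃ q ∈ Q, (b : Y) = t * q * t⁻¹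
  /-- `C_Y(X) ∩ C_Y(V/X) = S` -/
  DD : ∀ y : Y, (∀ x ∈ fx V Q, y • x = x) → (∀ v : V, y • v + v ∈ fx V Q) → ∃ q ∈ Q, (q : Y) = y
  /-- `C_L(X) = S` -/
  CL : ∀ l : L, (∀ x ∈ fx V Q, l • x = x) → l ∈ Q
  /-- `C_T(X) = S`, `C_T(A) = A` -/
  CTX : ∀ y ∈ T, (∀ x ∈ fx V Q, y • x = x) → ∃ q ∈ Q, (q : Y) = y
  CTA : ∀ y ∈ T, (∀ b ∈ A, y * (b : Y) = b * y) → ∃ b ∈ A, (b : Y) = y

/-- Gaschütz: `L = S × K` -/
structure OutK {T : Sylow 2 Y} {M L : Subgroup Y} {A Q L₁ : Subgroup L} {R : Sylow 2 L} {E F : AddSubgroup V}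
    {z : V} {t : Y} (_ : Out T M L A Q L₁ R E F z t) (K : Subgroup L) (𝕂 : Type) [Field 𝕂]
    (e : ↥(fx V Q) ≃+ (Fin 2 → 𝕂)) (φ : K ≃* Matrix.SpecialLinearGroup (Fin 2) 𝕂) : Prop where
  inf : K ⊓ Q = ⊥
  sup : K ⊔ Q = ⊤
  normal : K.Normal
  card : Nat.card 𝕂 = E.index
  act : ∀ (k : K) (v w : ↥(fx V Q)), (w : V) = (k : L) • (v : V) → e w = (φ k).1.mulVec (e v)
  memF : ∀ v : ↥(fx V Q), (v : V) ∈ F ↔ e v 1 = 0

end Cfsg.Agent.Omega.NO1.B0

end

section


/-!
# THEOREM B0 (bb OMEGA 18835, helper970): (1)-(4)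

`X = C_V(Q)`, `X₁ = X ∩ F`, `X' = t X`.  `t X₁ = X₁`, `X' ≤ E`, `[X', Q] ≤ X₁`, `|A ∩ Q| = |X₁| = |V/E|`, `|A| = |V/E|²`,
`V = X' + l E`, `X' ∩ l E = X₁` for `l ∉ L₁`.
-/

set_option autoImplicit false
set_option linter.unusedSectionVars false
set_option linter.style.haveILetI false

namespace Cfsg.Agent.Omega.NO1.B0

open Subgroup Cfsg.Agent.Omega.NO1.AB
open scoped Pointwise

universe u

variable {Y : Type u} [Group Y] {V : Type u} [AddCommGroup V] [DistribMulAction Y V]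

theorem card_mono_as [Finite V] {W₁ W₂ : AddSubgroup V} (h : W₁ ≤ W₂) : Nat.card W₁ ≤ Nat.card W₂ :=
  Nat.card_le_card_of_injective _ (AddSubgroup.inclusion_injective h)

/-- `|C_A(p)| ≥ |V/E|` for `p ∈ E - F` -/
theorem card_CA [Finite Y] [Finite V] {B : Subgroup Y} {E F : AddSubgroup V} (h2 : ∀ v : V, v + v = 0)
    (h : Mem B E F) {p : V} (hp : p ∈ E) (hpF : p ∉ F) :
    E.index ≤ Nat.card ↥(B ⊓ MulAction.stabilizer Y p) := by
  classical
  have hex : ∀ w : V, w ∉ E → ∃ b : ↥(B ⊓ MulAction.stabilizer Y p), (b : Y) • w + w + p ∈ F := by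
    intro w hw
    obtain ⟨b, hb, h1⟩ := h.surj w hw p hp
    refine ⟨⟨b, hb, ?_⟩, h1⟩
    change b • p = p
    have h3 := h.FB b hb _ h1
    rw [smul_add, smul_add, ← mul_smul, h.sq b hb, one_smul, add_comm w (b • w)] at h3
    exact add_left_cancel h3
  choose f hf using hex
  let g : V ⧸ E → ↥(B ⊓ MulAction.stabilizer Y p) := fun q =>
    if hq : q.out ∈ E then 1 else f q.out hq
  have hne1 : ∀ w hw, f w hw ≠ 1 := by
    intro w hw h1
    have h3 := hf w hw
    rw [h1, coe_one, one_smul, h2, zero_add] at h3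
    exact hpF h3
  have hg : Function.Injective g := by
    intro q q' hqq
    have hout : ∀ q : V ⧸ E, q.out ∈ E → q = 0 := by
      intro q hq
      rw [← QuotientAddGroup.out_eq' q]
      exact (QuotientAddGroup.eq_zero_iff _).2 hq
    by_cases h1 : q.out ∈ E <;> by_cases h3 : q'.out ∈ E
    · rw [hout q h1, hout q' h3]
    · exfalso
      have h4 : g q = 1 := dif_pos h1
      have h5 : g q' = f q'.out h3 := dif_neg h3
      exact hne1 _ h3 (by rw [← h5, ← hqq, h4])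
    · exfalso
      have h4 : g q' = 1 := dif_pos h3
      have h5 : g q = f q.out h1 := dif_neg h1
      exact hne1 _ h1 (by rw [← h5, hqq, h4])
    · have h4 : g q = f q.out h1 := dif_neg h1
      have h5 : g q' = f q'.out h3 := dif_neg h3
      have h6 : q.out + q'.out ∈ E := by
        by_contra h7
        have h8 := hf _ h1
        have h9 := hf _ h3
        rw [← h5, ← hqq, h4] at h9
        have h10 := h.inj _ h7 _ (f q.out h1).2.1 (by
          have h11 := F.add_mem h8 h9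
          rw [smul_add]
          have e : ((f q.out h1 : ↥(B ⊓ MulAction.stabilizer Y p)) : Y) • q.out + q.out + p +
              (((f q.out h1 : ↥(B ⊓ MulAction.stabilizer Y p)) : Y) • q'.out + q'.out + p) =
              ((f q.out h1 : ↥(B ⊓ MulAction.stabilizer Y p)) : Y) • q.out +
              ((f q.out h1 : ↥(B ⊓ MulAction.stabilizer Y p)) : Y) • q'.out + (q.out + q'.out) + (p + p) := by abel
          rwa [e, h2 p, add_zero] at h11)
        exact hne1 _ h1 (Subtype.ext h10)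
      rw [← QuotientAddGroup.out_eq' q, ← QuotientAddGroup.out_eq' q', QuotientAddGroup.eq]
      have h7 : -q.out = q.out := neg_eq_of_add_eq_zero_left (h2 _)
      rwa [h7]
  exact Nat.card_le_card_of_injective g hg

namespace Hyp0

variable {T : Sylow 2 Y} {M L : Subgroup Y} {A Q L₁ : Subgroup L} {R : Sylow 2 L} {E F : AddSubgroup V}
  {z : V} (h : Hyp0 T M L A Q L₁ R E F z)
include h

theorem AT {a : L} (ha : a ∈ A) : (a : Y) ∈ T := h.RT a (h.loc.AR ha)

theorem AN [Finite V] (a : L) : (a : Y) ∈ NX L V Q := h.L_le_NX a.2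

theorem QT [Finite Y] {q : L} (hq : q ∈ Q) : (q : Y) ∈ T := h.RT q (h.loc.Q_le_R hq)

theorem two_le_c [Finite Y] [Finite V] : 1 < Nat.card ↥(fx V Q ⊓ F) := by
  have : Nontrivial ↥(fx V Q ⊓ F) :=
    ⟨⟨⟨z, h.loc.z_mem⟩, 0, fun h2 => h.z_ne (congrArg Subtype.val h2)⟩⟩
  exact Finite.one_lt_card

theorem cX [Finite Y] [Finite V] : Nat.card ↥(fx V Q) = Nat.card ↥(fx V Q ⊓ F) ^ 2 := card_X h.loc h.beta h.C0

theorem cA [Finite Y] [Finite V] : Nat.card ↥(fx V Q ⊓ F) * Nat.card ↥(A ⊓ Q) = Nat.card A :=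
  X1_card_mul h.loc h.beta h.C0

/-- `c ≤ |A ∩ Q|` -/
theorem c_le_B [Finite Y] [Finite V] : Nat.card ↥(fx V Q ⊓ F) ≤ Nat.card ↥(A ⊓ Q) := by
  obtain ⟨w, hw⟩ := h.loc.mem.ne
  have hex : ∀ v : ↥(fx V Q ⊔ F), ∃ b : ↥(A ⊓ Q), (b : L) • w + w + (v : V) ∈ F := by
    intro v
    have hvE : (v : V) ∈ E := (sup_le h.beta.XE h.loc.mem.FE) v.2
    obtain ⟨b, hb, h1⟩ := h.loc.mem.surj w hw _ hvE
    refine ⟨⟨b, hb, ?_⟩, h1⟩
    apply h.beta.perp_mem h.loc.mem le_rfl hw hb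
    have e : b • w + w = (v : V) + (b • w + w + v) := by
      rw [add_comm (b • w + w) (v : V), ← add_assoc, h.two, zero_add]
    rw [e]
    exact AddSubgroup.add_mem _ v.2 (AddSubgroup.mem_sup_right h1)
  choose f hf using hex
  let g : ↥(fx V Q ⊔ F) → ↥(A ⊓ Q) × F := fun v => (f v, ⟨_, hf v⟩)
  have hg : Function.Injective g := by
    intro v v' hvv
    have h1 : f v = f v' := congrArg Prod.fst hvv
    have h2 : (f v : L) • w + w + (v : V) = (f v' : L) • w + w + (v' : V) :=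
      congrArg (fun q : ↥(A ⊓ Q) × F => (q.2 : V)) hvv
    rw [h1] at h2
    exact Subtype.ext (add_left_cancel h2)
  have h1 := Nat.card_le_card_of_injective g hg
  rw [Nat.card_prod] at h1
  have h2 := card_sup_as (fx V Q) F
  rw [h.cX] at h2
  have hF0 : 0 < Nat.card F := Nat.card_pos
  have hc0 : 0 < Nat.card ↥(fx V Q ⊓ F) := Nat.card_pos
  apply Nat.le_of_mul_le_mul_right _ hF0
  apply Nat.le_of_mul_le_mul_left _ hc0
  calc Nat.card ↥(fx V Q ⊓ F) * (Nat.card ↥(fx V Q ⊓ F) * Nat.card F)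
      = Nat.card ↥(fx V Q ⊓ F) ^ 2 * Nat.card F := by ring
    _ = Nat.card ↥(fx V Q ⊓ F) * Nat.card ↥(fx V Q ⊔ F) := by rw [← h2]; ring
    _ ≤ _ := Nat.mul_le_mul_left _ h1

theorem cX_le [Finite Y] [Finite V] : Nat.card ↥(fx V Q) ≤ Nat.card A := by
  rw [h.cX, ← h.cA, pow_two]
  exact Nat.mul_le_mul_left _ h.c_le_B

/-- `A` in `Y` -/
theorem memU [Finite V] : MemU (A.map L.subtype) E F where
  comm := by
    rintro _ ⟨b, hb, rfl⟩ _ ⟨c, hc, rfl⟩
    exact congrArg Subtype.val (h.loc.mem.comm b hb c hc)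
  sq := by
    rintro _ ⟨b, hb, rfl⟩
    exact congrArg Subtype.val (h.loc.mem.sq b hb)
  FE := h.loc.mem.FE
  VB := by
    rintro _ ⟨b, hb, rfl⟩ v
    exact h.loc.mem.VB b hb v
  EB := by
    rintro _ ⟨b, hb, rfl⟩ v
    exact h.loc.mem.EB b hb v
  FB := by
    rintro _ ⟨b, hb, rfl⟩ v
    exact h.loc.mem.FB b hb v
  CB := fun v hv => h.loc.mem.CB v fun b hb => hv _ ⟨b, hb, rfl⟩
  inj := by
    rintro w hw _ ⟨b, hb, rfl⟩ h1
    exact congrArg Subtype.val (h.loc.mem.inj w hw b hb h1)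
  surj := by
    intro w hw e he
    obtain ⟨b, hb, h1⟩ := h.loc.mem.surj w hw e he
    exact ⟨_, ⟨b, hb, rfl⟩, h1⟩
  ne := h.loc.mem.ne
  mu := by
    intro B₀ hB₀
    have hB₀L : B₀ ≤ L := hB₀.trans (map_subtype_le A)
    have h1 := h.loc.mu (B₀.subgroupOf L) (by
      intro b hb
      obtain ⟨a, ha, h2⟩ := hB₀ (mem_subgroupOf.1 hb)
      have : a = b := Subtype.ext h2
      rwa [← this])
    have h2 : Nat.card ↥(B₀.subgroupOf L) = Nat.card B₀ := Nat.card_congr (subgroupOfEquivOfLe hB₀L).toEquiv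
    have h3 : fx V (B₀.subgroupOf L) = fx V B₀ := by
      ext v
      constructor
      · intro hv b hb
        exact hv ⟨b, hB₀L hb⟩ (mem_subgroupOf.2 hb)
      · intro hv b hb
        exact hv b (mem_subgroupOf.1 hb)
    rw [h2, h3] at h1
    exact h1

/-- `v ∈ F`, `l⁻¹ v ∈ X + F` ⟹ `v ∈ X₁` (`l ∉ L₁`) -/
theorem F_inf [Finite Y] [Finite V] {l : L} (hl : l ∉ L₁) {x : V} (hx : x ∈ F) (hlx : l⁻¹ • x ∈ fx V Q ⊔ F) :
    x ∈ fx V Q ⊓ F := by
  rw [AddSubgroup.mem_sup] at hlx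
  obtain ⟨y, hy, f, hf, he⟩ := hlx
  have h1 : l • y ∈ fx V Q := h.loc.smul_X l hy
  have h2 := h1
  rw [h.beta.sup l hl, AddSubgroup.mem_sup] at h2
  obtain ⟨u, hu, v, hv, huv⟩ := h2
  have hx' : x = u + (v + l • f) := by
    rw [← add_assoc, huv, ← smul_add, he, smul_inv_smul]
  have h3 : x + u = v + l • f := by
    rw [hx', add_comm u, add_assoc, h.two, add_zero]
  have h4 : v + l • f ∈ fx V (⊤ : Subgroup L) := by
    apply h.loc.fix_all (x := 1) (y := l) (by simpa using hl)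
    · rw [inv_one, one_smul, ← h3]
      exact F.add_mem hx hu.2
    · rw [smul_add, inv_smul_smul]
      exact F.add_mem (mem_smul_as.1 hv).2 hf
  rw [h.C0, AddSubgroup.mem_bot] at h4
  rw [hx', h4, add_zero]
  exact hu

theorem FF [Finite Y] [Finite V] {l : L} (hl : l ∉ L₁) {x : V} (hx : x ∈ F) (hlx : l⁻¹ • x ∈ F) : x = 0 := by
  have h4 : x ∈ fx V (⊤ : Subgroup L) :=
    h.loc.fix_all (x := 1) (y := l) (by simpa using hl) (by rwa [inv_one, one_smul]) hlx
  rwa [h.C0, AddSubgroup.mem_bot] at h4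

theorem inv_nmem {l : L} (hl : l ∉ L₁) : l⁻¹ ∉ L₁ := fun h1 => hl (by simpa using inv_mem h1)

theorem Xmem {l : L} {x : V} (hx : x ∈ fx V Q) : l • x ∈ fx V Q := h.loc.smul_X l hx

section t

variable {t : Y} (k : Tk T L V Q t)
include k

theorem tz : t⁻¹ • z = z := by rw [inv_smul_eq_iff, h.zT t k.tT]

theorem zt [Finite Y] : z ∈ t • (fx V Q ⊓ F) := by
  rw [mem_smul_as, h.tz k]
  exact h.loc.z_mem

theorem cjT {p : Y} (hp : p ∈ T) : t⁻¹ * p * t ∈ T := mul_mem (mul_mem (inv_mem k.tT) hp) k.tT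

/-- the action of `T ∩ N_Y(X)` on `X' = t X` -/
theorem actX' {p : Y} (hp : p ∈ T) (hpX : p ∈ NX L V Q) {x : V} (hx : x ∈ t • (fx V Q : AddSubgroup V)) :
    p • x ∈ t • (fx V Q : AddSubgroup V) := by
  rw [mem_smul_as] at hx ⊢
  have h1 := NX_smul (k.cj' p hp hpX) hx
  rw [mul_smul, mul_smul, smul_inv_smul] at h1
  exact h1

theorem actX1' [Finite Y] [Finite V] {p : Y} (hp : p ∈ T) (hpX : p ∈ NX L V Q) {x : V}
    (hx : x ∈ t • (fx V Q ⊓ F)) : p • x ∈ t • (fx V Q ⊓ F) := by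
  rw [mem_smul_as] at hx ⊢
  have h1 := h.comp_z (k.cj' p hp hpX) (h.zT _ (h.cjT k hp)) hx
  rw [mul_smul, mul_smul, smul_inv_smul] at h1
  exact h1

/-- **(S2)** for `X' = t X` -/
theorem s2' [Finite Y] [Finite V] {p : Y} (hp : p ∈ T) (hpX : p ∈ NX L V Q)
    (hp1 : ∀ x ∈ t • (fx V Q ⊓ F), p • x = x) :
    (∀ x ∈ t • (fx V Q : AddSubgroup V), p • x + x ∈ t • (fx V Q ⊓ F)) ∧
      ∀ v ∈ t • (fx V Q : AddSubgroup V), v ∉ t • (fx V Q ⊓ F) → p • v = v →
        ∀ x ∈ t • (fx V Q : AddSubgroup V), p • x = x := by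
  have hs : ∀ x : V, (t⁻¹ * p * t) • (t⁻¹ • x) = t⁻¹ • (p • x) := by
    intro x
    rw [mul_smul, mul_smul, smul_inv_smul]
  obtain ⟨h1, h2⟩ := h.s2 (h.cjT k hp) (k.cj' p hp hpX) (by
    intro x hx
    have h1 := hs (t • x)
    rw [inv_smul_smul, hp1 _ (smul_mem_smul_as hx), inv_smul_smul] at h1
    exact h1)
  constructor
  · intro x hx
    rw [mem_smul_as] at hx ⊢
    have h3 := h1 _ hx
    rw [hs, ← smul_add] at h3
    exact h3
  · intro v hv hv1 hpv x hx
    rw [mem_smul_as] at hv hv1 hx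
    have h3 := h2 _ hv (fun h4 => hv1 ⟨hv, h4⟩) (by rw [hs, hpv]) _ hx
    rw [hs] at h3
    exact smul_left_cancel _ h3

/-- **(1)** `A` centralises `t X₁` -/
theorem one_A [Finite Y] [Finite V] {a : L} (ha : a ∈ A) {x : V} (hx : x ∈ t • (fx V Q ⊓ F)) : a • x = x := by
  have hU := (h.memU).conj t⁻¹
  have h1 := h.s1 hU (by
    intro p hp
    rw [mem_conj, inv_inv] at hp
    obtain ⟨b, hb, hbp⟩ := hp
    have hbp' : (b : Y) = t * p * t⁻¹ := hbp
    have e : p = t⁻¹ * (b : Y) * t := by rw [hbp']; group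
    rw [e]
    exact ⟨k.cj' _ (h.AT hb) (h.AN b), h.zT _ (h.cjT k (h.AT hb))⟩) (by
    have h2 : Nat.card (MulAut.conj t⁻¹ • A.map L.subtype : Subgroup Y) = Nat.card A := by
      rw [← Nat.card_congr (Subgroup.equivSMul (MulAut.conj t⁻¹) (A.map L.subtype)).toEquiv]
      exact (Nat.card_congr (A.equivMapOfInjective _ L.subtype_injective).toEquiv).symm
    rw [h2]
    exact h.cX_le) (t⁻¹ * (a : Y) * t) (by
      rw [mem_conj, inv_inv]
      exact ⟨a, ha, by
        change (a : Y) = _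
        group⟩) _ (mem_smul_as.1 hx)
  rw [mul_smul, mul_smul, smul_inv_smul] at h1
  exact smul_left_cancel _ h1

theorem tX1_le_F [Finite Y] [Finite V] {x : V} (hx : x ∈ t • (fx V Q ⊓ F)) : x ∈ F :=
  h.loc.mem.CB x fun _ ha => h.one_A k ha hx

theorem A_ne [Finite Y] [Finite V] : ∃ a ∈ A ⊓ Q, a ≠ 1 := by
  by_contra hc
  push Not at hc
  apply h.beta.ne
  rw [eq_bot_iff]
  intro b hb
  exact hc b hb

theorem X'_le_E [Finite Y] [Finite V] {x : V} (hx : x ∈ t • (fx V Q : AddSubgroup V)) : x ∈ E := by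
  by_contra hxE
  obtain ⟨a, ha, ha1⟩ := h.A_ne k
  apply ha1
  apply h.loc.mem.inj x hxE a ha.1
  exact h.tX1_le_F k ((h.s2' k (h.AT ha.1) (h.AN a) fun x hx => h.one_A k ha.1 hx).1 x hx)

theorem card_tX1 [Finite V] : Nat.card ↥(t • (fx V Q ⊓ F)) = Nat.card ↥(fx V Q ⊓ F) := card_smul_as t _

/-- conjugates of `A ∩ Q` -/
theorem conjB {l b : L} (hb : b ∈ A ⊓ Q) : l * b * l⁻¹ ∈ Q := h.loc.Qn.conj_mem b hb.2 l

theorem conj_smul_add {l b : L} (x : V) : l⁻¹ • ((l * b * l⁻¹) • x + x) = b • (l⁻¹ • x) + l⁻¹ • x := by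
  rw [smul_add, mul_smul, mul_smul, inv_smul_smul]

/-- **(2a)** `t X₁ ≤ l E` -/
theorem two_a [Finite Y] [Finite V] (l : L) {x : V} (hx : x ∈ t • (fx V Q ⊓ F)) : l⁻¹ • x ∈ E := by
  by_contra hxE
  -- the elements `(l b l⁻¹) x + x`
  have hmem : ∀ b : ↥(A ⊓ Q), (l * (b : L) * l⁻¹) • x + x ∈ t • (fx V Q ⊓ F) := by
    intro b
    have hq := h.conjB k (l := l) b.2
    exact (t • (fx V Q ⊓ F)).add_mem (h.actX1' k (h.QT hq) (h.AN _) hx) hx
  let f : Option ↥(A ⊓ Q) → ↥(t • (fx V Q ⊓ F)) := fun b => b.elim ⟨x, hx⟩ fun b => ⟨_, hmem b⟩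
  have hf : Function.Injective f := by
    have hE : ∀ b : ↥(A ⊓ Q), l⁻¹ • ((l * (b : L) * l⁻¹) • x + x) ∈ E := by
      intro b
      rw [h.conj_smul_add k]
      exact h.loc.mem.VB b b.2.1 _
    rintro (_ | b) (_ | b') hbb
    · rfl
    · exfalso
      have h1 : x = (l * (b' : L) * l⁻¹) • x + x := congrArg Subtype.val hbb
      apply hxE
      rw [h1]
      exact hE b'
    · exfalso
      have h1 : (l * (b : L) * l⁻¹) • x + x = x := congrArg Subtype.val hbb
      apply hxE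
      rw [← h1]
      exact hE b
    · have h1 : (l * (b : L) * l⁻¹) • x + x = (l * (b' : L) * l⁻¹) • x + x := congrArg Subtype.val hbb
      have h2 : (b : L) • (l⁻¹ • x) + l⁻¹ • x = (b' : L) • (l⁻¹ • x) + l⁻¹ • x := by
        rw [← h.conj_smul_add k, h1, h.conj_smul_add k]
      have h3 : (b : L) • (l⁻¹ • x) = (b' : L) • (l⁻¹ • x) := add_right_cancel h2
      have h4 := h.loc.mem.inj _ hxE ((b' : L)⁻¹ * b) (mul_mem (inv_mem b'.2.1) b.2.1) (by
        rw [mul_smul, h3, inv_smul_smul, h.two]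
        exact F.zero_mem)
      rw [inv_mul_eq_one] at h4
      congr 1
      exact Subtype.ext h4.symm
  have h1 := Nat.card_le_card_of_injective f hf
  rw [Finite.card_option, h.card_tX1 k] at h1
  have h2 := h.c_le_B
  omega

/-- `[y, B_l] = 0` for `y ∈ l E`, `[y, B_l] ≤ F` (`l ∉ L₁`) -/
theorem fix_of [Finite Y] [Finite V] {l : L} (hl : l ∉ L₁) {y : V} (hy : l⁻¹ • y ∈ E)
    (hyF : ∀ b ∈ A ⊓ Q, (l * b * l⁻¹) • y + y ∈ F) : l⁻¹ • y ∈ fx V Q ⊔ F := by
  rw [← h.beta.CVB]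
  intro b hb
  have h1 : (l * b * l⁻¹) • y + y = 0 := by
    apply h.FF hl (hyF b hb)
    rw [h.conj_smul_add k]
    exact h.loc.mem.EB b hb.1 _ hy
  have h2 : b • (l⁻¹ • y) + l⁻¹ • y = 0 := by
    rw [← h.conj_smul_add k, h1, smul_zero]
  exact h.eq_of_add h2

/-- **(2)** `t X₁ = X₁` -/
theorem tX1 [Finite Y] [Finite V] : t • (fx V Q ⊓ F) = fx V Q ⊓ F := by
  obtain ⟨l, hl⟩ := exists_out h.loc h.beta
  apply eq_of_le_as
  · intro x hx
    apply h.F_inf hl (h.tX1_le_F k hx)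
    apply h.fix_of k hl (h.two_a k l hx)
    intro b hb
    have hq := h.conjB k (l := l) hb
    exact h.tX1_le_F k ((t • (fx V Q ⊓ F)).add_mem (h.actX1' k (h.QT hq) (h.AN _) hx) hx)
  · exact (h.card_tX1 k).ge

theorem X1_le_X' [Finite Y] [Finite V] {x : V} (hx : x ∈ fx V Q ⊓ F) : x ∈ t • (fx V Q : AddSubgroup V) := by
  rw [← h.tX1 k] at hx
  rw [mem_smul_as] at hx ⊢
  exact hx.1

/-- (S2) for the elements which centralise `X₁ = t X₁` -/
theorem s3 [Finite Y] [Finite V] {p : Y} (hp : p ∈ T) (hpX : p ∈ NX L V Q)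
    (hp1 : ∀ x ∈ fx V Q ⊓ F, p • x = x) :
    (∀ x ∈ t • (fx V Q : AddSubgroup V), p • x + x ∈ fx V Q ⊓ F) ∧
      ∀ v ∈ t • (fx V Q : AddSubgroup V), v ∉ fx V Q ⊓ F → p • v = v →
        ∀ x ∈ t • (fx V Q : AddSubgroup V), p • x = x := by
  have h1 := h.s2' k hp hpX (by rw [h.tX1 k]; exact hp1)
  rwa [h.tX1 k] at h1

theorem s3Q [Finite Y] [Finite V] {q : L} (hq : q ∈ Q) :
    (∀ x ∈ t • (fx V Q : AddSubgroup V), q • x + x ∈ fx V Q ⊓ F) ∧
      ∀ v ∈ t • (fx V Q : AddSubgroup V), v ∉ fx V Q ⊓ F → q • v = v →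
        ∀ x ∈ t • (fx V Q : AddSubgroup V), q • x = x :=
  h.s3 k (h.QT hq) (h.AN q) fun _ hx => hx.1 q hq

theorem s3A [Finite Y] [Finite V] {q : L} (hq : q ∈ A) :
    (∀ x ∈ t • (fx V Q : AddSubgroup V), q • x + x ∈ fx V Q ⊓ F) ∧
      ∀ v ∈ t • (fx V Q : AddSubgroup V), v ∉ fx V Q ⊓ F → q • v = v →
        ∀ x ∈ t • (fx V Q : AddSubgroup V), q • x = x :=
  h.s3 k (h.AT hq) (h.AN q) fun x hx => h.loc.mem.FB q hq x hx.2

theorem X'_not_le [Finite Y] [Finite V] : ∃ x ∈ t • (fx V Q : AddSubgroup V), x ∉ fx V Q := by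
  by_contra hc
  push Not at hc
  apply k.tX
  rw [mem_NX]
  exact eq_of_le_as hc (card_smul_as t _).ge

theorem tX_card [Finite Y] [Finite V] : Nat.card ↥(t • (fx V Q : AddSubgroup V)) =
    Nat.card ↥(fx V Q ⊓ F) ^ 2 := by
  rw [card_smul_as, h.cX]

/-- there is a second point `a l` over `A` -/
theorem second [Finite Y] [Finite V] {l : L} (hl : l ∉ L₁) : ∃ a ∈ A, a * l ∉ L₁ ∧ l⁻¹ * (a * l) ∉ L₁ := by
  obtain ⟨a, ha, haQ⟩ := Set.not_subset.1 h.loc.not_A_le
  refine ⟨a, ha, ?_, ?_⟩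
  · intro h1
    apply hl
    have := mul_mem (inv_mem (h.loc.A_le ha)) h1
    rwa [inv_mul_cancel_left] at this
  · intro h1
    apply haQ
    apply h.beta.cap l hl a ha
    rw [mem_conj, mul_assoc]
    exact h1

/-- **(3)** `X' ≰ l E` -/
theorem three [Finite Y] [Finite V] {l : L} (hl : l ∉ L₁) :
    ∃ x ∈ t • (fx V Q : AddSubgroup V), l⁻¹ • x ∉ E := by
  by_contra hc
  push Not at hc
  obtain ⟨x, hx, hxX⟩ := h.X'_not_le k
  apply hxX
  -- `X' ≤ X + l F`
  have key : ∀ y ∈ t • (fx V Q : AddSubgroup V), l⁻¹ • y ∈ fx V Q ⊔ F := by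
    intro y hy
    apply h.fix_of k hl (hc y hy)
    intro b hb
    exact ((h.s3Q k (h.conjB k (l := l) hb)).1 y hy).2
  obtain ⟨a, ha, -, hal⟩ := h.second k hl
  have h1 := key x hx
  have h2 := key (a⁻¹ • x) (h.actX' k (h.AT (inv_mem ha)) (h.AN a⁻¹) hx)
  rw [AddSubgroup.mem_sup] at h1 h2
  obtain ⟨y, hy, f, hf, h1⟩ := h1
  obtain ⟨y', hy', f', hf', h2⟩ := h2
  have hx1 : x = l • y + l • f := by rw [← smul_add, h1, smul_inv_smul]
  have hx2 : x = (a * l) • y' + (a * l) • f' := by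
    rw [← smul_add, h2, mul_smul, smul_inv_smul, smul_inv_smul]
  have h3 : f ∈ fx V Q ⊓ F := by
    apply h.F_inf hal hf
    have e : (l⁻¹ * (a * l))⁻¹ • f = (a * l)⁻¹ • (l • f) := by
      rw [← mul_smul]; congr 1; group
    rw [e]
    have e2 : l • f = (l • y + (a * l) • y') + (a * l) • f' := by
      have h4 : l • y + l • f = (a * l) • y' + (a * l) • f' := by rw [← hx1, ← hx2]
      have h5 : l • f = l • y + (l • y + l • f) := by rw [← add_assoc, h.two, zero_add]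
      rw [h5, h4, add_assoc]
    rw [e2, smul_add, inv_smul_smul]
    exact AddSubgroup.add_mem _ (AddSubgroup.mem_sup_left (h.Xmem ((fx V Q).add_mem (h.Xmem hy) (h.Xmem hy'))))
      (AddSubgroup.mem_sup_right hf')
  rw [hx1]
  exact (fx V Q).add_mem (h.Xmem hy) (h.Xmem h3.1)

/-- `|A ∩ Q| = c` -/
theorem cB [Finite Y] [Finite V] : Nat.card ↥(A ⊓ Q) = Nat.card ↥(fx V Q ⊓ F) := by
  apply le_antisymm _ h.c_le_B
  obtain ⟨l, hl⟩ := exists_out h.loc h.beta
  obtain ⟨x, hx, hxE⟩ := h.three k hl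
  let f : ↥(A ⊓ Q) → ↥(fx V Q ⊓ F) := fun b => ⟨_, (h.s3Q k (h.conjB k (l := l) b.2)).1 x hx⟩
  apply Nat.card_le_card_of_injective f
  intro b b' hbb
  have h1 : (l * (b : L) * l⁻¹) • x + x = (l * (b' : L) * l⁻¹) • x + x := congrArg Subtype.val hbb
  have h2 : (b : L) • (l⁻¹ • x) + l⁻¹ • x = (b' : L) • (l⁻¹ • x) + l⁻¹ • x := by
    rw [← h.conj_smul_add k, h1, h.conj_smul_add k]
  have h3 : (b : L) • (l⁻¹ • x) = (b' : L) • (l⁻¹ • x) := add_right_cancel h2
  have h4 := h.loc.mem.inj _ hxE ((b' : L)⁻¹ * b) (mul_mem (inv_mem b'.2.1) b.2.1) (by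
    rw [mul_smul, h3, inv_smul_smul, h.two]
    exact F.zero_mem)
  rw [inv_mul_eq_one] at h4
  exact Subtype.ext h4.symm

theorem cA2 [Finite Y] [Finite V] : Nat.card A = Nat.card ↥(fx V Q ⊓ F) ^ 2 := by
  rw [← h.cA, h.cB k, pow_two]

/-- a subgroup of `T ∩ N_Y(X)` which centralises `X₁`: `|P| ≤ c |C_P(X')|` -/
theorem count_X' [Finite Y] [Finite V] {P : Subgroup Y} (hP : ∀ p ∈ P, p ∈ T ∧ p ∈ NX L V Q)
    (hP1 : ∀ p ∈ P, ∀ x ∈ fx V Q ⊓ F, p • x = x) :
    ∃ P₀ : Subgroup Y, (∀ p, p ∈ P₀ ↔ p ∈ P ∧ ∀ x ∈ t • (fx V Q : AddSubgroup V), p • x = x) ∧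
      Nat.card P ≤ Nat.card ↥(fx V Q ⊓ F) * Nat.card P₀ := by
  obtain ⟨v, hv, hvX⟩ := h.X'_not_le k
  have hv1 : v ∉ fx V Q ⊓ F := fun h1 => hvX h1.1
  have hs := fun p (hp : p ∈ P) => h.s3 k (hP p hp).1 (hP p hp).2 (hP1 p hp)
  let φ : P →* Multiplicative ↥(fx V Q ⊓ F) :=
    { toFun := fun p => Multiplicative.ofAdd ⟨(p : Y) • v + v, (hs p p.2).1 v hv⟩
      map_one' := by
        apply congrArg Multiplicative.ofAdd
        apply Subtype.ext
        change (1 : Y) • v + v = 0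
        rw [one_smul, h.two]
      map_mul' := fun p p' => by
        apply congrArg Multiplicative.ofAdd
        apply Subtype.ext
        change ((p : Y) * p') • v + v = ((p : Y) • v + v) + ((p' : Y) • v + v)
        have h1 : (p : Y) • ((p' : Y) • v + v) = (p' : Y) • v + v := hP1 p p.2 _ ((hs p' p'.2).1 v hv)
        rw [mul_smul]
        have h2 : (p : Y) • (p' : Y) • v = (p' : Y) • v + v + (p : Y) • v := by
          rw [smul_add] at h1
          rw [← h1, add_assoc, h.two, add_zero]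
        rw [h2]
        abel }
  refine ⟨φ.ker.map P.subtype, ?_, ?_⟩
  · intro p
    constructor
    · rintro ⟨p', hp', rfl⟩
      refine ⟨p'.2, ?_⟩
      have h1 : (p' : Y) • v + v = 0 := congrArg (fun u : Multiplicative ↥(fx V Q ⊓ F) => ((u.toAdd : ↥(fx V Q ⊓ F)) : V)) hp'
      exact (hs p' p'.2).2 v hv hv1 (h.eq_of_add h1)
    · rintro ⟨hp, hp1⟩
      refine ⟨⟨p, hp⟩, ?_, rfl⟩
      apply congrArg Multiplicative.ofAdd
      apply Subtype.ext
      change p • v + v = 0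
      rw [hp1 v hv, h.two]
  · have h1 := Subgroup.card_mul_index φ.ker
    rw [Subgroup.index_ker] at h1
    have h2 : Nat.card φ.range ≤ Nat.card ↥(fx V Q ⊓ F) :=
      Nat.card_le_card_of_injective (fun u : φ.range => (u.1.toAdd : ↥(fx V Q ⊓ F))) fun u u' huu => Subtype.ext huu
    have h3 : Nat.card (φ.ker.map P.subtype) = Nat.card φ.ker :=
      Nat.card_congr (φ.ker.equivMapOfInjective _ P.subtype_injective).symm.toEquiv
    rw [h3, ← h1, mul_comm]
    exact Nat.mul_le_mul_right _ h2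

/-- **(4)** `X' ∩ l E = X₁` -/
theorem four [Finite Y] [Finite V] {l : L} (hl : l ∉ L₁) {y : V} (hy : y ∈ t • (fx V Q : AddSubgroup V))
    (hyE : l⁻¹ • y ∈ E) : y ∈ fx V Q ⊓ F := by
  have h1 := h.fix_of k hl hyE fun b hb => ((h.s3Q k (h.conjB k (l := l) hb)).1 y hy).2
  rw [AddSubgroup.mem_sup] at h1
  obtain ⟨w, hw, f, hf, h1⟩ := h1
  have hlw : l • w ∈ fx V Q := h.Xmem hw
  rw [h.beta.sup l hl, AddSubgroup.mem_sup] at hlw
  obtain ⟨u, hu, v, hv, huv⟩ := hlw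
  -- `y = u + g`, `g = v + l f ∈ X' ∩ l F`
  set g := v + l • f with hg
  have hyu : y = u + g := by
    rw [hg, ← add_assoc, huv, ← smul_add, h1, smul_inv_smul]
  have hgF : l⁻¹ • g ∈ F := by
    rw [hg, smul_add, inv_smul_smul]
    exact F.add_mem (mem_smul_as.1 hv).2 hf
  have hgX : g ∈ t • (fx V Q : AddSubgroup V) := by
    have : g = y + u := by rw [hyu, add_comm u g, add_assoc, h.two, add_zero]
    rw [this]
    exact AddSubgroup.add_mem _ hy (h.X1_le_X' k hu)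
  by_cases hg0 : g = 0
  · rw [hyu, hg0, add_zero]; exact hu
  exfalso
  have hgC : g ∉ fx V (⊤ : Subgroup L) := by rwa [h.C0, AddSubgroup.mem_bot]
  have hst := h.loc.stab_le hgF hgC
  -- `C_A(X')`
  obtain ⟨P₀, hP₀, hcard⟩ := h.count_X' k (P := A.map L.subtype) (by
    rintro _ ⟨a, ha, rfl⟩
    exact ⟨h.AT ha, h.AN a⟩) (by
    rintro _ ⟨a, ha, rfl⟩ x hx
    exact h.loc.mem.FB a ha x hx.2)
  have hA : Nat.card (A.map L.subtype) = Nat.card A :=
    Nat.card_congr (A.equivMapOfInjective _ L.subtype_injective).symm.toEquiv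
  rw [hA, h.cA2 k, pow_two] at hcard
  have hc0 : 0 < Nat.card ↥(fx V Q ⊓ F) := Nat.card_pos
  have hcard' := Nat.le_of_mul_le_mul_left hcard hc0
  have hP₀B : P₀ ≤ (A ⊓ Q).map L.subtype := by
    intro p hp
    obtain ⟨⟨a, ha, rfl⟩, hp1⟩ := (hP₀ p).1 hp
    refine ⟨a, ⟨ha, ?_⟩, rfl⟩
    exact h.beta.cap l hl a ha (hst (hp1 g hgX))
  have hB : Nat.card ((A ⊓ Q).map L.subtype) = Nat.card ↥(A ⊓ Q) :=
    Nat.card_congr ((A ⊓ Q).equivMapOfInjective _ L.subtype_injective).symm.toEquiv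
  have heq : P₀ = (A ⊓ Q).map L.subtype := by
    apply eq_of_le_of_card_ge hP₀B
    rw [hB, h.cB k]
    exact hcard'
  have h2 : g ∈ fx V Q ⊔ F := by
    rw [← h.beta.CVB]
    intro b hb
    have h3 : (b : Y) ∈ P₀ := by rw [heq]; exact ⟨b, hb, rfl⟩
    exact ((hP₀ _).1 h3).2 g hgX
  have h3 : l⁻¹ • g ∈ fx V Q ⊓ F := by
    apply h.F_inf (h.inv_nmem hl) hgF
    rw [inv_inv, smul_inv_smul]
    exact h2
  have h4 : g ∈ fx V Q := by
    have := h.Xmem (l := l) h3.1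
    rwa [smul_inv_smul] at this
  have h5 : g ∉ fx V Q ⊓ F := fun h6 => hg0 (h.FF hl h6.2 hgF)
  obtain ⟨x, hx, hxX⟩ := h.X'_not_le k
  apply hxX
  intro q hq
  exact (h.s3Q k hq).2 g hgX h5 (h4 q hq) x hx

/-- `c = |V/E|` -/
theorem ca [Finite Y] [Finite V] : Nat.card ↥(fx V Q ⊓ F) = E.index := by
  obtain ⟨l, hl⟩ := exists_out h.loc h.beta
  have hEi : 0 < E.index := Nat.pos_of_ne_zero AddSubgroup.index_ne_zero_of_finite
  apply le_antisymm
  · -- `X' / X₁` embeds in `V / l E`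
    set X' := t • (fx V Q : AddSubgroup V) with hX'
    have h1 : X' ⊓ (l : Y) • E = fx V Q ⊓ F := by
      apply le_antisymm
      · rintro y ⟨hy, hyE⟩
        exact h.four k hl hy (mem_smul_as.1 hyE)
      · intro y hy
        have hy' := hy
        rw [← h.tX1 k] at hy'
        exact ⟨h.X1_le_X' k hy, mem_smul_as.2 (h.two_a k l hy')⟩
    have h2 := card_sup_as X' ((l : Y) • E)
    rw [h1, h.tX_card k, card_smul_as] at h2
    have h3 := AddSubgroup.card_mul_index E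
    have h4 : Nat.card ↥(X' ⊔ (l : Y) • E) ≤ Nat.card V := Nat.card_le_card_of_injective _ Subtype.val_injective
    have hc0 : 0 < Nat.card ↥(fx V Q ⊓ F) := Nat.card_pos
    have hE0 : 0 < Nat.card E := Nat.card_pos
    apply Nat.le_of_mul_le_mul_left _ (Nat.mul_pos hE0 hc0)
    calc Nat.card E * Nat.card ↥(fx V Q ⊓ F) * Nat.card ↥(fx V Q ⊓ F)
        = Nat.card ↥(fx V Q ⊓ F) ^ 2 * Nat.card E := by ring
      _ = Nat.card ↥(X' ⊔ (l : Y) • E) * Nat.card ↥(fx V Q ⊓ F) := h2.symm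
      _ ≤ Nat.card V * Nat.card ↥(fx V Q ⊓ F) := Nat.mul_le_mul_right _ h4
      _ = Nat.card E * Nat.card ↥(fx V Q ⊓ F) * E.index := by rw [← h3]; ring
  · have h1 := pf_le h.loc.mem h.two (by
      intro h2
      apply h.beta.ne
      rw [h2, bot_inf_eq])
    rw [h.cA2 k] at h1
    exact (Nat.pow_le_pow_iff_left two_ne_zero).1 h1

/-- `V = X' + l E` -/
theorem sup_top [Finite Y] [Finite V] {l : L} (hl : l ∉ L₁) (v : V) :
    ∃ x ∈ t • (fx V Q : AddSubgroup V), l⁻¹ • (v + x) ∈ E := by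
  set X' := t • (fx V Q : AddSubgroup V) with hX'
  have h1 : X' ⊓ (l : Y) • E = fx V Q ⊓ F := by
    apply le_antisymm
    · rintro y ⟨hy, hyE⟩
      exact h.four k hl hy (mem_smul_as.1 hyE)
    · intro y hy
      have hy' := hy
      rw [← h.tX1 k] at hy'
      exact ⟨h.X1_le_X' k hy, mem_smul_as.2 (h.two_a k l hy')⟩
  have h2 := card_sup_as X' ((l : Y) • E)
  rw [h1, h.tX_card k, card_smul_as] at h2
  have h3 := AddSubgroup.card_mul_index E
  have hc0 : 0 < Nat.card ↥(fx V Q ⊓ F) := Nat.card_pos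
  have h5 : Nat.card ↥(X' ⊔ (l : Y) • E) = Nat.card V := by
    apply Nat.eq_of_mul_eq_mul_right hc0
    rw [h2, ← h3, ← h.ca k]
    ring
  have h6 : X' ⊔ (l : Y) • E = ⊤ := by
    apply AddSubgroup.eq_top_of_card_eq
    exact h5
  have h7 : v ∈ X' ⊔ (l : Y) • E := by rw [h6]; trivial
  rw [AddSubgroup.mem_sup] at h7
  obtain ⟨x, hx, e, he, rfl⟩ := h7
  refine ⟨x, hx, ?_⟩
  have e1 : x + e + x = e := by
    rw [add_comm x e, add_assoc, h.two, add_zero]
  rw [e1]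
  exact mem_smul_as.1 he

end t

end Hyp0

end Cfsg.Agent.Omega.NO1.B0

end

section


/-!
# THEOREM B0 (bb OMEGA 18835, helper970): (5), (6)

`[V, A ∩ Q] ≤ X`, `[E, A] = X₁`, `E ∩ l F ≤ X`; `F ≤ X`, `|V| = |V/E|⁴`.
-/

set_option autoImplicit false
set_option linter.unusedSectionVars false
set_option linter.style.haveILetI false

namespace Cfsg.Agent.Omega.NO1.B0

open Subgroup Cfsg.Agent.Omega.NO1.AB
open scoped Pointwise

universe u

variable {Y : Type u} [Group Y] {V : Type u} [AddCommGroup V] [DistribMulAction Y V]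

/-- `C_Y(W) ∩ C_Y(V/W)` -/
def Dx (Y : Type u) [Group Y] {V : Type u} [AddCommGroup V] [DistribMulAction Y V] (h2 : ∀ v : V, v + v = 0)
    (W : AddSubgroup V) : Subgroup Y where
  carrier := {y | (∀ x ∈ W, y • x = x) ∧ ∀ v : V, y • v + v ∈ W}
  mul_mem' := fun {a b} ha hb => by
    refine ⟨fun x hx => by rw [mul_smul, hb.1 x hx, ha.1 x hx], fun v => ?_⟩
    have h3 : a • (b • v) + v = (b • v + v) + (a • v + v) := by
      have h4 := ha.1 _ (hb.2 v)
      rw [smul_add] at h4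
      have h5 : a • b • v = b • v + v + a • v := by rw [← h4, add_assoc, h2, add_zero]
      rw [h5]
      abel
    rw [mul_smul, h3]
    exact W.add_mem (hb.2 v) (ha.2 v)
  one_mem' := ⟨fun x _ => one_smul Y x, fun v => by rw [one_smul, h2]; exact W.zero_mem⟩
  inv_mem' := fun {a} ha => by
    refine ⟨fun x hx => by rw [inv_smul_eq_iff, ha.1 x hx], fun v => ?_⟩
    have h4 := ha.1 _ (ha.2 (a⁻¹ • v))
    rw [smul_inv_smul] at h4
    have h5 := ha.2 (a⁻¹ • v)
    rw [smul_inv_smul] at h5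
    rwa [add_comm]

theorem mem_Dx {h2 : ∀ v : V, v + v = 0} {W : AddSubgroup V} {y : Y} :
    y ∈ Dx Y h2 W ↔ (∀ x ∈ W, y • x = x) ∧ ∀ v : V, y • v + v ∈ W := Iff.rfl

theorem Dx_sq (faith : ∀ y : Y, (∀ v : V, y • v = v) → y = 1) {h2 : ∀ v : V, v + v = 0} {W : AddSubgroup V} {y : Y}
    (hy : y ∈ Dx Y h2 W) : y * y = 1 := by
  apply faith
  intro v
  have h1 := hy.1 _ (hy.2 v)
  rw [smul_add, ← mul_smul, add_comm (y • v) v] at h1
  exact add_right_cancel h1

theorem Dx_two (faith : ∀ y : Y, (∀ v : V, y • v = v) → y = 1) {h2 : ∀ v : V, v + v = 0} {W : AddSubgroup V} :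
    IsPGroup 2 (Dx Y h2 W) := by
  rintro ⟨y, hy⟩
  refine ⟨1, Subtype.ext ?_⟩
  rw [pow_one]
  change y ^ 2 = 1
  rw [pow_two, Dx_sq faith hy]

theorem Dx_conj {h2 : ∀ v : V, v + v = 0} {W W' : AddSubgroup V} {y g : Y} (hy : y ∈ Dx Y h2 W)
    (hg : ∀ x, x ∈ W' ↔ g⁻¹ • x ∈ W) : g * y * g⁻¹ ∈ Dx Y h2 W' := by
  refine ⟨fun x hx => ?_, fun v => ?_⟩
  · rw [mul_smul, mul_smul, hy.1 _ ((hg x).1 hx), smul_inv_smul]
  · rw [hg, smul_add, mul_smul, mul_smul, inv_smul_smul]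
    exact hy.2 _

namespace Hyp0

variable {T : Sylow 2 Y} {M L : Subgroup Y} {A Q L₁ : Subgroup L} {R : Sylow 2 L} {E F : AddSubgroup V}
  {z : V} (h : Hyp0 T M L A Q L₁ R E F z)
include h

section t

variable {t : Y} (k : Tk T L V Q t)
include k

/-- **(5a)** `E ∩ l F ≤ X` -/
theorem five_a [Finite Y] [Finite V] {l : L} (hl : l ∉ L₁) {p : V} (hp : p ∈ E) (hlp : l⁻¹ • p ∈ F) :
    l⁻¹ • p ∈ fx V Q ⊓ F := by
  by_cases hp0 : p = 0
  · rw [hp0, smul_zero]; exact AddSubgroup.zero_mem _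
  have hpF : p ∉ F := fun h1 => hp0 (h.FF hl h1 hlp)
  have hst := h.loc.stab_le hlp (by rwa [h.C0, AddSubgroup.mem_bot])
  have h1 := card_CA h.two h.loc.mem hp hpF
  have h2 : A ⊓ MulAction.stabilizer L p ≤ A ⊓ Q := by
    rintro a ⟨ha, ha1⟩
    exact ⟨ha, h.beta.cap l hl a ha (hst ha1)⟩
  have h3 : A ⊓ MulAction.stabilizer L p = A ⊓ Q := by
    apply eq_of_le_of_card_ge h2
    rw [h.cB k, h.ca k]
    exact h1
  have h4 : p ∈ fx V Q ⊔ F := by
    rw [← h.beta.CVB]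
    intro b hb
    rw [← h3] at hb
    exact hb.2
  apply h.F_inf (h.inv_nmem hl) hlp
  rw [inv_inv, smul_inv_smul]
  exact h4

theorem five_a' [Finite Y] [Finite V] {l : L} (hl : l ∉ L₁) {p : V} (hp : p ∈ E) (hlp : l⁻¹ • p ∈ F) :
    p ∈ fx V Q := by
  have := h.Xmem (l := l) (h.five_a k hl hp hlp).1
  rwa [smul_inv_smul] at this

/-- `[[v, a], b] = [[v, b], a]` -/
theorem comm_comm {a b : L} (ha : a ∈ A) (hb : b ∈ A) (v : V) :
    b • (a • v + v) + (a • v + v) = a • (b • v + v) + (b • v + v) := by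
  simp only [smul_add]
  rw [← mul_smul, ← mul_smul, h.loc.mem.comm a ha b hb]
  abel

/-- **(5b)** `[E, A ∩ Q] ≤ X₁` -/
theorem five_b [Finite Y] [Finite V] {e : V} (he : e ∈ E) {b : L} (hb : b ∈ A ⊓ Q) : b • e + e ∈ fx V Q ⊓ F := by
  obtain ⟨l, hl⟩ := exists_out h.loc h.beta
  obtain ⟨x, hx, hxE⟩ := h.three k hl
  obtain ⟨s, hs, h1⟩ := h.loc.mem.surj _ hxE e he
  -- `[e, b] = [[x₀, s], b]`
  set x₀ := l⁻¹ • x with hx₀
  have h2 : b • e + e = b • (s • x₀ + x₀) + (s • x₀ + x₀) := by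
    have h3 := h.loc.mem.FB b hb.1 _ h1
    rw [smul_add] at h3
    have h4 : b • e = b • (s • x₀ + x₀) + (s • x₀ + x₀ + e) := by
      have h5 : b • (s • x₀ + x₀) + (b • (s • x₀ + x₀) + b • e) = b • e := by
        rw [← add_assoc, h.two, zero_add]
      rw [← h5, h3]
    rw [h4]
    have h5 : b • (s • x₀ + x₀) + (s • x₀ + x₀ + e) + e = b • (s • x₀ + x₀) + (s • x₀ + x₀) + (e + e) := by abel
    rw [h5, h.two, add_zero]
  rw [h2, h.comm_comm k hs hb.1]
  have h3 : b • x₀ + x₀ ∈ fx V Q := by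
    have h4 := h.conj_smul_add k (l := l) (b := b) x
    rw [← hx₀] at h4
    rw [← h4]
    exact h.Xmem ((h.s3Q k (h.conjB k (l := l) hb)).1 x hx).1
  exact ⟨(fx V Q).add_mem (h.Xmem h3) h3, h.loc.mem.EB s hs _ (h.beta.XE h3)⟩

/-- `[E, A] ≤ X₁` -/
theorem five_b' [Finite Y] [Finite V] {e : V} (he : e ∈ E) {a : L} (ha : a ∈ A) : a • e + e ∈ fx V Q ⊓ F := by
  obtain ⟨s, hs, hs1⟩ := h.A_ne k
  obtain ⟨e', he', h1⟩ := pf_eq h.loc.mem h.two (by rw [h.cA2 k, h.ca k]) hs.1 hs1 ha he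
  rw [h1]
  exact h.five_b k he' hs

/-- **(5c)** `[V, A ∩ Q] ≤ X` -/
theorem five_c [Finite Y] [Finite V] (v : V) {b : L} (hb : b ∈ A ⊓ Q) : b • v + v ∈ fx V Q := by
  obtain ⟨l, hl⟩ := exists_out h.loc h.beta
  -- `l v = x + e`
  obtain ⟨x, hx, he⟩ := h.sup_top k hl (l • v)
  have h1 : b • (l⁻¹ • x) + l⁻¹ • x ∈ fx V Q := by
    rw [← h.conj_smul_add k]
    exact h.Xmem ((h.s3Q k (h.conjB k (l := l) hb)).1 x hx).1
  have h2 := (h.five_b k he hb).1
  have e1 : l⁻¹ • (l • v + x) = v + l⁻¹ • x := by rw [smul_add, inv_smul_smul]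
  rw [e1] at h2
  have h3 : b • v + v = (b • (v + l⁻¹ • x) + (v + l⁻¹ • x)) + (b • (l⁻¹ • x) + l⁻¹ • x) := by
    rw [smul_add]
    have : b • v + b • l⁻¹ • x + (v + l⁻¹ • x) + (b • l⁻¹ • x + l⁻¹ • x) =
      b • v + v + (b • l⁻¹ • x + b • l⁻¹ • x) + (l⁻¹ • x + l⁻¹ • x) := by abel
    rw [this, h.two, h.two, add_zero, add_zero]
  rw [h3]
  exact (fx V Q).add_mem h2 h1

/-- **(5d)** `C_E(b) ≤ X + F` for `b ∈ (A ∩ Q)#` -/
theorem five_d [Finite Y] [Finite V] {b : L} (hb : b ∈ A ⊓ Q) (hb1 : b ≠ 1) {e : V} (he : e ∈ E)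
    (hbe : b • e = e) : e ∈ fx V Q ⊔ F := by
  obtain ⟨w, hw⟩ := h.loc.mem.ne
  obtain ⟨a, ha, h1⟩ := h.loc.mem.surj w hw e he
  have hbw := h.five_c k w hb
  have hbwF : b • w + w ∉ F := fun h2 => hb1 (h.loc.mem.inj w hw b hb.1 h2)
  have h2 : a • (b • w + w) = b • w + w := by
    have h3 := h.loc.mem.FB b hb.1 _ h1
    rw [smul_add, hbe] at h3
    have h4 : b • (a • w + w) = a • w + w := add_right_cancel h3
    have h5 := h.comm_comm k ha hb.1 w
    rw [h4, h.two] at h5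
    exact h.eq_of_add h5.symm
  have h3 := h.beta.cen _ hbw hbwF a ha h2
  have h4 := h.five_c k w ⟨ha, h3⟩
  have h5 : e = (a • w + w) + (a • w + w + e) := by rw [← add_assoc, h.two, zero_add]
  rw [h5]
  exact AddSubgroup.add_mem _ (AddSubgroup.mem_sup_left h4) (AddSubgroup.mem_sup_right h1)

/-- `A ∩ Q ≤ D`, and its conjugates -/
theorem B_le_D [Finite Y] [Finite V] {b : L} (hb : b ∈ A ⊓ Q) (l : L) :
    ((l * b * l⁻¹ : L) : Y) ∈ Dx Y h.two (fx V Q : AddSubgroup V) := by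
  refine ⟨fun x hx => hx _ (h.conjB k hb), fun v => ?_⟩
  have h1 := h.five_c k (l⁻¹ • v) hb
  rw [← h.conj_smul_add k] at h1
  have := h.Xmem (l := l) h1
  rwa [smul_inv_smul] at this

/-- `φ_v` is onto `X₁` on `A ∩ Q`, `v ∈ E - (X + F)` -/
theorem onto [Finite Y] [Finite V] {v : V} (hv : v ∈ E) (hvX : v ∉ fx V Q ⊔ F) {x : V} (hx : x ∈ fx V Q ⊓ F) :
    ∃ b ∈ A ⊓ Q, b • v + v = x := by
  let f : ↥(A ⊓ Q) → ↥(fx V Q ⊓ F) := fun b => ⟨_, h.five_b k hv b.2⟩
  have hf : Function.Injective f := by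
    intro b b' hbb
    have h1 : (b : L) • v + v = (b' : L) • v + v := congrArg Subtype.val hbb
    have h3 : (b : L) • v = (b' : L) • v := add_right_cancel h1
    by_contra hne
    apply hvX
    apply h.five_d k (b := (b' : L)⁻¹ * b) (mul_mem (inv_mem b'.2) b.2) _ hv
    · rw [mul_smul, h3, inv_smul_smul]
    · rw [Ne, inv_mul_eq_one]
      exact fun h4 => hne (Subtype.ext h4.symm)
  have hs : Function.Surjective f := (Nat.bijective_iff_injective_and_card f).2 ⟨hf, h.cB k⟩ |>.2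
  obtain ⟨b, hb⟩ := hs ⟨x, hx⟩
  exact ⟨b, b.2, congrArg Subtype.val hb⟩

end t

end Hyp0

theorem card_mul_le {G : Type*} [Group G] [Finite G] {H K W : Subgroup G} (hH : H ≤ W) (hK : K ≤ W) :
    Nat.card H * Nat.card K ≤ Nat.card W * Nat.card ↥(H ⊓ K) := by
  have h1 := relIndex_mul_relIndex ⊥ (H ⊓ K) H bot_le inf_le_left
  have h2 := relIndex_mul_relIndex ⊥ K W bot_le hK
  rw [relIndex_bot_left, relIndex_bot_left, inf_comm, inf_relIndex_right] at h1
  rw [relIndex_bot_left, relIndex_bot_left] at h2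
  have h3 : K.relIndex H ≤ K.relIndex W := relIndex_le_of_le_right hH index_ne_zero_of_finite
  rw [← h1, ← h2, inf_comm H K]
  calc Nat.card ↥(K ⊓ H) * K.relIndex H * Nat.card K
      ≤ Nat.card ↥(K ⊓ H) * K.relIndex W * Nat.card K := Nat.mul_le_mul_right _ (Nat.mul_le_mul_left _ h3)
    _ = _ := by ring

/-- `φ_v : D → X` -/
def phi (h2 : ∀ v : V, v + v = 0) (W : AddSubgroup V) (v : V) : Dx Y h2 W →* Multiplicative W where
  toFun d := Multiplicative.ofAdd ⟨(d : Y) • v + v, d.2.2 v⟩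
  map_one' := by
    apply congrArg Multiplicative.ofAdd
    apply Subtype.ext
    change (1 : Y) • v + v = 0
    rw [one_smul, h2]
  map_mul' d d' := by
    apply congrArg Multiplicative.ofAdd
    apply Subtype.ext
    change ((d : Y) * d') • v + v = ((d : Y) • v + v) + ((d' : Y) • v + v)
    have h1 : (d : Y) • ((d' : Y) • v + v) = (d' : Y) • v + v := d.2.1 _ (d'.2.2 v)
    rw [mul_smul]
    have h3 : (d : Y) • (d' : Y) • v = (d' : Y) • v + v + (d : Y) • v := by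
      rw [smul_add] at h1
      rw [← h1, add_assoc, h2, add_zero]
    rw [h3]
    abel

theorem phi_eq {h2 : ∀ v : V, v + v = 0} {W : AddSubgroup V} {v x : V} (hx : x ∈ W) (d : Dx Y h2 W) :
    phi h2 W v d = Multiplicative.ofAdd ⟨x, hx⟩ ↔ (d : Y) • v + v = x :=
  ⟨fun h => congrArg (fun u : Multiplicative W => ((u.toAdd : W) : V)) h, fun h =>
    congrArg Multiplicative.ofAdd (Subtype.ext h)⟩

namespace Hyp

variable {T : Sylow 2 Y} {M L : Subgroup Y} {A Q L₁ : Subgroup L} {R : Sylow 2 L} {E F : AddSubgroup V}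
  {z : V} (h : Hyp T M L A Q L₁ R E F z)
include h

theorem D_le_NX [Finite V] : Dx Y h.two (fx V Q : AddSubgroup V) ≤ NX L V Q := by
  intro d hd
  apply mem_NX_of
  intro x hx
  rw [hd.1 x hx]
  exact hx

theorem D_conj [Finite V] {n d : Y} (hn : n ∈ NX L V Q) (hd : d ∈ Dx Y h.two (fx V Q : AddSubgroup V)) :
    n * d * n⁻¹ ∈ Dx Y h.two (fx V Q : AddSubgroup V) := by
  apply Dx_conj hd
  intro x
  constructor
  · exact fun hx => NX_smul (inv_mem hn) hx
  · intro hx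
    have := NX_smul hn hx
    rwa [smul_inv_smul] at this

/-- `D ≤ T` -/
theorem D_le_T [Finite V] : Dx Y h.two (fx V Q : AddSubgroup V) ≤ T := by
  have h1 : IsPGroup 2 (((T : Subgroup Y) ⊓ NX L V Q) ⊔ Dx Y h.two (fx V Q : AddSubgroup V) : Subgroup Y) := by
    apply IsPGroup.to_sup_of_normal_right' (T.2.to_le inf_le_left) (Dx_two h.faith)
    intro n hn
    rw [mem_normalizer_iff]
    intro y
    constructor
    · exact fun hy => h.D_conj hn.2 hy
    · intro hy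
      have h2 := h.D_conj (inv_mem hn.2) hy
      have e : n⁻¹ * (n * y * n⁻¹) * n⁻¹⁻¹ = y := by group
      rwa [e] at h2
  exact le_sup_right.trans (h.max _ h1 (sup_le inf_le_right h.D_le_NX) le_sup_left)

theorem inf_X' [Finite Y] [Finite V] {t : Y} (k : Tk T L V Q t) {x : V} (hx : x ∈ fx V Q)
    (hx' : x ∈ t • (fx V Q : AddSubgroup V)) : x ∈ fx V Q ⊓ F := by
  by_contra h1
  obtain ⟨y, hy, hyX⟩ := h.X'_not_le k
  apply hyX
  intro q hq
  exact (h.s3Q k hq).2 x hx' h1 (hx q hq) y hy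

theorem cE [Finite Y] [Finite V] {t : Y} (k : Tk T L V Q t) :
    Nat.card E = Nat.card F * Nat.card ↥(fx V Q ⊓ F) ^ 2 := by
  rw [h.loc.mem.card_E h.two, h.cA2 k]

theorem cV [Finite Y] [Finite V] {t : Y} (k : Tk T L V Q t) :
    Nat.card V = Nat.card F * Nat.card ↥(fx V Q ⊓ F) ^ 3 := by
  rw [← AddSubgroup.card_mul_index E, h.cE k, ← h.ca k]
  ring

/-- `|X + X'| = a³` -/
theorem cU [Finite Y] [Finite V] {t : Y} (k : Tk T L V Q t) :
    Nat.card ↥(fx V Q ⊔ t • (fx V Q : AddSubgroup V)) = Nat.card ↥(fx V Q ⊓ F) ^ 3 := by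
  have h1 := card_sup_as (fx V Q : AddSubgroup V) (t • (fx V Q : AddSubgroup V))
  have h2 : (fx V Q : AddSubgroup V) ⊓ t • (fx V Q : AddSubgroup V) = fx V Q ⊓ F := by
    apply le_antisymm
    · rintro x ⟨hx, hx'⟩
      exact h.inf_X' k hx hx'
    · intro x hx
      exact ⟨hx.1, h.X1_le_X' k hx⟩
  rw [h2, h.tX_card k, h.cX] at h1
  have hc0 : 0 < Nat.card ↥(fx V Q ⊓ F) := Nat.card_pos
  apply Nat.eq_of_mul_eq_mul_right hc0
  rw [h1]
  ring

theorem ttX [Finite V] {t : Y} (k : Tk T L V Q t) {x : V} (hx : x ∈ fx V Q) :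
    t⁻¹ • x ∈ t • (fx V Q : AddSubgroup V) := by
  rw [mem_smul_as, ← mul_smul, ← mul_inv_rev]
  exact NX_smul (inv_mem k.tt) hx

/-- **(6)** `F ≤ X` -/
theorem six [Finite Y] [Finite V] {t : Y} (k : Tk T L V Q t) : F ≤ fx V Q := by
  by_contra hF
  obtain ⟨l, hl⟩ := exists_out h.loc h.beta
  set c := Nat.card ↥(fx V Q ⊓ F) with hc
  have hc1 : 1 < c := h.two_le_c
  have hc0 : 0 < c := by omega
  -- `|F| > c`
  have hFc : c < Nat.card F := by
    by_contra h1
    push Not at h1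
    apply hF
    have h2 := eq_of_le_as (W₁ := fx V Q ⊓ F) (W₂ := F) inf_le_right h1
    rw [← h2]
    exact inf_le_left
  set lE : AddSubgroup V := (l : Y) • E with hlE
  have hmE : ∀ {x : V}, x ∈ lE ↔ l⁻¹ • x ∈ E := fun {x} => mem_smul_as
  have hcE := h.cE k
  have hcV := h.cV k
  have hclE : Nat.card lE = Nat.card E := card_smul_as _ _
  -- `V_E`
  have hVE : Nat.card ↥(E ⊓ lE) = Nat.card F * c := by
    have h1 := card_sup_as E lE
    have h2 : E ⊔ lE = ⊤ := by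
      rw [eq_top_iff]
      intro v _
      obtain ⟨x, hx, he⟩ := h.sup_top k hl v
      have e : v = x + (v + x) := by
        rw [add_comm v x, ← add_assoc, h.two, zero_add]
      rw [e]
      exact AddSubgroup.add_mem _ (AddSubgroup.mem_sup_left (h.X'_le_E k hx))
        (AddSubgroup.mem_sup_right (hmE.2 he))
    rw [h2, AddSubgroup.card_top, hclE, hcE, hcV] at h1
    have hp : 0 < Nat.card F * c ^ 3 := Nat.mul_pos Nat.card_pos (pow_pos hc0 3)
    apply Nat.eq_of_mul_eq_mul_left hp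
    rw [h1]
    ring
  have hFE : F ⊓ lE ≤ fx V Q ⊓ F := by
    rintro p ⟨hp, hpE⟩
    have h1 := h.five_a k (h.inv_nmem hl) (p := l⁻¹ • p) (hmE.1 hpE) (by rwa [inv_inv, smul_inv_smul])
    rwa [inv_inv, smul_inv_smul] at h1
  have hFa : Nat.card F ≤ c ^ 2 := by
    have h1 := card_sup_as F lE
    have h2 : Nat.card ↥(F ⊔ lE) ≤ Nat.card V := Nat.card_le_card_of_injective _ Subtype.val_injective
    have h3 := card_mono_as hFE
    rw [hclE, hcE] at h1
    rw [hcV] at h2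
    have hp : 0 < Nat.card F * c ^ 2 := Nat.mul_pos Nat.card_pos (pow_pos hc0 2)
    apply Nat.le_of_mul_le_mul_right _ hp
    calc Nat.card F * (Nat.card F * c ^ 2) = Nat.card ↥(F ⊔ lE) * Nat.card ↥(F ⊓ lE) := h1.symm
      _ ≤ (Nat.card F * c ^ 3) * c := Nat.mul_le_mul h2 h3
      _ = c ^ 2 * (Nat.card F * c ^ 2) := by ring
  -- `v`
  obtain ⟨v, ⟨hvE, hvlE⟩, hvX⟩ : ∃ v ∈ E ⊓ lE, v ∉ fx V Q := by
    by_contra h1
    push Not at h1
    have h2 := card_mono_as (W₁ := E ⊓ lE) (W₂ := fx V Q) h1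
    rw [hVE, h.cX] at h2
    have h3 : c * c < Nat.card F * c := Nat.mul_lt_mul_of_pos_right hFc hc0
    rw [← pow_two] at h3
    exact absurd h2 (not_le_of_gt h3)
  have hvlE' := hmE.1 hvlE
  have hvF : v ∉ fx V Q ⊔ F := by
    intro h1
    rw [AddSubgroup.mem_sup] at h1
    obtain ⟨x, hx, f, hf, rfl⟩ := h1
    apply hvX
    have h2 : f ∈ F ⊓ lE := by
      refine ⟨hf, hmE.2 ?_⟩
      rw [smul_add] at hvlE'
      exact (AddSubgroup.add_mem_cancel_left E (h.beta.XE (h.Xmem hx))).1 hvlE'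
    exact (fx V Q).add_mem hx (hFE h2).1
  have hv'F : l⁻¹ • v ∉ fx V Q ⊔ F := by
    intro h1
    rw [AddSubgroup.mem_sup] at h1
    obtain ⟨x, hx, f, hf, he⟩ := h1
    apply hvX
    have hv : v = l • x + l • f := by rw [← smul_add, he, smul_inv_smul]
    have h2 : l • f ∈ E := by
      rw [hv] at hvE
      exact (AddSubgroup.add_mem_cancel_left E (h.beta.XE (h.Xmem hx))).1 hvE
    have h3 := h.five_a k hl h2 (by rwa [inv_smul_smul])
    rw [inv_smul_smul] at h3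
    rw [hv]
    exact (fx V Q).add_mem (h.Xmem hx) (h.Xmem h3.1)
  -- `φ_v` is onto
  set D := Dx Y h.two (fx V Q : AddSubgroup V) with hD
  set φ := phi (Y := Y) h.two (fx V Q : AddSubgroup V) v with hφ
  have hB1 : ∀ b ∈ A ⊓ Q, (b : Y) ∈ D := by
    intro b hb
    have := h.B_le_D k hb 1
    rwa [one_mul, inv_one, mul_one] at this
  have hsurj : Function.Surjective φ := by
    intro x
    obtain ⟨x, rfl⟩ := Multiplicative.ofAdd.surjective x
    obtain ⟨x, hx⟩ := x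
    have hx' := hx
    rw [h.beta.sup l hl, AddSubgroup.mem_sup] at hx'
    obtain ⟨x₁, hx₁, x₂, hx₂, he⟩ := hx'
    obtain ⟨b₁, hb₁, h1⟩ := h.onto k hvE hvF hx₁
    obtain ⟨b₂, hb₂, h2⟩ := h.onto k hvlE' hv'F (mem_smul_as.1 hx₂)
    have hd : (b₁ : Y) * ((l * b₂ * l⁻¹ : L) : Y) ∈ D := mul_mem (hB1 b₁ hb₁) (h.B_le_D k hb₂ l)
    refine ⟨⟨_, hd⟩, ?_⟩
    have h3 : φ ⟨_, hd⟩ = φ ⟨_, hB1 b₁ hb₁⟩ * φ ⟨_, h.B_le_D k hb₂ l⟩ := by
      rw [← map_mul]; rfl
    have h4 : (l * b₂ * l⁻¹) • v + v = x₂ := by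
      rw [← h.conj_smul_add k (l := l) (b := b₂) v] at h2
      exact smul_left_cancel _ h2
    have hx₂X : x₂ ∈ fx V Q := h.loc.mem_X_of hx₂
    have h5 : φ ⟨_, hB1 b₁ hb₁⟩ = Multiplicative.ofAdd ⟨x₁, hx₁.1⟩ := (phi_eq _ _).2 h1
    have h6 : φ ⟨_, h.B_le_D k hb₂ l⟩ = Multiplicative.ofAdd ⟨x₂, hx₂X⟩ := (phi_eq _ _).2 h4
    rw [h3, h5, h6]
    apply congrArg Multiplicative.ofAdd
    exact Subtype.ext he
  -- cardinalities
  set κ := Nat.card φ.ker with hκ
  have hκ0 : 0 < κ := Nat.card_pos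
  have hcD : Nat.card D = c ^ 2 * κ := by
    have h1 := Subgroup.card_mul_index φ.ker
    rw [Subgroup.index_ker, MonoidHom.range_eq_top.2 hsurj, Subgroup.card_top] at h1
    have h2 : Nat.card (Multiplicative ↥(fx V Q : AddSubgroup V)) = c ^ 2 := h.cX
    rw [← h1, h2]
    ring
  -- `D₁ = φ⁻¹(X₁)`
  let X₁' : Subgroup (Multiplicative ↥(fx V Q : AddSubgroup V)) := AddSubgroup.toSubgroup (F.addSubgroupOf (fx V Q))
  have hX₁' : X₁'.index = c := by
    have h1 : X₁'.index = (F.addSubgroupOf (fx V Q)).index := rfl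
    have h2 := AddSubgroup.card_mul_index (F.addSubgroupOf (fx V Q))
    have h3 : Nat.card ↥(F.addSubgroupOf (fx V Q)) = c := by
      apply Nat.card_congr
      exact
        { toFun := fun v => ⟨v.1.1, v.1.2, AddSubgroup.mem_addSubgroupOf.1 v.2⟩
          invFun := fun v => ⟨⟨v.1, v.2.1⟩, AddSubgroup.mem_addSubgroupOf.2 v.2.2⟩
          left_inv := fun v => rfl
          right_inv := fun v => rfl }
    rw [h3, h.cX, pow_two] at h2
    rw [h1]
    exact Nat.eq_of_mul_eq_mul_left hc0 h2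
  set D₁ : Subgroup Y := (X₁'.comap φ).map D.subtype with hD₁
  have hmD₁ : ∀ {d : Y}, d ∈ D₁ ↔ d ∈ D ∧ d • v + v ∈ F := by
    intro d
    constructor
    · rintro ⟨d', hd', rfl⟩
      exact ⟨d'.2, AddSubgroup.mem_addSubgroupOf.1 hd'⟩
    · rintro ⟨hd, hdF⟩
      exact ⟨⟨d, hd⟩, AddSubgroup.mem_addSubgroupOf.2 hdF, rfl⟩
  have hcD₁ : Nat.card D₁ = c * κ := by
    have h1 : Nat.card D₁ = Nat.card (X₁'.comap φ) :=
      Nat.card_congr ((X₁'.comap φ).equivMapOfInjective _ D.subtype_injective).symm.toEquiv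
    have h2 := Subgroup.card_mul_index (X₁'.comap φ)
    rw [Subgroup.index_comap_of_surjective _ hsurj, hX₁', hcD] at h2
    rw [h1]
    apply Nat.eq_of_mul_eq_mul_right hc0
    rw [h2]
    ring
  -- `D₀`
  obtain ⟨D₀, hD₀, hcD₀⟩ := h.count_X' k (P := D) (fun p hp => ⟨h.D_le_T hp, h.D_le_NX hp⟩)
    (fun p hp x hx => hp.1 x hx.1)
  rw [hcD] at hcD₀
  have hcD₀' : c * κ ≤ Nat.card D₀ := by
    apply Nat.le_of_mul_le_mul_left _ hc0
    calc c * (c * κ) = c ^ 2 * κ := by ring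
      _ ≤ _ := hcD₀
  set X' : AddSubgroup V := t • (fx V Q : AddSubgroup V) with hX'
  set U := (fx V Q : AddSubgroup V) ⊔ X' with hU
  have hUX : (fx V Q : AddSubgroup V) ≤ U := le_sup_left
  have hUX' : X' ≤ U := le_sup_right
  set W := Dx Y h.two U with hW
  have htriv : ∀ d : Y, (∀ x ∈ fx V Q, d • x = x) → (∀ x ∈ X', d • x = x) → ∀ x ∈ U, d • x = x := by
    intro d h1 h2 x hx
    rw [hU, AddSubgroup.mem_sup] at hx
    obtain ⟨y, hy, w, hw, rfl⟩ := hx
    rw [smul_add, h1 y hy, h2 w hw]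
  have hD₀W : D₀ ≤ W := by
    intro d hd
    obtain ⟨hd1, hd2⟩ := (hD₀ d).1 hd
    exact ⟨htriv d hd1.1 hd2, fun v => hUX (hd1.2 v)⟩
  set D₀t : Subgroup Y := MulAut.conj t • D₀ with hD₀t
  have hD₀tmem : ∀ {d : Y}, d ∈ D₀t → (∀ x ∈ fx V Q, d • x = x) ∧ (∀ x ∈ X', d • x = x) ∧ ∀ v : V, d • v + v ∈ X' := by
    intro d hd
    rw [hD₀t, mem_conj] at hd
    obtain ⟨hd1, hd2⟩ := (hD₀ _).1 hd
    have hs : ∀ x : V, t • ((t⁻¹ * d * t) • (t⁻¹ • x)) = d • x := by
      intro x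
      rw [← mul_smul, ← mul_smul]
      congr 1
      group
    refine ⟨fun x hx => ?_, fun x hx => ?_, fun v => ?_⟩
    · rw [← hs, hd2 _ (h.ttX k hx), smul_inv_smul]
    · rw [← hs, hd1.1 _ (mem_smul_as.1 hx), smul_inv_smul]
    · rw [hX', mem_smul_as, smul_add, ← hs v, inv_smul_smul]
      exact hd1.2 _
  have hD₀tW : D₀t ≤ W := by
    intro d hd
    obtain ⟨h1, h2, h3⟩ := hD₀tmem hd
    exact ⟨htriv d h1 h2, fun v => hUX' (h3 v)⟩
  have hcD₀t : Nat.card D₀t = Nat.card D₀ :=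
    (Nat.card_congr (Subgroup.equivSMul (MulAut.conj t) D₀).toEquiv).symm
  have h1 := card_mul_le hD₀W hD₀tW
  rw [hcD₀t] at h1
  -- `I`
  have hI : Nat.card ↥(D₀ ⊓ D₀t) ≤ κ := by
    have h2 : D₀ ⊓ D₀t ≤ D₁ := by
      rintro d ⟨hd1, hd2⟩
      have h3 := ((hD₀ d).1 hd1).1
      refine hmD₁.2 ⟨h3, ?_⟩
      exact (h.inf_X' k (h3.2 v) ((hD₀tmem hd2).2.2 v)).2
    have h3 : (A ⊓ Q).map L.subtype ≤ D₁ := by
      rintro _ ⟨b, hb, rfl⟩
      exact hmD₁.2 ⟨hB1 b hb, h.loc.mem.EB b hb.1 v hvE⟩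
    have h4 := card_mul_le h2 h3
    have h5 : (D₀ ⊓ D₀t) ⊓ (A ⊓ Q).map L.subtype = ⊥ := by
      rw [eq_bot_iff]
      rintro _ ⟨⟨hd1, hd2⟩, ⟨b, hb, rfl⟩⟩
      rw [mem_bot]
      obtain ⟨w, hw⟩ := h.loc.mem.ne
      have h6 : b • w + w ∈ F :=
        (h.inf_X' k (((hD₀ _).1 hd1).1.2 w) ((hD₀tmem hd2).2.2 w)).2
      rw [h.loc.mem.inj w hw b hb.1 h6]
      rfl
    have h6 : Nat.card ↥((A ⊓ Q).map L.subtype) = c := by
      rw [hc, ← h.cB k]
      exact Nat.card_congr ((A ⊓ Q).equivMapOfInjective _ L.subtype_injective).symm.toEquiv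
    rw [h5, Subgroup.card_bot, mul_one, hcD₁, h6] at h4
    apply Nat.le_of_mul_le_mul_right _ hc0
    calc Nat.card ↥(D₀ ⊓ D₀t) * c ≤ c * κ := h4
      _ = κ * c := by ring
  -- no offender
  have hWne : W ≠ ⊥ := by
    intro h2
    have h3 : D₀ = ⊥ := by rw [eq_bot_iff, ← h2]; exact hD₀W
    rw [h3, Subgroup.card_bot] at hcD₀'
    have : c * 1 ≤ c * κ := Nat.mul_le_mul_left _ hκ0
    omega
  have h2 := h.off W (fun b hb => Dx_sq h.faith hb) hWne
  have h3 : U ≤ fx V W := fun x hx d hd => hd.1 x hx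
  have h4 := card_mono_as h3
  have hcU : Nat.card U = c ^ 3 := h.cU k
  rw [hcU] at h4
  rw [hcV] at h2
  have h5 : Nat.card W < Nat.card F := by
    apply Nat.lt_of_mul_lt_mul_right (a := c ^ 3)
    exact lt_of_le_of_lt (Nat.mul_le_mul_left _ h4) h2
  -- end
  have h6 : c * κ * (c * κ) ≤ Nat.card W * κ := by
    calc c * κ * (c * κ) ≤ Nat.card D₀ * Nat.card D₀ := Nat.mul_le_mul hcD₀' hcD₀'
      _ ≤ _ := h1
      _ ≤ _ := Nat.mul_le_mul_left _ hI
  have h7 : c ^ 2 * κ ≤ Nat.card W := by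
    apply Nat.le_of_mul_le_mul_right _ hκ0
    calc c ^ 2 * κ * κ = c * κ * (c * κ) := by ring
      _ ≤ _ := h6
  have h8 : c ^ 2 ≤ c ^ 2 * κ := Nat.le_mul_of_pos_right _ hκ0
  omega

end Hyp

end Cfsg.Agent.Omega.NO1.B0

end

end

-- merged: Cfsg.Agent.Mrg.Omega.NO1.B0.Seven
section

section


/-!
# THEOREM B0 (bb OMEGA 18835, helper970): (7)
-/

set_option autoImplicit false
set_option linter.unusedSectionVars false
set_option linter.style.haveILetI false

namespace Cfsg.Agent.Omega.NO1.B0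

open Subgroup Cfsg.Agent.Omega.NO1.AB
open scoped Pointwise

universe u

variable {Y : Type u} [Group Y] {V : Type u} [AddCommGroup V] [DistribMulAction Y V]

namespace Hyp

variable {T : Sylow 2 Y} {M L : Subgroup Y} {A Q L₁ : Subgroup L} {R : Sylow 2 L} {E F : AddSubgroup V}
  {z : V} (h : Hyp T M L A Q L₁ R E F z)
include h

section t

variable {t : Y} (k : Tk T L V Q t)
include k

theorem X1 [Finite Y] [Finite V] : (fx V Q : AddSubgroup V) ⊓ F = F := inf_eq_right.2 (h.six k)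

theorem cF' [Finite Y] [Finite V] : Nat.card F = E.index := by
  rw [← h.ca k, h.X1 k]

theorem tF' [Finite Y] [Finite V] : t • F = F := by
  have := h.tX1 k
  rwa [h.X1 k] at this

theorem cE' [Finite Y] [Finite V] : Nat.card E = E.index ^ 3 := by
  rw [h.cE k, h.cF' k, h.ca k]; ring

theorem cV' [Finite Y] [Finite V] : Nat.card V = E.index ^ 4 := by
  rw [h.cV k, h.cF' k, h.ca k]; ring

theorem supE' [Finite Y] [Finite V] : E = (fx V Q : AddSubgroup V) ⊔ t • (fx V Q : AddSubgroup V) := by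
  symm
  apply eq_of_le_as
  · exact sup_le h.beta.XE fun x hx => h.X'_le_E k hx
  · rw [h.cU k, h.cE' k, h.ca k]

theorem tE' [Finite Y] [Finite V] : t • E = E := by
  apply eq_of_le_as
  · intro x hx
    rw [mem_smul_as, h.supE' k, AddSubgroup.mem_sup] at hx
    obtain ⟨y, hy, w, hw, he⟩ := hx
    have hx' : x = t • y + t • w := by rw [← smul_add, he, smul_inv_smul]
    rw [hx', h.supE' k]
    refine AddSubgroup.add_mem _ (AddSubgroup.mem_sup_right (smul_mem_smul_as hy)) (AddSubgroup.mem_sup_left ?_)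
    rw [mem_smul_as] at hw
    have h1 := NX_smul k.tt hw
    rwa [mul_smul, smul_inv_smul] at h1
  · exact (card_smul_as t E).ge

/-- `C_D(X') = 1` -/
theorem D0 [Finite Y] [Finite V] {d : Y} (hd : d ∈ Dx Y h.two (fx V Q : AddSubgroup V))
    (hdX : ∀ x ∈ t • (fx V Q : AddSubgroup V), d • x = x) : d = 1 := by
  have hdE : ∀ x ∈ E, d • x = x := by
    intro x hx
    rw [h.supE' k, AddSubgroup.mem_sup] at hx
    obtain ⟨y, hy, w, hw, rfl⟩ := hx
    rw [smul_add, hd.1 y hy, hdX w hw]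
  have key : ∀ l : L, l ∉ L₁ → ∀ v : V, l⁻¹ • (d • v + v) ∈ fx V Q ⊓ F := by
    intro l hl v
    -- `l⁻¹ v = x + e`, `x ∈ X'`, `l e ∈ E`
    obtain ⟨x, hx, he⟩ := h.sup_top k (h.inv_nmem hl) (l⁻¹ • v)
    rw [inv_inv, smul_add, smul_inv_smul] at he
    have h1 : d • v + v = d • (l • x) + l • x := by
      have h2 := hdE _ he
      rw [smul_add] at h2
      have h3 : d • v + v + (d • (l • x) + l • x) = (d • v + d • (l • x)) + (v + l • x) := by abel
      rw [h2, h.two] at h3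
      exact h.eq_of_add h3
    have hc : (l : Y)⁻¹ * d * (l : Y) ∈ Dx Y h.two (fx V Q : AddSubgroup V) := by
      have := h.D_conj (n := (l : Y)⁻¹) (inv_mem (h.AN l)) hd
      rwa [inv_inv] at this
    have h4 := (h.s3 k (h.D_le_T hc) (h.D_le_NX hc) fun x hx => hc.1 x hx.1).1 x hx
    have h5 : l⁻¹ • (d • (l • x) + l • x) = ((l : Y)⁻¹ * d * (l : Y)) • x + x := by
      rw [smul_add, inv_smul_smul, mul_smul, mul_smul]
      rfl
    rw [h1, h5]
    exact h4
  apply h.faith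
  intro v
  obtain ⟨l, hl⟩ := exists_out h.loc h.beta
  obtain ⟨a, ha, hal, hal'⟩ := h.second k hl
  have h1 := key l hl v
  have h2 := key (a * l) hal v
  have h3 : d • v + v ∈ fx V (⊤ : Subgroup L) := h.loc.fix_all hal' h1.2 h2.2
  rw [h.C0, AddSubgroup.mem_bot] at h3
  exact h.eq_of_add h3

theorem cardD [Finite Y] [Finite V] : Nat.card (Dx Y h.two (fx V Q : AddSubgroup V)) ≤ E.index := by
  obtain ⟨D₀, hD₀, hc⟩ := h.count_X' k (P := Dx Y h.two (fx V Q : AddSubgroup V))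
    (fun p hp => ⟨h.D_le_T hp, h.D_le_NX hp⟩) (fun p hp x hx => hp.1 x hx.1)
  have h1 : D₀ = ⊥ := by
    rw [eq_bot_iff]
    intro d hd
    rw [mem_bot]
    exact h.D0 k ((hD₀ d).1 hd).1 ((hD₀ d).1 hd).2
  rwa [h1, Subgroup.card_bot, mul_one, h.ca k] at hc

/-- `Q ≤ D` -/
theorem Q_le_D [Finite Y] [Finite V] {q : L} (hq : q ∈ Q) : (q : Y) ∈ Dx Y h.two (fx V Q : AddSubgroup V) := by
  refine ⟨fun x hx => hx q hq, fun v => ?_⟩
  obtain ⟨l, hl⟩ := exists_out h.loc h.beta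
  have h1 : ∀ l : L, ∀ x ∈ t • (fx V Q : AddSubgroup V), q • (l • x) + l • x ∈ fx V Q := by
    intro l x hx
    have hq' : l⁻¹ * q * l ∈ Q := by simpa using h.loc.Qn.conj_mem q hq l⁻¹
    have h2 := ((h.s3Q k hq').1 x hx).1
    have h3 := h.Xmem (l := l) h2
    rw [smul_add, ← mul_smul] at h3
    have e : l * (l⁻¹ * q * l) = q * l := by group
    rwa [e, mul_smul] at h3
  have hE : ∀ e ∈ E, q • e + e ∈ fx V Q := by
    intro e he
    rw [h.supE' k, AddSubgroup.mem_sup] at he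
    obtain ⟨y, hy, w, hw, rfl⟩ := he
    have e1 : q • (y + w) + (y + w) = (q • y + y) + (q • w + w) := by rw [smul_add]; abel
    rw [e1, hy q hq, h.two, zero_add]
    have := h1 1 w hw
    rwa [one_smul] at this
  obtain ⟨x, hx, he⟩ := h.sup_top k (h.inv_nmem hl) (l⁻¹ • v)
  rw [inv_inv, smul_add, smul_inv_smul] at he
  have h2 := hE _ he
  have h3 := h1 l x hx
  have e1 : q • v + v = (q • (v + l • x) + (v + l • x)) + (q • (l • x) + l • x) := by
    rw [smul_add]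
    have : q • v + q • l • x + (v + l • x) + (q • l • x + l • x) =
      q • v + v + (q • l • x + q • l • x) + (l • x + l • x) := by abel
    rw [this, h.two, h.two, add_zero, add_zero]
  change q • v + v ∈ fx V Q
  rw [e1]
  exact (fx V Q).add_mem h2 h3

theorem Dcard_B [Finite Y] [Finite V] : (A ⊓ Q).map L.subtype = Dx Y h.two (fx V Q : AddSubgroup V) := by
  apply eq_of_le_of_card_ge
  · rintro _ ⟨b, hb, rfl⟩
    exact h.Q_le_D k hb.2
  · have h1 : Nat.card ↥((A ⊓ Q).map L.subtype) = Nat.card ↥(A ⊓ Q) :=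
      Nat.card_congr ((A ⊓ Q).equivMapOfInjective _ L.subtype_injective).symm.toEquiv
    rw [h1, h.cB k, h.ca k]
    exact h.cardD k

theorem DD' [Finite Y] [Finite V] {y : Y} (hy : y ∈ Dx Y h.two (fx V Q : AddSubgroup V)) :
    ∃ q ∈ A ⊓ Q, (q : Y) = y := by
  rw [← h.Dcard_B k] at hy
  obtain ⟨b, hb, h1⟩ := hy
  exact ⟨b, hb, h1⟩

theorem QA' [Finite Y] [Finite V] : Q ≤ A := by
  intro q hq
  obtain ⟨b, hb, h1⟩ := h.DD' k (h.Q_le_D k hq)
  have : b = q := Subtype.ext h1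
  rw [← this]
  exact hb.1

theorem AQ [Finite Y] [Finite V] : A ⊓ Q = Q := inf_eq_right.2 (h.QA' k)

theorem cQ' [Finite Y] [Finite V] : Nat.card Q = E.index := by
  rw [← h.AQ k, h.cB k, h.ca k]

theorem Qz' [Finite Y] [Finite V] {q : L} (hq : q ∈ Q) (l : L) : q * l = l * q := by
  obtain ⟨g, hg⟩ := exists_out h.loc h.beta
  have h1 : (⊤ : Subgroup L) ≤ centralizer {q} := by
    rw [← h.loc.top_of hg]
    refine sup_le ?_ ?_
    · intro a ha
      rw [mem_centralizer_singleton_iff]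
      exact h.loc.mem.comm a ha q (h.QA' k hq)
    · intro a ha
      rw [mem_conj] at ha
      rw [mem_centralizer_singleton_iff]
      have hq' : g⁻¹ * q * g ∈ A := h.QA' k (by simpa using h.loc.Qn.conj_mem q hq g⁻¹)
      have h2 := h.loc.mem.comm _ ha _ hq'
      have h3 : g * (g⁻¹ * a * g * (g⁻¹ * q * g)) * g⁻¹ = g * (g⁻¹ * q * g * (g⁻¹ * a * g)) * g⁻¹ := by rw [h2]
      have e1 : g * (g⁻¹ * a * g * (g⁻¹ * q * g)) * g⁻¹ = a * q := by group
      have e2 : g * (g⁻¹ * q * g * (g⁻¹ * a * g)) * g⁻¹ = q * a := by group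
      rwa [e1, e2] at h3
  have h2 := mem_centralizer_singleton_iff.1 (h1 (mem_top l))
  exact h2.symm

theorem Qfix' [Finite Y] [Finite V] {q : L} (hq : q ∈ Q) (hq1 : q ≠ 1) {v : V} (hv : q • v = v) :
    v ∈ fx V Q := by
  have hqA : q ∈ A ⊓ Q := ⟨h.QA' k hq, hq⟩
  have hvE : v ∈ E := by
    by_contra hvE
    exact hq1 (h.loc.mem.inj v hvE q hqA.1 (by rw [hv, h.two]; exact F.zero_mem))
  have h1 := h.five_d k hqA hq1 hvE hv
  exact (sup_le le_rfl (h.six k)) h1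

theorem QV' [Finite Y] [Finite V] {q : L} (hq : q ∈ Q) (v : V) : q • v + v ∈ fx V Q :=
  (h.Q_le_D k hq).2 v

/-- a subgroup and the image of `v ↦ [v, y]` -/
theorem surj_of [Finite V] {y : Y} {W : AddSubgroup V} (h1 : ∀ v : V, y • v = v → v ∈ W) (h2 : ∀ v : V, y • v + v ∈ W)
    (h3 : Nat.card W * Nat.card W ≤ Nat.card V) {x : V} (hx : x ∈ W) : ∃ v : V, y • v + v = x := by
  have h4 := AddSubgroup.card_mul_index (HE.dl (V := V) y).ker
  rw [AddSubgroup.index_ker] at h4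
  have h5 : (HE.dl (V := V) y).ker ≤ W := fun v hv => h1 v (h.eq_of_add hv)
  have h6 : (HE.dl (V := V) y).range ≤ W := by
    rintro _ ⟨v, rfl⟩
    exact h2 v
  have h7 := card_mono_as h5
  have h8 : (HE.dl (V := V) y).range = W := by
    apply eq_of_le_as h6
    have h9 : 0 < Nat.card W := Nat.card_pos
    apply Nat.le_of_mul_le_mul_left _ h9
    calc Nat.card W * Nat.card W ≤ Nat.card V := h3
      _ = Nat.card (HE.dl (V := V) y).ker * Nat.card (HE.dl (V := V) y).range := h4.symm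
      _ ≤ _ := Nat.mul_le_mul_right _ h7
  rw [← h8] at hx
  exact hx

theorem cX' [Finite Y] [Finite V] : Nat.card ↥(fx V Q : AddSubgroup V) = E.index ^ 2 := by
  rw [h.cX, h.ca k]

theorem Qsurj' [Finite Y] [Finite V] {q : L} (hq : q ∈ Q) (hq1 : q ≠ 1) {x : V} (hx : x ∈ fx V Q) :
    ∃ v : V, q • v + v = x := by
  apply h.surj_of k (y := (q : Y)) (fun v hv => h.Qfix' k hq hq1 hv) (fun v => h.QV' k hq v) _ hx
  rw [h.cX' k, h.cV' k]
  apply le_of_eq
  ring

theorem supXF [Finite Y] [Finite V] : (fx V Q : AddSubgroup V) ⊔ F = fx V Q := sup_eq_left.2 (h.six k)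

theorem exists_q [Finite Y] [Finite V] : ∃ q ∈ Q, q ≠ 1 := by
  obtain ⟨q, hq, hq1⟩ := h.A_ne k
  exact ⟨q, hq.2, hq1⟩

theorem exists_v [Finite Y] [Finite V] : ∃ v ∈ t • (fx V Q : AddSubgroup V), v ∈ E ∧ v ∉ fx V Q := by
  obtain ⟨v, hv, hvX⟩ := h.X'_not_le k
  exact ⟨v, hv, h.X'_le_E k hv, hvX⟩

/-- `[v, Q] = F` for `v ∈ E - X` -/
theorem onto' [Finite Y] [Finite V] {v : V} (hv : v ∈ E) (hvX : v ∉ fx V Q) {x : V} (hx : x ∈ F) :
    ∃ b ∈ Q, b • v + v = x := by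
  obtain ⟨b, hb, h1⟩ := h.onto k hv (by rwa [h.supXF k]) (x := x) (by rw [h.X1 k]; exact hx)
  exact ⟨b, hb.2, h1⟩

/-- `C_A(X') ≤ S^t` -/
theorem CAX [Finite Y] [Finite V] {s : L} (hs : s ∈ A) (hsX : ∀ x ∈ t • (fx V Q : AddSubgroup V), s • x = x) :
    ∃ q ∈ Q, (s : Y) = t * q * t⁻¹ := by
  by_cases hs1 : s = 1
  · exact ⟨1, one_mem _, by rw [hs1]; simp⟩
  -- `[E, s] = F`
  obtain ⟨v₀, -, hv₀E, hv₀X⟩ := h.exists_v k
  have h1 : ∀ x ∈ F, ∃ e ∈ E, s • e + e = x := by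
    intro x hx
    obtain ⟨b, hb, h2⟩ := h.onto' k hv₀E hv₀X hx
    obtain ⟨e', he', h3⟩ := pf_eq h.loc.mem h.two (by rw [h.cA2 k, h.ca k]) hs hs1 (h.QA' k hb) hv₀E
    exact ⟨e', he', by rw [← h3, h2]⟩
  -- `|C_E(s)| = a²`
  let ψ : E →+ V := (HE.dl (V := V) s).comp E.subtype
  have hψr : F ≤ ψ.range := by
    intro x hx
    obtain ⟨e, he, h2⟩ := h1 x hx
    exact ⟨⟨e, he⟩, h2⟩
  have h2 := AddSubgroup.card_mul_index ψ.ker
  rw [AddSubgroup.index_ker, h.cE' k] at h2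
  have h3 := card_mono_as hψr
  rw [h.cF' k] at h3
  have ha0 : 0 < E.index := Nat.pos_of_ne_zero AddSubgroup.index_ne_zero_of_finite
  have h4 : Nat.card ψ.ker ≤ E.index ^ 2 := by
    apply Nat.le_of_mul_le_mul_right _ ha0
    calc Nat.card ψ.ker * E.index ≤ Nat.card ψ.ker * Nat.card ψ.range := Nat.mul_le_mul_left _ h3
      _ = E.index ^ 3 := h2
      _ = E.index ^ 2 * E.index := by ring
  have h5 : t • (fx V Q : AddSubgroup V) = ψ.ker.map E.subtype := by
    apply eq_of_le_as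
    · intro x hx
      refine ⟨⟨x, h.X'_le_E k hx⟩, ?_, rfl⟩
      change s • x + x = 0
      rw [hsX x hx, h.two]
    · rw [card_smul_as, h.cX' k]
      have : Nat.card (ψ.ker.map E.subtype) = Nat.card ψ.ker :=
        Nat.card_congr (ψ.ker.equivMapOfInjective _ E.subtype_injective).symm.toEquiv
      rw [this]
      exact h4
  have h6 : ∀ v : V, s • v = v → v ∈ t • (fx V Q : AddSubgroup V) := by
    intro v hv
    have hvE : v ∈ E := by
      by_contra hvE
      exact hs1 (h.loc.mem.inj v hvE s hs (by rw [hv, h.two]; exact F.zero_mem))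
    rw [h5]
    refine ⟨⟨v, hvE⟩, ?_, rfl⟩
    change s • v + v = 0
    rw [hv, h.two]
  have h7 : t⁻¹ * (s : Y) * t ∈ Dx Y h.two (fx V Q : AddSubgroup V) := by
    have h8 : ∀ v : V, t • ((t⁻¹ * (s : Y) * t) • v) = s • (t • v) := by
      intro v
      rw [mul_smul, mul_smul, smul_inv_smul]
      rfl
    refine ⟨fun x hx => ?_, fun v => ?_⟩
    · have h9 := h8 x
      rw [hsX _ (smul_mem_smul_as hx)] at h9
      exact smul_left_cancel _ h9
    · have h9 := h6 (s • (t • v) + t • v) (by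
        rw [smul_add, ← mul_smul, h.loc.mem.sq s hs, one_smul, add_comm])
      rw [mem_smul_as, ← h8, ← smul_add, inv_smul_smul] at h9
      exact h9
  obtain ⟨q, hq, h8⟩ := h.DD' k h7
  refine ⟨q, hq.2, ?_⟩
  rw [h8]; group

/-- `S^t ≤ A` -/
theorem QtA' [Finite Y] [Finite V] {q : L} (hq : q ∈ Q) :
    ∃ b ∈ A, (b : Y) = t * q * t⁻¹ ∧ ∀ x ∈ t • (fx V Q : AddSubgroup V), b • x = x := by
  obtain ⟨P₀, hP₀, hcard⟩ := h.count_X' k (P := A.map L.subtype) (by
    rintro _ ⟨a, ha, rfl⟩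
    exact ⟨h.AT ha, h.AN a⟩) (by
    rintro _ ⟨a, ha, rfl⟩ x hx
    exact h.loc.mem.FB a ha x hx.2)
  have hA : Nat.card (A.map L.subtype) = Nat.card A :=
    Nat.card_congr (A.equivMapOfInjective _ L.subtype_injective).symm.toEquiv
  rw [hA, h.cA2 k, h.ca k, pow_two] at hcard
  have ha0 : 0 < E.index := Nat.pos_of_ne_zero AddSubgroup.index_ne_zero_of_finite
  have hcard' := Nat.le_of_mul_le_mul_left hcard ha0
  have h1 : P₀ ≤ MulAut.conj t • Q.map L.subtype := by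
    intro p hp
    obtain ⟨⟨a, ha, rfl⟩, hp1⟩ := (hP₀ p).1 hp
    obtain ⟨q, hq, h2⟩ := h.CAX k ha hp1
    change (a : Y) ∈ _
    rw [h2]
    exact conj_mem_conj ⟨q, hq, rfl⟩
  have h2 : P₀ = MulAut.conj t • Q.map L.subtype := by
    apply eq_of_le_of_card_ge h1
    have h3 : Nat.card (MulAut.conj t • Q.map L.subtype : Subgroup Y) = Nat.card Q := by
      rw [← Nat.card_congr (Subgroup.equivSMul (MulAut.conj t) (Q.map L.subtype)).toEquiv]
      exact (Nat.card_congr (Q.equivMapOfInjective _ L.subtype_injective).toEquiv).symm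
    rw [h3, h.cQ' k]
    exact hcard'
  have h3 : t * (q : Y) * t⁻¹ ∈ P₀ := by
    rw [h2]
    exact conj_mem_conj ⟨q, hq, rfl⟩
  obtain ⟨⟨b, hb, h4⟩, h5⟩ := (hP₀ _).1 h3
  refine ⟨b, hb, h4, fun x hx => ?_⟩
  have h6 := h5 x hx
  rw [← h4] at h6
  exact h6

theorem inf1' [Finite Y] [Finite V] {q q' : L} (hq : q ∈ Q) (hq' : q' ∈ Q) (he : (q : Y) = t * q' * t⁻¹) : q = 1 := by
  by_contra hq1
  obtain ⟨v, hv, -, hvX⟩ := h.exists_v k
  apply hvX
  apply h.Qfix' k hq hq1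
  obtain ⟨b, hb, h1, h2⟩ := h.QtA' k hq'
  have h3 : b = q := Subtype.ext (h1.trans he.symm)
  rw [← h3]
  exact h2 v hv

theorem prod' [Finite Y] [Finite V] {b : L} (hb : b ∈ A) : ∃ q ∈ Q, ∃ q' ∈ Q, (b : Y) = q * (t * q' * t⁻¹) := by
  have hex : ∀ q : Q, ∃ b ∈ A, (b : Y) = t * ((q : L) : Y) * t⁻¹ := by
    intro q
    obtain ⟨b, hb, h1, -⟩ := h.QtA' k q.2
    exact ⟨b, hb, h1⟩
  choose g hg1 hg2 using hex
  let f : Q × Q → A := fun p => ⟨p.1 * g p.2, mul_mem (h.QA' k p.1.2) (hg1 p.2)⟩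
  have hf : Function.Injective f := by
    rintro ⟨q₁, q₂⟩ ⟨q₃, q₄⟩ hqq
    have h1 : ((q₁ : L) : Y) * (t * ((q₂ : L) : Y) * t⁻¹) = ((q₃ : L) : Y) * (t * ((q₄ : L) : Y) * t⁻¹) := by
      have := congrArg (fun a : A => ((a : L) : Y)) hqq
      change ((q₁ : L) : Y) * (g q₂ : Y) = ((q₃ : L) : Y) * (g q₄ : Y) at this
      rwa [hg2, hg2] at this
    have h2 : (((q₃ : L)⁻¹ * q₁ : L) : Y) = t * (((q₄ : L) * (q₂ : L)⁻¹ : L) : Y) * t⁻¹ := by
      rw [coe_mul, coe_mul, coe_inv, coe_inv]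
      have h3 : ((q₁ : L) : Y) = ((q₃ : L) : Y) * (t * ((q₄ : L) : Y) * t⁻¹) * (t * ((q₂ : L) : Y) * t⁻¹)⁻¹ := by
        rw [← h1]; group
      rw [h3]; group
    have h3 := h.inf1' k (mul_mem (inv_mem q₃.2) q₁.2) (mul_mem q₄.2 (inv_mem q₂.2)) h2
    have h4 : q₁ = q₃ := Subtype.ext (by rw [inv_mul_eq_one] at h3; exact h3.symm)
    subst h4
    have h5 := mul_left_cancel h1
    have h6 : ((q₂ : L) : Y) = ((q₄ : L) : Y) := mul_left_cancel (mul_right_cancel h5)
    have h7 : q₂ = q₄ := Subtype.ext (Subtype.ext h6)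
    rw [h7]
  have hs : Function.Surjective f := ((Nat.bijective_iff_injective_and_card f).2 ⟨hf, by
    rw [Nat.card_prod, h.cQ' k, h.cA2 k, h.ca k, pow_two]⟩).2
  obtain ⟨⟨q, q'⟩, h1⟩ := hs ⟨b, hb⟩
  refine ⟨q, q.2, q', q'.2, ?_⟩
  have h2 := congrArg (fun a : A => ((a : L) : Y)) h1
  change ((q : L) : Y) * (g q' : Y) = b at h2
  rw [← h2, hg2]

theorem tA' [Finite Y] [Finite V] {b : L} (hb : b ∈ A) : ∃ c ∈ A, (c : Y) = t * b * t⁻¹ := by
  obtain ⟨q, hq, q', hq', h1⟩ := h.prod' k hb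
  obtain ⟨c, hc, h2, -⟩ := h.QtA' k hq
  have h3 := h.D_conj k.tt (h.Q_le_D k hq')
  obtain ⟨q'', hq'', h4⟩ := h.DD' k h3
  refine ⟨c * q'', mul_mem hc hq''.1, ?_⟩
  rw [coe_mul, h2, h4, h1]
  group

/-- `C_Y(E) ∩ C_Y(V/E) = 1` -/
theorem N0 [Finite Y] [Finite V] {n : Y} (hn : n ∈ Dx Y h.two E) : n = 1 := by
  -- `n` commutes with `A`
  have hcomm : ∀ a ∈ A, (a : Y) * n = n * a := by
    intro a ha
    have hc : (a : Y) * n * (n * a)⁻¹ ∈ Dx Y h.two (fx V Q : AddSubgroup V) := by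
      have key : ∀ v : V, ((a : Y) * n * (n * a)⁻¹) • v + v ∈ F := by
        intro v
        obtain ⟨w, rfl⟩ : ∃ w : V, v = (n * (a : Y)) • w := ⟨(n * (a : Y))⁻¹ • v, by rw [smul_inv_smul]⟩
        have e1 : ((a : Y) * n * (n * a)⁻¹) • (n * (a : Y)) • w = ((a : Y) * n) • w := by
          rw [← mul_smul]; congr 1; group
        rw [e1, mul_smul, mul_smul]
        have h1 := hn.1 _ (h.loc.mem.VB a ha w)
        change n • ((a : Y) • w + w) = (a : Y) • w + w at h1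
        rw [smul_add] at h1
        have h2 : (a : Y) • n • w + n • (a : Y) • w = (a : Y) • (n • w + w) + (n • w + w) := by
          have h3 : n • (a : Y) • w = (a : Y) • w + w + n • w := by
            rw [← h1, add_assoc, h.two, add_zero]
          rw [h3, smul_add]
          abel
        rw [h2]
        exact h.loc.mem.EB a ha _ (hn.2 w)
      refine ⟨fun x hx => ?_, fun v => h.six k (key v)⟩
      have hx' : (a : Y)⁻¹ • x ∈ E := h.beta.XE (h.Xmem (l := a⁻¹) hx)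
      rw [mul_inv_rev, mul_smul, mul_smul, mul_smul]
      have hxE : n⁻¹ • x = x := by rw [inv_smul_eq_iff, hn.1 x (h.beta.XE hx)]
      rw [hxE, hn.1 _ hx', smul_inv_smul]
    have h1 := h.D0 k hc (by
      intro x hx
      have hxE := h.X'_le_E k hx
      have hx' : (a : Y)⁻¹ • x ∈ E := by
        have h2 := h.loc.mem.VB a⁻¹ (inv_mem ha) x
        exact (AddSubgroup.add_mem_cancel_right E hxE).1 h2
      rw [mul_inv_rev, mul_smul, mul_smul, mul_smul]
      have hxE' : n⁻¹ • x = x := by rw [inv_smul_eq_iff, hn.1 x hxE]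
      rw [hxE', hn.1 _ hx', smul_inv_smul])
    exact mul_inv_eq_one.1 h1
  apply h.D0 k
  · refine ⟨fun x hx => hn.1 x (h.beta.XE hx), fun v => h.six k ?_⟩
    apply h.loc.mem.CB
    intro a ha
    have h1 := hn.1 _ (h.loc.mem.VB a ha v)
    change n • ((a : Y) • v + v) = (a : Y) • v + v at h1
    change (a : Y) • (n • v + v) = n • v + v
    apply h.eq_of_add
    have h2 : (a : Y) • (n • v + v) + (n • v + v) = n • ((a : Y) • v + v) + ((a : Y) • v + v) := by
      rw [smul_add, smul_add, ← mul_smul, ← mul_smul, hcomm a ha]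
      abel
    rw [h2, h1, h.two]
  · intro x hx
    exact hn.1 x (h.X'_le_E k hx)

/-- `C_Y(E) = 1` -/
theorem CYE [Finite Y] [Finite V] {y : Y} (hy : ∀ x ∈ E, y • x = x) : y = 1 := by
  have hcomm : ∀ a ∈ A, (a : Y) * y = y * a := by
    intro a ha
    apply mul_inv_eq_one.1
    apply h.N0 k
    have hE : ∀ x ∈ E, (a : Y)⁻¹ • x ∈ E := by
      intro x hx
      have h2 := h.loc.mem.VB a⁻¹ (inv_mem ha) x
      exact (AddSubgroup.add_mem_cancel_right E hx).1 h2
    refine ⟨fun x hx => ?_, fun v => ?_⟩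
    · rw [mul_inv_rev, mul_smul, mul_smul, mul_smul]
      have hxE : y⁻¹ • x = x := by rw [inv_smul_eq_iff, hy x hx]
      rw [hxE, hy _ (hE x hx), smul_inv_smul]
    · obtain ⟨w, rfl⟩ : ∃ w : V, v = (y * (a : Y)) • w := ⟨(y * (a : Y))⁻¹ • v, by rw [smul_inv_smul]⟩
      have e1 : ((a : Y) * y * (y * a)⁻¹) • (y * (a : Y)) • w = ((a : Y) * y) • w := by
        rw [← mul_smul]; congr 1; group
      rw [e1, mul_smul, mul_smul]
      have h1 := hy _ (h.loc.mem.VB a ha w)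
      change y • ((a : Y) • w + w) = (a : Y) • w + w at h1
      rw [smul_add] at h1
      have h2 : (a : Y) • y • w + y • (a : Y) • w = ((a : Y) • (y • w) + y • w) + ((a : Y) • w + w) := by
        have h3 : y • (a : Y) • w = (a : Y) • w + w + y • w := by
          rw [← h1, add_assoc, h.two, add_zero]
        rw [h3]
        abel
      rw [h2]
      exact E.add_mem (h.loc.mem.VB a ha _) (h.loc.mem.VB a ha _)
  apply h.D0 k
  · refine ⟨fun x hx => hy x (h.beta.XE hx), fun v => h.six k ?_⟩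
    apply h.loc.mem.CB
    intro a ha
    have h1 := hy _ (h.loc.mem.VB a ha v)
    change y • ((a : Y) • v + v) = (a : Y) • v + v at h1
    change (a : Y) • (y • v + v) = y • v + v
    apply h.eq_of_add
    have h2 : (a : Y) • (y • v + v) + (y • v + v) = y • ((a : Y) • v + v) + ((a : Y) • v + v) := by
      rw [smul_add, smul_add, ← mul_smul, ← mul_smul, hcomm a ha]
      abel
    rw [h2, h1, h.two]
  · intro x hx
    exact hy x (h.X'_le_E k hx)

/-- `C_T(X) = S` -/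
theorem CTX' [Finite Y] [Finite V] {y : Y} (hyT : y ∈ T) (hy : ∀ x ∈ fx V Q, y • x = x) :
    ∃ q ∈ Q, (q : Y) = y := by
  have hyN : y ∈ NX L V Q := mem_NX_of fun x hx => by rw [hy x hx]; exact hx
  obtain ⟨v, hv, hvE, hvX⟩ := h.exists_v k
  have h1 := (h.s3 k hyT hyN fun x hx => hy x hx.1).1 v hv
  obtain ⟨q, hq, h2⟩ := h.onto' k hvE hvX h1.2
  have h3 : (q : Y) • v = y • v := add_right_cancel h2
  refine ⟨q, hq, ?_⟩
  have h4 : (q : Y)⁻¹ * y = 1 := by
    apply h.CYE k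
    have hqT : (q : Y) ∈ T := h.QT hq
    have h5 : (q : Y)⁻¹ * y ∈ T := mul_mem (inv_mem hqT) hyT
    have hqN : (q : Y) ∈ NX L V Q := h.AN q
    have h6 : ∀ x ∈ fx V Q, ((q : Y)⁻¹ * y) • x = x := by
      intro x hx
      rw [mul_smul, hy x hx, inv_smul_eq_iff]
      exact (hx q hq).symm
    have h7 := (h.s3 k h5 (mul_mem (inv_mem hqN) hyN) fun x hx => h6 x hx.1).2 v hv (fun h8 => hvX h8.1) (by
      rw [mul_smul, ← h3, inv_smul_smul])
    intro x hx
    rw [h.supE' k, AddSubgroup.mem_sup] at hx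
    obtain ⟨x₁, hx₁, x₂, hx₂, rfl⟩ := hx
    rw [smul_add, h6 x₁ hx₁, h7 x₂ hx₂]
  exact inv_mul_eq_one.1 h4

/-- `C_T(A) = A` -/
theorem CTA' [Finite Y] [Finite V] {y : Y} (hyT : y ∈ T) (hyA : ∀ b ∈ A, y * (b : Y) = b * y) :
    ∃ b ∈ A, (b : Y) = y := by
  let N : Subgroup Y := (T : Subgroup Y) ⊓ centralizer (A.map L.subtype : Set Y)
  have hN : ∀ {n : Y}, n ∈ N ↔ n ∈ T ∧ ∀ b ∈ A, n * (b : Y) = b * n := by
    intro n
    constructor
    · rintro ⟨h1, h2⟩
      refine ⟨h1, fun b hb => ?_⟩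
      exact ((mem_centralizer_iff.1 h2) _ ⟨b, hb, rfl⟩).symm
    · rintro ⟨h1, h2⟩
      refine ⟨h1, mem_centralizer_iff.2 ?_⟩
      rintro _ ⟨b, hb, rfl⟩
      exact (h2 b hb).symm
  have hcom : ∀ {n : Y}, n ∈ N → ∀ a ∈ A, ∀ v : V, a • (n • v) + n • v = n • (a • v + v) := by
    intro n hn a ha v
    have h1 := (hN.1 hn).2 a ha
    rw [smul_add]
    congr 1
    change (a : Y) • (n • v) = n • ((a : Y) • v)
    rw [← mul_smul, ← mul_smul, h1]
  have hNF : ∀ {n : Y}, n ∈ N → ∀ f ∈ F, n • f ∈ F := by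
    intro n hn f hf
    apply h.loc.mem.CB
    intro a ha
    apply h.eq_of_add
    rw [hcom hn a ha, h.loc.mem.FB a ha f hf, h.two, smul_zero]
  obtain ⟨q₀, hq₀, hq₀1⟩ := h.exists_q k
  have hq₀A := h.QA' k hq₀
  have hEof : ∀ v : V, q₀ • v + v ∈ F → v ∈ E := by
    intro v hv
    by_contra h1
    exact hq₀1 (h.loc.mem.inj v h1 q₀ hq₀A hv)
  have hNE : ∀ {n : Y}, n ∈ N → ∀ e ∈ E, n • e ∈ E := by
    intro n hn e he
    apply hEof
    rw [hcom hn q₀ hq₀A]
    exact hNF hn _ (h.loc.mem.EB q₀ hq₀A e he)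
  have hyN : y ∈ N := hN.2 ⟨hyT, hyA⟩
  -- a fixed point on `V/E`
  obtain ⟨v, -, hvE, hvfix⟩ := exists_fixed_mod h.two (R := N) (T.2.to_le inf_le_left) ⊤ E
    (fun _ _ _ _ => trivial) (fun r hr w hw => hNE hr w hw) (by
      obtain ⟨w, hw⟩ := h.loc.mem.ne
      exact ⟨w, trivial, hw⟩)
  have hu := hvfix y hyN
  -- trivial on `E/F`
  have h1 : ∀ e ∈ E, y • e + e ∈ F := by
    intro e he
    obtain ⟨a, ha, hf⟩ := h.loc.mem.surj v hvE e he
    have h2 : y • (a • v + v) + (a • v + v) = a • (y • v + v) + (y • v + v) := by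
      rw [← hcom hyN a ha, smul_add]
      abel
    have h3 : y • (a • v + v) + (a • v + v) ∈ F := by
      rw [h2]; exact h.loc.mem.EB a ha _ hu
    have h4 : y • e + e = (y • (a • v + v) + (a • v + v)) + (y • (a • v + v + e) + (a • v + v + e)) := by
      rw [smul_add y (a • v + v) e]
      have : y • (a • v + v) + (a • v + v) + (y • (a • v + v) + y • e + (a • v + v + e)) =
        (y • (a • v + v) + y • (a • v + v)) + ((a • v + v) + (a • v + v)) + (y • e + e) := by abel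
      rw [this, h.two, h.two, zero_add, zero_add]
    rw [h4]
    exact F.add_mem h3 (F.add_mem (hNF hyN _ hf) hf)
  -- trivial on `F`
  have h2 : ∀ f ∈ F, y • f = f := by
    intro f hf
    obtain ⟨v₀, -, hv₀E, hv₀X⟩ := h.exists_v k
    obtain ⟨b, hb, rfl⟩ := h.onto' k hv₀E hv₀X hf
    have hbA := h.QA' k hb
    rw [← hcom hyN b hbA]
    have h3 := h.loc.mem.FB b hbA _ (h1 v₀ hv₀E)
    rw [smul_add] at h3
    have h4 : b • y • v₀ + y • v₀ = (b • y • v₀ + b • v₀) + (y • v₀ + b • v₀) := by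
      have : b • y • v₀ + b • v₀ + (y • v₀ + b • v₀) = b • y • v₀ + y • v₀ + (b • v₀ + b • v₀) := by abel
      rw [this, h.two, add_zero]
    rw [h4, h3]
    have : y • v₀ + v₀ + (y • v₀ + b • v₀) = (y • v₀ + y • v₀) + (b • v₀ + v₀) := by abel
    rw [this, h.two, zero_add]
  have hyX : y ∈ NX L V Q := by
    apply mem_NX_of
    intro x hx
    exact (AddSubgroup.add_mem_cancel_right _ hx).1 (h.six k (h1 x (h.beta.XE hx)))
  -- subtract an element of `A`
  obtain ⟨x, hx, hxF⟩ : ∃ x ∈ fx V Q, x ∉ F := by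
    obtain ⟨l, hl⟩ := exists_out h.loc h.beta
    refine ⟨l • z, h.Xmem h.loc.z_mem.1, fun h3 => ?_⟩
    exact h.loc.z_not (by
      have h4 := h.loc.mem_C_of_F hl (smul_mem_smul_as h.loc.z_mem) h3
      rw [h.C0, AddSubgroup.mem_bot, smul_eq_zero_iff_eq] at h4
      exact absurd h4 h.z_ne)
  obtain ⟨a, ha, c, hc, h3⟩ := h.beta.full x hx hxF (y • x + x) ⟨h.six k (h1 x (h.beta.XE hx)), h1 x (h.beta.XE hx)⟩
  rw [h.C0, AddSubgroup.mem_bot] at hc
  rw [hc, add_zero] at h3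
  have h4 : (a : Y) • x = y • x := add_right_cancel h3
  have h5 : (a : Y)⁻¹ * y ∈ T := mul_mem (inv_mem (h.AT ha)) hyT
  have h6 : (a : Y)⁻¹ * y ∈ NX L V Q := mul_mem (inv_mem (h.AN a)) hyX
  have h7 := (h.s2 h5 h6 (by
    intro f hf
    rw [mul_smul, h2 f hf.2, inv_smul_eq_iff]
    exact (h.loc.mem.FB a ha f hf.2).symm)).2 x hx hxF (by rw [mul_smul, ← h4, inv_smul_smul])
  obtain ⟨q, hq, h8⟩ := h.CTX' k h5 h7
  refine ⟨a * q, mul_mem ha (h.QA' k hq), ?_⟩
  rw [coe_mul, h8]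
  group

theorem CL' [Finite Y] [Finite V] {l : L} (hl : ∀ x ∈ fx V Q, l • x = x) : l ∈ Q := by
  obtain ⟨q, hq, hq1⟩ := h.exists_q k
  have h1 : (l : Y) ∈ Dx Y h.two (fx V Q : AddSubgroup V) := by
    refine ⟨hl, fun v => ?_⟩
    apply h.Qfix' k hq hq1
    apply h.eq_of_add
    have h2 : q • (l • v + v) + (l • v + v) = l • (q • v + v) + (q • v + v) := by
      rw [smul_add, smul_add, ← mul_smul, ← mul_smul, h.Qz' k hq l]
      abel
    have h3 := hl _ (h.QV' k hq v)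
    rw [h3, h.two] at h2
    exact h2
  obtain ⟨b, hb, h2⟩ := h.DD' k h1
  have : b = l := Subtype.ext h2
  rw [← this]
  exact hb.2

/-- **THEOREM B0 (1)-(7)** -/
theorem out [Finite Y] [Finite V] : Out T M L A Q L₁ R E F z t where
  hyp := h
  tk := k
  QA := h.QA' k
  cQ := h.cQ' k
  cA := by rw [h.cA2 k, h.ca k]
  cF := h.cF' k
  cX := h.cX' k
  cV := h.cV' k
  FX := h.six k
  supE := h.supE' k
  infF := by
    apply le_antisymm
    · rintro x ⟨hx, hx'⟩
      exact (h.inf_X' k hx hx').2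
    · intro x hx
      exact ⟨h.six k hx, h.X1_le_X' k ⟨h.six k hx, hx⟩⟩
  tF := h.tF' k
  tE := h.tE' k
  Qz := fun _ hq l => h.Qz' k hq l
  Qfix := fun _ hq hq1 _ hv => h.Qfix' k hq hq1 hv
  QV := fun _ hq v => h.QV' k hq v
  Qsurj := fun _ hq hq1 _ hx => h.Qsurj' k hq hq1 hx
  QtA := fun _ hq => by
    obtain ⟨b, hb, h1, -⟩ := h.QtA' k hq
    exact ⟨b, hb, h1⟩
  tA := fun _ hb => h.tA' k hb
  prod := fun _ hb => h.prod' k hb
  inf1 := fun _ hq _ hq' he => h.inf1' k hq hq' he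
  CAX' := fun _ hb hbX => h.CAX k hb hbX
  DD := fun y h1 h2 => by
    obtain ⟨q, hq, h3⟩ := h.DD' k (y := y) ⟨h1, h2⟩
    exact ⟨q, hq.2, h3⟩
  CL := fun _ hl => h.CL' k hl
  CTX := fun _ hy h1 => h.CTX' k hy h1
  CTA := fun _ hy h1 => h.CTA' k hy h1

end t

end Hyp

end Cfsg.Agent.Omega.NO1.B0

end

section


/-!
# THEOREM B0 (bb OMEGA 18835, helper970): `L = S × K`, `K ≅ SL₂(a)` (Gaschütz)
-/

set_option autoImplicit false
set_option linter.unusedSectionVars false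
set_option linter.style.haveILetI false

namespace Cfsg.Agent.Omega.NO1.B0

open Subgroup Cfsg.Agent.Omega.NO1.AB
open scoped Pointwise

universe u

variable {Y : Type u} [Group Y] {V : Type u} [AddCommGroup V] [DistribMulAction Y V]

namespace Out

variable {T : Sylow 2 Y} {M L : Subgroup Y} {A Q L₁ : Subgroup L} {R : Sylow 2 L} {E F : AddSubgroup V}
  {z : V} {t : Y} (o : Out T M L A Q L₁ R E F z t)
include o

/-- `R = A` -/
theorem R_eq [Finite Y] [Finite V] : (R : Subgroup L) = A := by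
  have h := o.hyp
  apply le_antisymm _ h.loc.AR
  intro r hr
  obtain ⟨K, i1, i2, i3, e, hc⟩ := h.exists_co
  have hrz : r • z = z := h.loc.zR r hr
  have hrT : (r : Y) ∈ T := h.RT r hr
  have hrN : (r : Y) ∈ NX L V Q := h.AN r
  obtain ⟨s, hs⟩ := hc.act r
  have hs1 : s.mulVec ![1, 0] = ![1, 0] := by
    have h1 := hs ⟨z, h.loc.z_mem.1⟩ ⟨z, h.loc.z_mem.1⟩ hrz.symm
    rw [hc.ez _ rfl] at h1
    exact h1.symm
  have h1 : ∀ x ∈ fx V Q ⊓ F, (r : Y) • x = x := by
    intro x hx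
    have h2 := hs ⟨x, hx.1⟩ ⟨r • x, h.Xmem hx.1⟩ rfl
    have h3 : e ⟨x, hx.1⟩ = e ⟨x, hx.1⟩ 0 • ![1, 0] := by
      rw [smul_vec, mul_one, mul_zero]
      have h4 := vec_eq (e ⟨x, hx.1⟩)
      rwa [(hc.memF ⟨x, hx.1⟩).1 hx.2] at h4
    rw [h3, Matrix.mulVec_smul, hs1, ← h3] at h2
    exact congrArg Subtype.val (e.injective h2)
  obtain ⟨x, hx, hxF⟩ : ∃ x ∈ fx V Q, x ∉ F := by
    obtain ⟨l, hl⟩ := exists_out h.loc h.beta
    refine ⟨l • z, h.Xmem h.loc.z_mem.1, fun h3 => ?_⟩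
    have h4 := h.loc.mem_C_of_F hl (smul_mem_smul_as h.loc.z_mem) h3
    rw [h.C0, AddSubgroup.mem_bot, smul_eq_zero_iff_eq] at h4
    exact h.z_ne h4
  have h2 := (h.s2 hrT hrN h1).1 x hx
  obtain ⟨a, ha, c, hc', h3⟩ := h.beta.full x hx hxF _ h2
  rw [h.C0, AddSubgroup.mem_bot] at hc'
  rw [hc', add_zero] at h3
  have h4 : (a : Y) • x = (r : Y) • x := add_right_cancel h3
  have h7 := (h.s2 (p := (a : Y)⁻¹ * r) (mul_mem (inv_mem (h.AT ha)) hrT) (mul_mem (inv_mem (h.AN a)) hrN) (by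
    intro f hf
    rw [mul_smul, h1 f hf, inv_smul_eq_iff]
    exact (h.loc.mem.FB a ha f hf.2).symm)).2 x hx hxF (by rw [mul_smul, ← h4, inv_smul_smul])
  have h8 : a⁻¹ * r ∈ Q := o.CL _ h7
  have h9 := mul_mem ha (o.QA h8)
  rwa [mul_inv_cancel_left] at h9

/-- `L = S × K` -/
theorem exists_compl [Finite Y] [Finite V] : ∃ K : Subgroup L, K ⊓ Q = ⊥ ∧ K ⊔ Q = ⊤ ∧ K.Normal := by
  have : Fact (Nat.Prime 2) := ⟨Nat.prime_two⟩
  have h := o.hyp
  haveI := h.loc.Qn
  haveI : IsMulCommutative Q := ⟨⟨fun a b => Subtype.ext (o.Qz a a.2 b)⟩⟩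
  have hb : Function.Bijective fun k : Q => k ^ A.index := by
    have hcop : (Nat.card Q).Coprime A.index := by
      obtain ⟨n, hn⟩ := IsPGroup.iff_card.1 h.loc.Q2
      rw [hn]
      apply Nat.Coprime.pow_left
      rw [Nat.prime_two.coprime_iff_not_dvd, ← o.R_eq]
      exact R.not_dvd_index
    exact hcop.pow_left_bijective
  -- the complement `S^t` in `A`
  let B : Subgroup L :=
    { carrier := {b | ∃ q ∈ Q, (b : Y) = t * q * t⁻¹}
      mul_mem' := by
        rintro a b ⟨q, hq, h1⟩ ⟨q', hq', h2⟩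
        refine ⟨q * q', mul_mem hq hq', ?_⟩
        rw [coe_mul, coe_mul, h1, h2]; group
      one_mem' := ⟨1, one_mem _, by simp⟩
      inv_mem' := by
        rintro a ⟨q, hq, h1⟩
        refine ⟨q⁻¹, inv_mem hq, ?_⟩
        rw [coe_inv, coe_inv, h1]; group }
  have hB1 : B ⊓ Q = ⊥ := by
    rw [eq_bot_iff]
    rintro b ⟨⟨q, hq, h1⟩, hb⟩
    rw [mem_bot]
    exact o.inf1 b hb q hq h1
  have hB2 : Q ⊔ B = A := by
    apply le_antisymm
    · refine sup_le o.QA ?_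
      rintro b ⟨q, hq, h1⟩
      obtain ⟨c, hc, h2⟩ := o.QtA q hq
      have : b = c := Subtype.ext (h1.trans h2.symm)
      rwa [this]
    · intro b hb
      obtain ⟨q, hq, q', hq', h1⟩ := o.prod b hb
      obtain ⟨c, hc, h2⟩ := o.QtA q' hq'
      have h3 : b = q * c := Subtype.ext (by rw [coe_mul, h2, h1])
      rw [h3]
      exact mul_mem (mem_sup_left hq) (mem_sup_right ⟨q', hq', h2⟩)
  obtain ⟨K, hK⟩ := Cfsg.Agent.Solvable.Gaschutz.exists_complement Q A hb B hB1 hB2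
  have hsup : K ⊔ Q = ⊤ := by rw [sup_comm]; exact hK.sup_eq_top
  refine ⟨K, by rw [inf_comm]; exact hK.disjoint.eq_bot, hsup, ?_⟩
  rw [← normalizer_eq_top_iff, eq_top_iff, ← hsup]
  refine sup_le le_normalizer ?_
  intro q hq
  rw [mem_normalizer_iff]
  intro x
  rw [o.Qz q hq x, mul_inv_cancel_right]

/-- **`K ≅ SL₂(a)`** -/
theorem exists_K [Finite Y] [Finite V] :
    ∃ (𝕂 : Type) (_ : Field 𝕂) (_ : Fintype 𝕂) (_ : CharP 𝕂 2) (e : ↥(fx V Q) ≃+ (Fin 2 → 𝕂)) (K : Subgroup L)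
      (φ : K ≃* Matrix.SpecialLinearGroup (Fin 2) 𝕂), OutK o K 𝕂 e φ ∧ ∀ v : ↥(fx V Q), (v : V) = z → e v = ![1, 0] := by
  have h := o.hyp
  obtain ⟨𝕂, i1, i2, i3, e, h1, h2, h3, h4, h5⟩ := exists_coord' h.loc h.beta h.C0
  obtain ⟨K, hK1, hK2, hK3⟩ := o.exists_compl
  choose f hf using h3
  have huniq : ∀ s s' : Matrix.SpecialLinearGroup (Fin 2) 𝕂, (∀ v : ↥(fx V Q), s.1.mulVec (e v) = s'.1.mulVec (e v)) →
      s = s' := by
    intro s s' hss
    apply Subtype.ext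
    apply Matrix.mulVec_injective
    funext w
    have := hss (e.symm w)
    rwa [e.apply_symm_apply] at this
  let ψ : L →* Matrix.SpecialLinearGroup (Fin 2) 𝕂 := MonoidHom.mk' f (by
    intro a b
    apply huniq
    intro v
    rw [← hf, Matrix.SpecialLinearGroup.coe_mul, ← Matrix.mulVec_mulVec, ← hf b v, ← hf a]
    congr 1
    exact Subtype.ext (mul_smul a b (v : V)))
  have hker : ∀ l, ψ l = 1 ↔ l ∈ Q := by
    intro l
    constructor
    · intro hl
      apply o.CL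
      intro x hx
      have h6 := hf l ⟨x, hx⟩
      have h7 : f l = 1 := hl
      rw [h7, Matrix.SpecialLinearGroup.coe_one, Matrix.one_mulVec] at h6
      exact congrArg Subtype.val (e.injective h6)
    · intro hl
      apply huniq
      intro v
      change (f l).1.mulVec (e v) = _
      rw [← hf, Matrix.SpecialLinearGroup.coe_one, Matrix.one_mulVec]
      congr 1
      exact Subtype.ext (v.2 l hl)
  have hsurj : ∀ s, ∃ l, ψ l = s := by
    intro s
    obtain ⟨l, hl⟩ := h4 s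
    refine ⟨l, huniq _ _ fun v => ?_⟩
    rw [← hl v]
    exact (hf l v).symm
  let φ₀ : K →* Matrix.SpecialLinearGroup (Fin 2) 𝕂 := ψ.comp K.subtype
  have hφ₀ : Function.Bijective φ₀ := by
    constructor
    · rw [injective_iff_map_eq_one]
      intro k hk
      have h6 : (k : L) ∈ K ⊓ Q := ⟨k.2, (hker _).1 hk⟩
      rw [hK1, mem_bot] at h6
      exact Subtype.ext h6
    · intro s
      obtain ⟨l, hl⟩ := hsurj s
      have h6 : l ∈ K ⊔ Q := by rw [hK2]; exact mem_top l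
      haveI := h.loc.Qn
      obtain ⟨k, hk, q, hq, rfl⟩ := mem_sup_of_normal_right.1 h6
      refine ⟨⟨k, hk⟩, ?_⟩
      rw [map_mul, (hker q).2 hq, mul_one] at hl
      exact hl
  refine ⟨𝕂, i1, i2, i3, e, K, MulEquiv.ofBijective φ₀ hφ₀, ?_, ?_⟩
  · exact
      { inf := hK1
        sup := hK2
        normal := hK3
        card := by
          rw [h1, inf_eq_right.2 o.FX, o.cF]
        act := by
          intro k v w hw
          change _ = (f k).1.mulVec (e v)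
          rw [← hf]
          congr 1
          exact Subtype.ext hw
        memF := h2 }
  · intro v hv
    rw [← h5]
    congr 1
    exact Subtype.ext hv

end Out

end Cfsg.Agent.Omega.NO1.B0

end

section


/-!
# FIN-BETA ⟹ the hypotheses of THEOREM B0 (bb OMEGA 20935 (C2), 21423 (D4))

`hyp0_of` : the data of `Fin (BETA)` give `Hyp0`; `exists_out_of` : ... and `Out`.
-/

set_option autoImplicit false
set_option linter.unusedSectionVars false
set_option linter.style.haveILetI false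

namespace Cfsg.Agent.Omega.NO1.B0

open Subgroup Cfsg.Agent.Omega.NO1.AB
open scoped Pointwise

universe u

variable {Y : Type u} [Group Y] {V : Type u} [AddCommGroup V] [DistribMulAction Y V]

/-- `Fin (BETA)` ⟹ `Hyp0` -/
theorem hyp0_of [Finite Y] [Finite V] {T : Sylow 2 Y} {M L A : Subgroup Y} {Q : Subgroup L} {R : Sylow 2 L}
    (hLM : ¬ L ≤ M) (hRT : (R : Subgroup L).map L.subtype ≤ (T : Subgroup Y))
    (h0 : Loc0 (A.subgroupOf L) (Ee V A) (fx V A) Q (M.subgroupOf L) R) (hC : fx V L = ⊥)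
    (hne : A.subgroupOf L ⊓ Q ≠ ⊥) (faith : ∀ y : Y, (∀ v : V, y • v = v) → y = 1)
    (irr : ∀ W : AddSubgroup V, (∀ y : Y, ∀ w ∈ W, y • w ∈ W) → W ≤ Ee V A → W = ⊥)
    (off : ∀ B : Subgroup Y, (∀ b ∈ B, b * b = 1) → B ≠ ⊥ → Nat.card B * Nat.card ↥(fx V B) < Nat.card V)
    (TM : (T : Subgroup Y) ≤ M) (Mne : M ≠ ⊤) (max : ∀ K : Subgroup Y, (T : Subgroup Y) ≤ K → K ≠ ⊤ → K ≤ M) :
    ∃ z, Hyp0 T M L (A.subgroupOf L) Q (M.subgroupOf L) R (Ee V A) (fx V A) z := by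
  -- a fixed vector of `T`
  obtain ⟨z, -, hz0, hzT⟩ := exists_fixed_mod h0.two (R := (T : Subgroup Y)) T.2 ⊤ ⊥ (fun _ _ _ _ => trivial)
    (fun r _ w hw => by
      rw [AddSubgroup.mem_bot] at hw ⊢
      rw [hw, smul_zero]) (by
      obtain ⟨v, hv⟩ := h0.mem.ne
      refine ⟨v, trivial, fun h1 => hv ?_⟩
      rw [AddSubgroup.mem_bot] at h1
      rw [h1]; exact AddSubgroup.zero_mem _)
  rw [AddSubgroup.mem_bot] at hz0
  have hzT' : ∀ r ∈ (T : Subgroup Y), r • z = z := by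
    intro r hr
    have h1 := hzT r hr
    rw [AddSubgroup.mem_bot, ← neg_eq_iff_add_eq_zero,
      neg_eq_of_add_eq_zero_left (h0.two (r • z))] at h1
    exact h1
  have hC' : fx V (⊤ : Subgroup L) = ⊥ := by
    rw [← hC]
    ext v
    constructor
    · intro h l hl
      exact h ⟨l, hl⟩ (mem_top _)
    · intro h l _
      exact h l l.2
  have hloc : Loc (A.subgroupOf L) (Ee V A) (fx V A) Q (M.subgroupOf L) R z :=
    { h0 with
      zR := fun r hr => hzT' _ (hRT ⟨r, hr, rfl⟩)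
      zL := by
        by_contra hc
        push Not at hc
        have h1 : z ∈ fx V (⊤ : Subgroup L) := fun l _ => hc l
        rw [hC', AddSubgroup.mem_bot] at h1
        exact hz0 h1 }
  refine ⟨z, ?_⟩
  exact
    { loc := hloc
      beta := hloc.beta (by
        intro g _ x hx
        by_contra h1
        apply hne
        rw [eq_bot_iff]
        intro b hb
        rw [mem_bot]
        apply h0.mem.inj _ h1 b hb.1
        have h2 : g • x ∈ fx V Q := hloc.smul_X g hx.1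
        rw [h2 b hb.2, h0.two]
        exact AddSubgroup.zero_mem _)
      C0 := hC'
      faith := faith
      irr := irr
      off := off
      TM := TM
      M_ne := Mne
      uniqM := max
      L₁M := fun l hl => mem_subgroupOf.1 hl
      LM := hLM
      RT := fun r hr => hRT ⟨r, hr, rfl⟩
      zT := hzT' }

/-- `Fin (BETA)` ⟹ all conclusions of THEOREM B0 (1)-(7) -/
theorem exists_out_of [Finite Y] [Finite V] {T : Sylow 2 Y} {M L A : Subgroup Y} {Q : Subgroup L} {R : Sylow 2 L}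
    (hLM : ¬ L ≤ M) (hRT : (R : Subgroup L).map L.subtype ≤ (T : Subgroup Y))
    (h0 : Loc0 (A.subgroupOf L) (Ee V A) (fx V A) Q (M.subgroupOf L) R) (hC : fx V L = ⊥)
    (hne : A.subgroupOf L ⊓ Q ≠ ⊥) (faith : ∀ y : Y, (∀ v : V, y • v = v) → y = 1)
    (irr : ∀ W : AddSubgroup V, (∀ y : Y, ∀ w ∈ W, y • w ∈ W) → W ≤ Ee V A → W = ⊥)
    (off : ∀ B : Subgroup Y, (∀ b ∈ B, b * b = 1) → B ≠ ⊥ → Nat.card B * Nat.card ↥(fx V B) < Nat.card V)
    (TM : (T : Subgroup Y) ≤ M) (Mne : M ≠ ⊤) (max : ∀ K : Subgroup Y, (T : Subgroup Y) ≤ K → K ≠ ⊤ → K ≤ M) :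
    ∃ (T' : Sylow 2 Y) (z : V) (t : Y), Out T' M L (A.subgroupOf L) Q (M.subgroupOf L) R (Ee V A) (fx V A) z t := by
  obtain ⟨z, hz⟩ := hyp0_of hLM hRT h0 hC hne faith irr off TM Mne max
  obtain ⟨T', z', h⟩ := hz.exists_hyp
  obtain ⟨t, k⟩ := h.exists_t
  exact ⟨T', z', t, h.out k⟩

end Cfsg.Agent.Omega.NO1.B0

end

section


/-!
# THEOREM B0 (bb OMEGA 18835, helper970), (8): coordinates (shortcut, helper321)

`ê : V → 𝕂²` extends the coordinates on `X`; `Q` acts through `𝕂`-scalars `V/X ≅ X`, `Q^t` through `𝕂`-scalars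
`V/X' ≅ X'`; the two `𝕂`-structures agree on `F` (after a field automorphism).
-/

set_option autoImplicit false
set_option linter.unusedSectionVars false
set_option linter.style.haveILetI false

namespace Cfsg.Agent.Omega.NO1.B0

open Subgroup Cfsg.Agent.Omega.NO1.AB
open scoped Pointwise

universe u

/-- Schur: an additive map commuting with `SL₂(k)` is a scalar -/
theorem schur {k : Type*} [Field k] (f : (Fin 2 → k) →+ (Fin 2 → k))
    (hf : ∀ (s : Matrix.SpecialLinearGroup (Fin 2) k) v, f (s.1.mulVec v) = s.1.mulVec (f v)) :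
    ∃ c : k, ∀ v, f v = c • v := by
  -- `f (1,0) = (c,0)`
  have h1 : f ![1, 0] 1 = 0 := by
    have h2 := hf ⟨!![1, 1; 0, 1], by simp⟩ ![1, 0]
    have h3 : (!![1, 1; 0, 1] : Matrix (Fin 2) (Fin 2) k).mulVec ![1, 0] = ![1, 0] := by
      ext i; fin_cases i <;> simp [Matrix.mulVec, dotProduct, Fin.sum_univ_two]
    change f ((!![1, 1; 0, 1] : Matrix (Fin 2) (Fin 2) k).mulVec ![1, 0]) = _ at h2
    rw [h3] at h2
    have h4 := congrFun h2 0
    simp [Matrix.mulVec, dotProduct, Fin.sum_univ_two] at h4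
    exact h4
  set c := f ![1, 0] 0 with hc
  have h2 : f ![1, 0] = ![c, 0] := by
    ext i; fin_cases i
    · rfl
    · exact h1
  have h3 : ∀ x, f ![x, 0] = ![c * x, 0] := by
    intro x
    by_cases hx : x = 0
    · have : (![x, 0] : Fin 2 → k) = 0 := by
        ext i; fin_cases i <;> simp [hx]
      rw [this, map_zero, hx, mul_zero]
      ext i; fin_cases i <;> rfl
    · have h4 := hf ⟨!![x, 0; 0, x⁻¹], by rw [Matrix.det_fin_two_of]; field_simp; ring⟩ ![1, 0]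
      have h5 : (!![x, 0; 0, x⁻¹] : Matrix (Fin 2) (Fin 2) k).mulVec ![1, 0] = ![x, 0] := by
        ext i; fin_cases i <;> simp [Matrix.mulVec, dotProduct, Fin.sum_univ_two]
      have h6 : (!![x, 0; 0, x⁻¹] : Matrix (Fin 2) (Fin 2) k).mulVec ![c, 0] = ![c * x, 0] := by
        ext i; fin_cases i <;> simp [Matrix.mulVec, dotProduct, Fin.sum_univ_two, mul_comm]
      change f ((!![x, 0; 0, x⁻¹] : Matrix (Fin 2) (Fin 2) k).mulVec ![1, 0]) =
        (!![x, 0; 0, x⁻¹] : Matrix (Fin 2) (Fin 2) k).mulVec (f ![1, 0]) at h4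
      rw [h5, h2, h6] at h4
      exact h4
  have h7 : ∀ y, f ![0, y] = ![0, c * y] := by
    intro y
    have h4 := hf ⟨!![0, -1; 1, 0], by rw [Matrix.det_fin_two_of]; ring⟩ ![y, 0]
    have h5 : (!![0, -1; 1, 0] : Matrix (Fin 2) (Fin 2) k).mulVec ![y, 0] = ![0, y] := by
      ext i; fin_cases i <;> simp [Matrix.mulVec, dotProduct, Fin.sum_univ_two]
    have h6 : (!![0, -1; 1, 0] : Matrix (Fin 2) (Fin 2) k).mulVec ![c * y, 0] = ![0, c * y] := by
      ext i; fin_cases i <;> simp [Matrix.mulVec, dotProduct, Fin.sum_univ_two]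
    change f ((!![0, -1; 1, 0] : Matrix (Fin 2) (Fin 2) k).mulVec ![y, 0]) =
      (!![0, -1; 1, 0] : Matrix (Fin 2) (Fin 2) k).mulVec (f ![y, 0]) at h4
    rw [h5, h3, h6] at h4
    exact h4
  refine ⟨c, fun v => ?_⟩
  have h8 : v = ![v 0, 0] + ![0, v 1] := by
    ext i; fin_cases i <;> simp
  rw [h8, map_add, h3, h7, smul_add]
  ext i; fin_cases i <;> simp

variable {Y : Type u} [Group Y] {V : Type u} [AddCommGroup V] [DistribMulAction Y V]

/-- an additive map extends -/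
theorem exists_ext (h2 : ∀ v : V, v + v = 0) {X : AddSubgroup V} {W : Type*} [AddCommGroup W]
    (hW : ∀ w : W, w + w = 0) (e : X →+ W) : ∃ f : V →+ W, ∀ x : X, f x = e x := by
  letI : Module (ZMod 2) V := AddCommGroup.zmodModule (n := 2) fun v => by rw [two_nsmul]; exact h2 v
  letI : Module (ZMod 2) W := AddCommGroup.zmodModule (n := 2) fun v => by rw [two_nsmul]; exact hW v
  let X' : Submodule (ZMod 2) V := AddSubgroup.toZModSubmodule 2 X
  let e' : X' →ₗ[ZMod 2] W := AddMonoidHom.toZModLinearMap 2 (e : X' →+ W)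
  obtain ⟨g, hg⟩ := LinearMap.exists_extend e'
  refine ⟨g.toAddMonoidHom, fun x => ?_⟩
  exact congrArg (fun f : X' →ₗ[ZMod 2] W => f x) hg

/-- the coordinates on `X`, extended to `V` -/
structure Crd {L : Subgroup Y} (Q : Subgroup L) (F : AddSubgroup V) (K : Subgroup L) (k : Type) [Field k]
    (g : V →+ (Fin 2 → k)) : Prop where
  inj : ∀ x ∈ fx V Q, g x = 0 → x = 0
  surj : ∀ w, ∃ x ∈ fx V Q, g x = w
  memF : ∀ x ∈ fx V Q, (x ∈ F ↔ g x 1 = 0)
  act : ∀ l : L, ∃ s : Matrix.SpecialLinearGroup (Fin 2) k, ∀ x ∈ fx V Q, g (l • x) = s.1.mulVec (g x)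
  act' : ∀ s : Matrix.SpecialLinearGroup (Fin 2) k, ∃ l ∈ K, ∀ x ∈ fx V Q, g (l • x) = s.1.mulVec (g x)

namespace Out

variable {T : Sylow 2 Y} {M L : Subgroup Y} {A Q L₁ : Subgroup L} {R : Sylow 2 L} {E F : AddSubgroup V}
  {z : V} {t : Y} (o : Out T M L A Q L₁ R E F z t)
include o

theorem two (v : V) : v + v = 0 := o.hyp.two v

theorem exists_crd [Finite Y] [Finite V] {K : Subgroup L} {k : Type} [Field k] [CharP k 2]
    {e : ↥(fx V Q) ≃+ (Fin 2 → k)} {φ : K ≃* Matrix.SpecialLinearGroup (Fin 2) k} (ok : OutK o K k e φ) :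
    ∃ g : V →+ (Fin 2 → k), Crd Q F K k g ∧ ∀ x : ↥(fx V Q), g x = e x := by
  obtain ⟨g, hg⟩ := exists_ext o.two (fun w => by
    ext i
    exact CharTwo.add_self_eq_zero _) e.toAddMonoidHom
  have hg' : ∀ x : ↥(fx V Q), g x = e x := hg
  have hK : ∀ (κ : K) (x : V), x ∈ fx V Q → g ((κ : L) • x) = (φ κ).1.mulVec (g x) := by
    intro κ x hx
    have h1 := ok.act κ ⟨x, hx⟩ ⟨(κ : L) • x, o.hyp.Xmem hx⟩ rfl
    rw [← hg', ← hg'] at h1
    exact h1
  refine ⟨g, ?_, hg'⟩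
  exact
    { inj := by
        intro x hx h1
        have h2 := hg' ⟨x, hx⟩
        change g x = _ at h2
        rw [h1, eq_comm, map_eq_zero_iff e e.injective] at h2
        exact congrArg Subtype.val h2
      surj := by
        intro w
        refine ⟨e.symm w, (e.symm w).2, ?_⟩
        rw [hg', e.apply_symm_apply]
      memF := by
        intro x hx
        rw [show g x = e ⟨x, hx⟩ from hg' ⟨x, hx⟩]
        exact ok.memF ⟨x, hx⟩
      act := by
        intro l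
        haveI := o.hyp.loc.Qn
        have h1 : l ∈ K ⊔ Q := by rw [ok.sup]; exact mem_top l
        obtain ⟨κ, hκ, q, hq, rfl⟩ := mem_sup_of_normal_right.1 h1
        refine ⟨φ ⟨κ, hκ⟩, fun x hx => ?_⟩
        rw [mul_smul, hx q hq]
        exact hK ⟨κ, hκ⟩ x hx
      act' := by
        intro s
        refine ⟨(φ.symm s : K), (φ.symm s).2, fun x hx => ?_⟩
        rw [hK _ x hx, φ.apply_symm_apply] }

theorem act_eq_one {y : Y} (hy : ∀ v : V, y • v + v = 0) : y = 1 :=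
  o.hyp.faith y fun v => o.hyp.eq_of_add (hy v)

/-- `Q` acts by `𝕂`-scalars `V/X ≅ X` -/
theorem exists_c [Finite Y] [Finite V] {K : Subgroup L} {k : Type} [Field k] [Finite k]
    {g : V →+ (Fin 2 → k)} (hg : Crd Q F K k g) (hcard : Nat.card k = E.index) {q₀ : L} (hq₀ : q₀ ∈ Q)
    (hq₀1 : q₀ ≠ 1) :
    ∃ c : L → k, (∀ q ∈ Q, ∀ v : V, g (q • v + v) = c q • g (q₀ • v + v)) ∧
      (∀ d : k, ∃ q ∈ Q, c q = d) ∧ (∀ q ∈ Q, q ≠ 1 → c q ≠ 0) := by
  classical
  let N : V →+ (Fin 2 → k) := g.comp (HE.dl (V := V) q₀)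
  have hNs : Function.Surjective N := by
    intro w
    obtain ⟨x, hx, hxw⟩ := hg.surj w
    obtain ⟨v, hv⟩ := o.Qsurj q₀ hq₀ hq₀1 x hx
    refine ⟨v, ?_⟩
    change g (q₀ • v + v) = w
    rw [hv, hxw]
  have hNk : ∀ v, N v = 0 → v ∈ fx V Q := by
    intro v hv
    apply o.Qfix q₀ hq₀ hq₀1
    exact o.hyp.eq_of_add (hg.inj _ (o.QV q₀ hq₀ v) hv)
  have key : ∀ q ∈ Q, ∃ c : k, ∀ v : V, g (q • v + v) = c • g (q₀ • v + v) := by
    intro q hq
    let Mq : V →+ (Fin 2 → k) := g.comp (HE.dl (V := V) q)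
    have hker : N.ker ≤ Mq.ker := by
      intro v hv
      have h1 := hNk v hv
      change g (q • v + v) = 0
      rw [h1 q hq, o.two, map_zero]
    let f : (Fin 2 → k) →+ (Fin 2 → k) :=
      N.liftOfRightInverse (Function.surjInv hNs) (Function.rightInverse_surjInv hNs) ⟨Mq, hker⟩
    have hf : ∀ v, f (N v) = Mq v := fun v => AddMonoidHom.liftOfRightInverse_comp_apply _ _ _ _ v
    obtain ⟨c, hc⟩ := schur f (by
      intro s w
      obtain ⟨v, rfl⟩ := hNs w
      obtain ⟨l, -, hl⟩ := hg.act' s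
      have h1 : ∀ q ∈ Q, g (q • (l • v) + l • v) = s.1.mulVec (g (q • v + v)) := by
        intro q hq
        rw [← hl _ (o.QV q hq v), smul_add, ← mul_smul, ← mul_smul, o.Qz q hq l]
      have h2 : s.1.mulVec (N v) = N (l • v) := (h1 q₀ hq₀).symm
      rw [h2, hf, hf]
      exact h1 q hq)
    refine ⟨c, fun v => ?_⟩
    have := hc (N v)
    rw [hf] at this
    exact this
  choose! c hc using key
  have hcn : ∀ q ∈ Q, q ≠ 1 → c q ≠ 0 := by
    intro q hq hq1 h0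
    apply hq1
    have h1 : (q : Y) = 1 := by
      apply o.act_eq_one
      intro v
      have h2 := hc q hq v
      rw [h0, zero_smul] at h2
      exact hg.inj _ (o.QV q hq v) h2
    exact Subtype.ext h1
  refine ⟨c, hc, ?_, hcn⟩
  -- bijection
  let f : Q → k := fun q => c q
  have hN0 : ∃ v : V, g (q₀ • v + v) ≠ 0 := by
    obtain ⟨v, hv⟩ := hNs ![1, 0]
    refine ⟨v, fun h1 => ?_⟩
    have h2 : (![1, 0] : Fin 2 → k) = 0 := hv.symm.trans h1
    have := congrFun h2 0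
    simp at this
  have hf : Function.Injective f := by
    intro q q' hqq
    by_contra hne
    have h1 : (q : L)⁻¹ * q' ∈ Q := mul_mem (inv_mem q.2) q'.2
    have h2 : (q : L)⁻¹ * q' ≠ 1 := by
      rw [Ne, inv_mul_eq_one]
      exact fun h3 => hne (Subtype.ext h3)
    apply h2
    have h3 : (((q : L)⁻¹ * q' : L) : Y) = 1 := by
      apply o.hyp.faith
      intro v
      have h4 := hc q q.2 v
      have h5 := hc q' q'.2 v
      change c q = c q' at hqq
      rw [hqq, ← h5] at h4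
      have h6 : (q : L) • v + v = (q' : L) • v + v := by
        have h7 : g ((q : L) • v + v + ((q' : L) • v + v)) = 0 := by
          rw [map_add, h4, ← map_add, o.two, map_zero]
        exact o.hyp.eq_of_add (hg.inj _ ((fx V Q).add_mem (o.QV _ q.2 v) (o.QV _ q'.2 v)) h7)
      have h7 : (q : L) • v = (q' : L) • v := add_right_cancel h6
      change ((q : L)⁻¹ * q') • v = v
      rw [mul_smul, ← h7, inv_smul_smul]
    exact Subtype.ext h3
  have hs := ((Nat.bijective_iff_injective_and_card f).2 ⟨hf, by rw [o.cQ, hcard]⟩).2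
  intro d
  obtain ⟨q, hq⟩ := hs d
  exact ⟨q, q.2, hq⟩

/-- `A` acts on `X` by transvections -/
theorem exists_κ [Finite Y] [Finite V] {K : Subgroup L} {k : Type} [Field k] [CharP k 2]
    {g : V →+ (Fin 2 → k)} (hg : Crd Q F K k g) :
    ∃ κ : L → k, ∀ b ∈ A, ∀ x ∈ fx V Q, g (b • x + x) = ![κ b * g x 1, 0] := by
  have key : ∀ b ∈ A, ∃ κ : k, ∀ x ∈ fx V Q, g (b • x + x) = ![κ * g x 1, 0] := by
    intro b hb
    obtain ⟨s, hs⟩ := hg.act b
    obtain ⟨f, hf, hf1⟩ := hg.surj ![1, 0]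
    have hfF : f ∈ F := (hg.memF f hf).2 (by rw [hf1]; rfl)
    have h1 := hs f hf
    rw [o.hyp.loc.mem.FB b hb f hfF, hf1] at h1
    have h2 := congrFun h1 0
    have h3 := congrFun h1 1
    simp [Matrix.mulVec, dotProduct, Fin.sum_univ_two] at h2 h3
    have h4 := s.2
    rw [Matrix.det_fin_two, ← h2, ← h3, one_mul, mul_zero, sub_zero] at h4
    refine ⟨s.1 0 1, fun x hx => ?_⟩
    rw [map_add, hs x hx]
    ext i
    fin_cases i
    · simp [← h2]
      have h5 : g x 0 + g x 0 = 0 := CharTwo.add_self_eq_zero _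
      have : g x 0 + s.1 0 1 * g x 1 + g x 0 = (g x 0 + g x 0) + s.1 0 1 * g x 1 := by ring
      rw [this, h5, zero_add]
    · simp [← h3, h4]
      exact CharTwo.add_self_eq_zero _
  choose! κ hκ using key
  exact ⟨κ, hκ⟩

end Out

/-- the abstract computation: `ρ` is semilinear -/
theorem rho_mul {k : Type*} [Field k] {ι W : Type*} (ρ : k → k) (c κ κ' : ι → k)
    (ν ν' : W → k) (hc : ∀ d, ∃ i, c i = d) (hκ : ∃ i, κ i = 1) (hν : ∀ d, ∃ w, ν w = d)
    (h : ∀ i j w, ρ (κ j * c i * ν w) = κ' i * c j * ν' w) (x y : k) : ρ (x * y) * ρ 1 = ρ x * ρ y := by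
  obtain ⟨j, hj⟩ := hκ
  obtain ⟨i, hi⟩ := hc x
  obtain ⟨i₁, hi₁⟩ := hc 1
  obtain ⟨w, hw⟩ := hν y
  obtain ⟨w₁, hw₁⟩ := hν 1
  have h1 := h i j w
  have h2 := h i₁ j w₁
  have h3 := h i j w₁
  have h4 := h i₁ j w
  rw [hj, hi, hw, one_mul] at h1
  rw [hj, hi₁, hw₁, one_mul, mul_one] at h2
  rw [hj, hi, hw₁, one_mul, mul_one] at h3
  rw [hj, hi₁, hw, one_mul, one_mul] at h4
  rw [h1, h2, h3, h4]
  ring

/-- the coordinates: `S = Q`, `S' = t Q t⁻¹` -/
structure Cd {L : Subgroup Y} (Q : Subgroup L) (E F : AddSubgroup V) (t : Y) (k : Type) [Field k]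
    (g g' N N' : V →+ (Fin 2 → k)) (c c' : Y → k) (κ : k) : Prop where
  injX : ∀ x ∈ fx V Q, g x = 0 → x = 0
  injX' : ∀ x ∈ t • (fx V Q : AddSubgroup V), g' x = 0 → x = 0
  surjX : ∀ w, ∃ x ∈ fx V Q, g x = w
  memF : ∀ x ∈ fx V Q, (x ∈ F ↔ g x 1 = 0)
  memF' : ∀ x ∈ t • (fx V Q : AddSubgroup V), (x ∈ F ↔ g' x 1 = 0)
  gF : ∀ f ∈ F, g' f = g f
  memE : ∀ v, v ∈ E ↔ N v 1 = 0
  surjN : ∀ w, ∃ v, N v = w
  cN : ∀ q ∈ Q, ∀ v : V, g ((q : Y) • v + v) = c q • N v
  cN' : ∀ q ∈ Q, ∀ v : V, g' ((t * (q : Y) * t⁻¹) • v + v) = c' (t * (q : Y) * t⁻¹) • N' v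
  c_surj : ∀ d : k, ∃ q ∈ Q, c (q : Y) = d
  c'_surj : ∀ d : k, ∃ q ∈ Q, c' (t * (q : Y) * t⁻¹) = d
  c_ne : ∀ q ∈ Q, (q : Y) ≠ 1 → c (q : Y) ≠ 0
  c'_ne : ∀ q ∈ Q, (q : Y) ≠ 1 → c' (t * (q : Y) * t⁻¹) ≠ 0
  κ_ne : κ ≠ 0
  κX : ∀ q ∈ Q, ∀ x ∈ fx V Q, g ((t * (q : Y) * t⁻¹) • x + x) = ![κ * c' (t * (q : Y) * t⁻¹) * g x 1, 0]

namespace Out

variable {T : Sylow 2 Y} {M L : Subgroup Y} {A Q L₁ : Subgroup L} {R : Sylow 2 L} {E F : AddSubgroup V}
  {z : V} {t : Y} (o : Out T M L A Q L₁ R E F z t)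
include o

/-- `t⁻¹ A t ≤ A` -/
theorem tA_inv [Finite Y] {b : L} (hb : b ∈ A) : ∃ c ∈ A, (c : Y) = t⁻¹ * b * t := by
  have h1 : ∀ b ∈ A.map L.subtype, t * b * t⁻¹ ∈ A.map L.subtype := by
    rintro _ ⟨b, hb, rfl⟩
    obtain ⟨c, hc, h1⟩ := o.tA b hb
    exact ⟨c, hc, h1⟩
  have h2 : MulAut.conj t • A.map L.subtype = A.map L.subtype := by
    apply conj_eq_self_of_le
    intro y hy
    rw [mem_conj] at hy
    have := h1 _ hy
    have e : t * (t⁻¹ * y * t) * t⁻¹ = y := by group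
    rwa [e] at this
  have h3 : (b : Y) ∈ MulAut.conj t • A.map L.subtype := by rw [h2]; exact ⟨b, hb, rfl⟩
  rw [mem_conj] at h3
  obtain ⟨c, hc, h4⟩ := h3
  exact ⟨c, hc, h4⟩

theorem exists_cd [Finite Y] [Finite V] {K : Subgroup L} {k : Type} [Field k] [Finite k] [CharP k 2]
    {e : ↥(fx V Q) ≃+ (Fin 2 → k)} {φ : K ≃* Matrix.SpecialLinearGroup (Fin 2) k} (ok : OutK o K k e φ) :
    ∃ (g g' N N' : V →+ (Fin 2 → k)) (c c' : Y → k) (κ : k), Cd Q E F t k g g' N N' c c' κ ∧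
      (∀ x : ↥(fx V Q), g x = e x) ∧ ∃ q₀ ∈ Q, ∀ v, N v = g (q₀ • v + v) := by
  classical
  have h := o.hyp
  obtain ⟨g, hg, hge⟩ := o.exists_crd ok
  obtain ⟨q₀, hq₀, hq₀1⟩ := h.exists_q o.tk
  obtain ⟨c, hc, hcs, hcn⟩ := o.exists_c hg ok.card hq₀ hq₀1
  obtain ⟨κ, hκ⟩ := o.exists_κ hg
  set X : AddSubgroup V := fx V Q with hX
  let N : V →+ (Fin 2 → k) := g.comp (HE.dl (V := V) q₀)
  have hN : ∀ v, N v = g (q₀ • v + v) := fun _ => rfl
  have hNs : ∀ w, ∃ v, N v = w := by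
    intro w
    obtain ⟨x, hx, hxw⟩ := hg.surj w
    obtain ⟨v, hv⟩ := o.Qsurj q₀ hq₀ hq₀1 x hx
    exact ⟨v, by rw [hN, hv, hxw]⟩
  have hNE : ∀ v, v ∈ E ↔ N v 1 = 0 := by
    intro v
    rw [hN, ← hg.memF _ (o.QV q₀ hq₀ v)]
    constructor
    · intro hv
      exact h.loc.mem.EB q₀ (o.QA hq₀) v hv
    · intro hv
      by_contra hvE
      exact hq₀1 (h.loc.mem.inj v hvE q₀ (o.QA hq₀) hv)
  -- `t⁻¹ q t ∈ A`
  have htq : ∀ q : Q, ∃ b ∈ A, (b : Y) = t⁻¹ * ((q : L) : Y) * t := fun q => o.tA_inv (o.QA q.2)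
  choose tq htqA htq using htq
  have hqt : ∀ q : Q, ∃ b ∈ A, (b : Y) = t * ((q : L) : Y) * t⁻¹ := fun q => o.QtA q q.2
  choose qt hqtA hqt using hqt
  -- the vector `(α, 0)`
  have hfv : ∀ α : k, ∃ f ∈ F, g f = ![α, 0] := by
    intro α
    obtain ⟨x, hx, hx1⟩ := hg.surj ![α, 0]
    exact ⟨x, (hg.memF x hx).2 (by rw [hx1]; rfl), hx1⟩
  choose fv hfvF hfv using hfv
  have htF : ∀ f ∈ F, t⁻¹ • f ∈ F := by
    intro f hf
    rw [← mem_smul_as, o.tF]
    exact hf
  let ρ : k → k := fun α => g (t⁻¹ • fv α) 0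
  have hρ : ∀ f ∈ F, ρ (g f 0) = g (t⁻¹ • f) 0 := by
    intro f hf
    have h1 : fv (g f 0) = f := by
      have h2 : g (fv (g f 0) + f) = 0 := by
        rw [map_add, hfv]
        ext i
        fin_cases i
        · exact CharTwo.add_self_eq_zero _
        · change 0 + g f 1 = 0
          rw [(hg.memF f (o.FX hf)).1 hf, add_zero]
      exact h.eq_of_add (hg.inj _ ((fx V Q).add_mem (o.FX (hfvF _)) (o.FX hf)) h2)
    change g (t⁻¹ • fv (g f 0)) 0 = _
    rw [h1]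
  have hρadd : ∀ α β, ρ (α + β) = ρ α + ρ β := by
    intro α β
    have h1 := hρ (fv α + fv β) (F.add_mem (hfvF α) (hfvF β))
    have h2 : g (fv α + fv β) 0 = α + β := by
      rw [map_add, hfv, hfv]; rfl
    rw [h2, smul_add, map_add] at h1
    exact h1
  have hρ0 : ∀ α, ρ α = 0 → α = 0 := by
    intro α hα
    have h1 : t⁻¹ • fv α = 0 := by
      apply hg.inj _ (o.FX (htF _ (hfvF α)))
      ext i
      fin_cases i
      · exact hα
      · exact (hg.memF _ (o.FX (htF _ (hfvF α)))).1 (htF _ (hfvF α))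
    rw [smul_eq_zero_iff_eq] at h1
    have h2 := hfv α
    rw [h1, map_zero] at h2
    exact (congrFun h2 0).symm
  -- the key identity
  have hkey : ∀ (i j : Q) (v : V), ρ (κ (qt j) * c i * N v 1) = κ (tq i) * c j * N (t⁻¹ • v) 1 := by
    intro i j v
    -- `f = [[v, q_i], r_j]`
    set y := (i : L) • v + v with hy
    have hyX : y ∈ fx V Q := o.QV i i.2 v
    have hfF : qt j • y + y ∈ F := h.loc.mem.EB _ (hqtA j) y (h.beta.XE hyX)
    have h1 : g (qt j • y + y) 0 = κ (qt j) * c i * N v 1 := by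
      rw [hκ _ (hqtA j) y hyX, hc i i.2 v]
      change κ (qt j) * (c i * N v 1) = _
      ring
    rw [← h1, hρ _ hfF]
    -- the other side
    have hcomm : qt j • y + y = (i : L) • (qt j • v + v) + (qt j • v + v) := by
      rw [hy, smul_add, smul_add, ← mul_smul, ← mul_smul, h.loc.mem.comm _ (hqtA j) _ (o.QA i.2)]
      abel
    have hconj : t⁻¹ • (qt j • y + y) = tq i • ((j : L) • (t⁻¹ • v) + t⁻¹ • v) + ((j : L) • (t⁻¹ • v) + t⁻¹ • v) := by
      have h2 : ∀ w : V, t⁻¹ • (qt j • w) = (j : L) • (t⁻¹ • w) := by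
        intro w
        change t⁻¹ • ((qt j : Y) • w) = ((j : L) : Y) • (t⁻¹ • w)
        rw [hqt j, ← mul_smul, ← mul_smul]
        congr 1
        group
      have h3 : ∀ w : V, t⁻¹ • ((i : L) • w) = tq i • (t⁻¹ • w) := by
        intro w
        change t⁻¹ • (((i : L) : Y) • w) = (tq i : Y) • (t⁻¹ • w)
        rw [htq i, ← mul_smul, ← mul_smul]
        congr 1
        group
      rw [hcomm, smul_add, h3, smul_add t⁻¹ (qt j • v) v, h2]
    have hw := o.QV (j : L) j.2 (t⁻¹ • v)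
    rw [hconj, hκ _ (htqA i) _ hw, hc j j.2 (t⁻¹ • v)]
    change κ (tq i) * (c j * N (t⁻¹ • v) 1) = _
    ring
  -- `κ` is onto on `S'`
  have hκs : ∀ d : k, ∃ j : Q, κ (qt j) = d := by
    let f : Q → k := fun j => κ (qt j)
    have hf : Function.Injective f := by
      intro j j' hjj
      -- `qt j⁻¹ qt j'` is trivial on `X`
      have h1 : ∀ x ∈ fx V Q, qt j • x = qt j' • x := by
        intro x hx
        have h2 : g ((qt j • x + x) + (qt j' • x + x)) = 0 := by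
          change κ (qt j) = κ (qt j') at hjj
          rw [map_add, hκ _ (hqtA j) x hx, hκ _ (hqtA j') x hx, hjj]
          ext i
          fin_cases i
          · exact CharTwo.add_self_eq_zero _
          · exact add_zero _
        have h3 := h.eq_of_add (hg.inj _ ((fx V Q).add_mem ((fx V Q).add_mem (h.Xmem hx) hx)
          ((fx V Q).add_mem (h.Xmem hx) hx)) h2)
        exact add_right_cancel h3
      have h2 : (qt j')⁻¹ * qt j ∈ Q := by
        apply o.CL
        intro x hx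
        rw [mul_smul, h1 x hx, inv_smul_smul]
      have h3 : (((qt j')⁻¹ * qt j : L) : Y) = t * (((j' : L)⁻¹ * (j : L) : L) : Y) * t⁻¹ := by
        rw [coe_mul, coe_inv, hqt, hqt, coe_mul, coe_inv]
        group
      have h4 := o.inf1 _ h2 _ (mul_mem (inv_mem j'.2) j.2) h3
      have h5 : t * (((j' : L)⁻¹ * (j : L) : L) : Y) * t⁻¹ = 1 := by rw [← h3, h4]; rfl
      have h6 : (((j' : L)⁻¹ * (j : L) : L) : Y) = 1 := by
        have h7 : (((j' : L)⁻¹ * (j : L) : L) : Y) = t⁻¹ * (t * (((j' : L)⁻¹ * (j : L) : L) : Y) * t⁻¹) * t := by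
          group
        rw [h7, h5]; group
      have h7 : (j' : L)⁻¹ * (j : L) = 1 := Subtype.ext h6
      rw [inv_mul_eq_one] at h7
      exact Subtype.ext h7.symm
    exact ((Nat.bijective_iff_injective_and_card f).2 ⟨hf, by rw [o.cQ, ok.card]⟩).2
  have hcs' : ∀ d : k, ∃ i : Q, c i = d := by
    intro d
    obtain ⟨q, hq, h1⟩ := hcs d
    exact ⟨⟨q, hq⟩, h1⟩
  have hνs : ∀ d : k, ∃ v : V, N v 1 = d := by
    intro d
    obtain ⟨v, hv⟩ := hNs ![0, d]
    exact ⟨v, by rw [hv]; rfl⟩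
  have hmul := rho_mul ρ (fun i : Q => c i) (fun j : Q => κ (qt j)) (fun i : Q => κ (tq i)) (fun v : V => N v 1)
    (fun v : V => N (t⁻¹ • v) 1) hcs' (hκs 1) hνs hkey
  have hρ1 : ρ 1 ≠ 0 := fun h1 => one_ne_zero (hρ0 1 h1)
  let σ₀ : k →+* k :=
    { toFun := fun x => ρ x / ρ 1
      map_one' := div_self hρ1
      map_mul' := fun x y => by
        have := hmul x y
        field_simp
        rw [mul_comm, ← this]
        ring
      map_zero' := by
        have h1 := hρadd 0 0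
        rw [add_zero] at h1
        have h2 : ρ 0 = 0 := by
          have := h1
          rwa [left_eq_add] at this
        rw [h2, zero_div]
      map_add' := fun x y => by rw [hρadd, add_div] }
  have hσb : Function.Bijective σ₀ := ⟨σ₀.injective, Finite.surjective_of_injective σ₀.injective⟩
  let σ : k ≃+* k := RingEquiv.ofBijective σ₀ hσb
  have hσ : ∀ x, σ x = ρ x / ρ 1 := fun _ => rfl
  -- `g'`
  let τ₀ : (Fin 2 → k) →+ (Fin 2 → k) := AddMonoidHom.mk' (fun w i => σ.symm (w i / ρ 1)) (by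
    intro v w
    ext i
    change σ.symm ((v i + w i) / ρ 1) = _
    rw [add_div, map_add]; rfl)
  have hτ₀ : ∀ w i, τ₀ w i = σ.symm (w i / ρ 1) := fun _ _ => rfl
  have hτ₀inj : ∀ w, τ₀ w = 0 → w = 0 := by
    intro w hw
    ext i
    have h1 := congrFun hw i
    rw [hτ₀] at h1
    have h2 : w i / ρ 1 = 0 := (map_eq_zero_iff σ.symm σ.symm.injective).1 h1
    exact (div_eq_zero_iff.1 h2).resolve_right hρ1
  have hτ₀s : ∀ (d : k) w, τ₀ (d • w) = σ.symm d • τ₀ w := by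
    intro d w
    ext i
    change σ.symm (d * w i / ρ 1) = σ.symm d * σ.symm (w i / ρ 1)
    rw [← map_mul, mul_div_assoc]
  let tm : V →+ V := AddMonoidHom.mk' (fun v => t⁻¹ • v) (smul_add _)
  let g' : V →+ (Fin 2 → k) := (τ₀.comp g).comp tm
  let N' : V →+ (Fin 2 → k) := (τ₀.comp N).comp tm
  have hg' : ∀ v, g' v = τ₀ (g (t⁻¹ • v)) := fun _ => rfl
  have hN' : ∀ v, N' v = τ₀ (N (t⁻¹ • v)) := fun _ => rfl
  let cY : Y → k := fun y => if hy : y ∈ L then c ⟨y, hy⟩ else 0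
  have hcY : ∀ q : L, cY q = c q := fun q => dif_pos q.2
  let cY' : Y → k := fun y => σ.symm (cY (t⁻¹ * y * t))
  have hcY' : ∀ q : L, cY' (t * (q : Y) * t⁻¹) = σ.symm (c q) := by
    intro q
    have e1 : t⁻¹ * (t * (q : Y) * t⁻¹) * t = q := by group
    change σ.symm (cY (t⁻¹ * (t * (q : Y) * t⁻¹) * t)) = _
    rw [e1, hcY]
  have hts : ∀ (q : L) (v : V), t⁻¹ • ((t * (q : Y) * t⁻¹) • v + v) = q • (t⁻¹ • v) + t⁻¹ • v := by
    intro q v
    rw [smul_add]
    congr 1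
    change _ = (q : Y) • (t⁻¹ • v)
    rw [← mul_smul, ← mul_smul]
    congr 1
    group
  -- `κ_r = κ₀ c'(r)`
  obtain ⟨i₁, hi₁⟩ := hcs' 1
  obtain ⟨v₁, hv₁⟩ := hνs 1
  set κ₀ : k := σ.symm (κ (tq i₁) * N (t⁻¹ • v₁) 1 / ρ 1) with hκ₀
  have hκc : ∀ j : Q, κ (qt j) = κ₀ * σ.symm (c j) := by
    intro j
    have h1 := hkey i₁ j v₁
    rw [hi₁, hv₁, mul_one, mul_one] at h1
    have h2 : σ (κ (qt j)) = κ (tq i₁) * N (t⁻¹ • v₁) 1 / ρ 1 * c j := by
      rw [hσ, h1]; ring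
    rw [← σ.symm_apply_apply (κ (qt j)), h2, map_mul]
  refine ⟨g, g', N, N', cY, cY', κ₀, ?_, hge, q₀, hq₀, hN⟩
  exact
    { injX := hg.inj
      injX' := by
        intro x hx h1
        rw [hg'] at h1
        have h2 := hg.inj _ (mem_smul_as.1 hx) (hτ₀inj _ h1)
        rwa [smul_eq_zero_iff_eq] at h2
      surjX := hg.surj
      memF := hg.memF
      memF' := by
        intro x hx
        have h1 : x ∈ F ↔ t⁻¹ • x ∈ F := by
          rw [← mem_smul_as (g := t) (W := F), o.tF]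
        rw [h1, hg.memF _ (mem_smul_as.1 hx), hg', hτ₀, map_eq_zero_iff σ.symm σ.symm.injective, div_eq_zero_iff]
        exact ⟨Or.inl, fun h2 => h2.resolve_right hρ1⟩
      gF := by
        intro f hf
        ext i
        rw [hg', hτ₀]
        fin_cases i
        · change σ.symm (g (t⁻¹ • f) 0 / ρ 1) = g f 0
          rw [← hρ f hf, ← hσ, σ.symm_apply_apply]
        · change σ.symm (g (t⁻¹ • f) 1 / ρ 1) = g f 1
          rw [(hg.memF _ (o.FX (htF f hf))).1 (htF f hf), (hg.memF _ (o.FX hf)).1 hf, zero_div, map_zero]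
      memE := hNE
      surjN := hNs
      cN := by
        intro q hq v
        rw [hcY]
        exact hc q hq v
      cN' := by
        intro q hq v
        rw [hcY', hg', hts, hc q hq, hτ₀s, hN']
        rfl
      c_surj := by
        intro d
        obtain ⟨q, hq, h1⟩ := hcs d
        exact ⟨q, hq, by rw [hcY, h1]⟩
      c'_surj := by
        intro d
        obtain ⟨q, hq, h1⟩ := hcs (σ d)
        exact ⟨q, hq, by rw [hcY', h1, σ.symm_apply_apply]⟩
      c_ne := by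
        intro q hq hq1
        rw [hcY]
        exact hcn q hq fun h1 => hq1 (by rw [h1]; rfl)
      c'_ne := by
        intro q hq hq1
        rw [hcY', Ne, map_eq_zero_iff σ.symm σ.symm.injective]
        exact hcn q hq fun h1 => hq1 (by rw [h1]; rfl)
      κ_ne := by
        intro h1
        obtain ⟨j, hj⟩ := hκs 1
        rw [hκc, h1, zero_mul] at hj
        exact one_ne_zero hj.symm
      κX := by
        intro q hq x hx
        rw [hcY', ← hκc ⟨q, hq⟩, ← hκ _ (hqtA ⟨q, hq⟩) x hx, ← hqt ⟨q, hq⟩]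
        rfl }

end Out

end Cfsg.Agent.Omega.NO1.B0

end

section


/-!
# THEOREM B0 (bb OMEGA 18835, helper970), (8) (shortcut, helper321)

`Sp P` : `P ≤ A` totally isotropic, `|P| ≥ a`, with `v, v₁, v + v₁ ∉ E`, `[v, P] ≤ [v₁, P]`.  `Sp P ⟹ P = S` or `P = S^t`.
So `N_Y(A)` permutes `{S, S^t}`.
-/

set_option autoImplicit false
set_option linter.unusedSectionVars false
set_option linter.style.haveILetI false

namespace Cfsg.Agent.Omega.NO1.B0

open Subgroup Cfsg.Agent.Omega.NO1.AB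
open scoped Pointwise

universe u

variable {Y : Type u} [Group Y] {V : Type u} [AddCommGroup V] [DistribMulAction Y V]

/-- special points -/
structure Sp {L : Subgroup Y} (A : Subgroup L) (E : AddSubgroup V) (P : Subgroup Y) : Prop where
  le : P ≤ A.map L.subtype
  iso : ∀ p ∈ P, ∀ p' ∈ P, ∀ v : V, p' • (p • v + v) = p • v + v
  card : E.index ≤ Nat.card P
  sp : ∃ v v₁ : V, v ∉ E ∧ v₁ ∉ E ∧ v + v₁ ∉ E ∧ ∀ p ∈ P, ∃ p₁ ∈ P, p • v + v = p₁ • v₁ + v₁

theorem card_conj [Finite Y] (g : Y) (P : Subgroup Y) : Nat.card (MulAut.conj g • P : Subgroup Y) = Nat.card P :=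
  (Nat.card_congr (Subgroup.equivSMul (MulAut.conj g) P).toEquiv).symm

theorem conj_inv_conj (g : Y) (P : Subgroup Y) : MulAut.conj g⁻¹ • (MulAut.conj g • P) = P := by
  rw [← mul_smul, ← map_mul, inv_mul_cancel, map_one, one_smul]

theorem conj_conj_inv (g : Y) (P : Subgroup Y) : MulAut.conj g • (MulAut.conj g⁻¹ • P) = P := by
  rw [← mul_smul, ← map_mul, mul_inv_cancel, map_one, one_smul]

namespace Out

variable {T : Sylow 2 Y} {M L : Subgroup Y} {A Q L₁ : Subgroup L} {R : Sylow 2 L} {E F : AddSubgroup V}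
  {z : V} {t : Y} (o : Out T M L A Q L₁ R E F z t)
include o

theorem eq_of_add {v w : V} (h : v + w = 0) : v = w := o.hyp.eq_of_add h

/-- elements of `A` -/
theorem mem_A {p : Y} (hp : p ∈ A.map L.subtype) :
    ∃ q ∈ Q, ∃ q' ∈ Q, p = q * (t * q' * t⁻¹) := by
  obtain ⟨b, hb, rfl⟩ := hp
  exact o.prod b hb

theorem exists_ne_E : ∃ v : V, v ∉ E := o.hyp.loc.mem.ne

/-- `[v, q] ∉ F` -/
theorem comm_not_F {q : L} (hq : q ∈ Q) (hq1 : q ≠ 1) {v : V} (hv : v ∉ E) :
    q • v + v ∉ F := fun h1 => hq1 (o.hyp.loc.mem.inj v hv q (o.QA hq) h1)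

theorem tAY [Finite Y] : MulAut.conj t • A.map L.subtype = A.map L.subtype := by
  apply conj_eq_self_of_le
  intro y hy
  rw [mem_conj] at hy
  obtain ⟨b, hb, h1⟩ := hy
  obtain ⟨c, hc, h2⟩ := o.tA b hb
  refine ⟨c, hc, ?_⟩
  change (c : Y) = y
  have h3 : (b : Y) = t⁻¹ * y * t := h1
  rw [h2, h3]
  group

/-- a totally isotropic subgroup meeting `S` is in `S` -/
theorem le_S {P : Subgroup Y} (hP : P ≤ A.map L.subtype)
    (iso : ∀ p ∈ P, ∀ p' ∈ P, ∀ v : V, p' • (p • v + v) = p • v + v) {q : L} (hq : q ∈ Q) (hq1 : q ≠ 1)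
    (hqP : (q : Y) ∈ P) : P ≤ Q.map L.subtype := by
  intro p hp
  obtain ⟨b, hb, rfl⟩ := hP hp
  obtain ⟨v, hv⟩ := o.exists_ne_E
  refine ⟨b, ?_, rfl⟩
  apply o.hyp.beta.cen (q • v + v) (o.QV q hq v) (o.comm_not_F hq hq1 hv) b hb
  exact iso _ hqP _ hp v

omit o in
theorem iso_conj {P : Subgroup Y} (g : Y) (iso : ∀ p ∈ P, ∀ p' ∈ P, ∀ v : V, p' • (p • v + v) = p • v + v) :
    ∀ p ∈ MulAut.conj g • P, ∀ p' ∈ MulAut.conj g • P, ∀ v : V, p' • (p • v + v) = p • v + v := by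
  intro p hp p' hp' v
  rw [mem_conj] at hp hp'
  have h1 := iso _ hp _ hp' (g⁻¹ • v)
  have e1 : (g⁻¹ * p * g) • (g⁻¹ • v) + g⁻¹ • v = g⁻¹ • (p • v + v) := by
    rw [smul_add, ← mul_smul, ← mul_smul]
    congr 2
    group
  have e2 : ∀ w : V, (g⁻¹ * p' * g) • (g⁻¹ • w) = g⁻¹ • (p' • w) := by
    intro w
    rw [← mul_smul, ← mul_smul]
    congr 1
    group
  rw [e1, e2] at h1
  exact smul_left_cancel _ h1

/-- a totally isotropic subgroup meeting `S^t` is in `S^t` -/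
theorem le_S' [Finite Y] {P : Subgroup Y} (hP : P ≤ A.map L.subtype)
    (iso : ∀ p ∈ P, ∀ p' ∈ P, ∀ v : V, p' • (p • v + v) = p • v + v) {q : L} (hq : q ∈ Q) (hq1 : q ≠ 1)
    (hqP : t * (q : Y) * t⁻¹ ∈ P) : P ≤ MulAut.conj t • Q.map L.subtype := by
  have h1 : MulAut.conj t⁻¹ • P ≤ A.map L.subtype := by
    rw [conj_le_iff, inv_inv, o.tAY]
    exact hP
  have h2 := o.le_S h1 (iso_conj t⁻¹ iso) hq hq1 (by
    rw [mem_conj, inv_inv]
    exact hqP)
  rw [conj_le_iff, inv_inv] at h2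
  exact h2

theorem smul_F {g : Y} (hg : MulAut.conj g • A.map L.subtype = A.map L.subtype) (v : V) : g • v ∈ F ↔ v ∈ F := by
  have key : ∀ g : Y, MulAut.conj g • A.map L.subtype = A.map L.subtype → ∀ v ∈ F, g • v ∈ F := by
    intro g hg v hv
    apply o.hyp.loc.mem.CB
    intro b hb
    have h1 : (b : Y) ∈ MulAut.conj g • A.map L.subtype := by rw [hg]; exact ⟨b, hb, rfl⟩
    rw [mem_conj] at h1
    obtain ⟨c, hc, h2⟩ := h1
    have h3 := o.hyp.loc.mem.FB c hc v hv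
    change (c : Y) • v = v at h3
    have h4 : (c : Y) = g⁻¹ * b * g := h2
    rw [h4, mul_smul, mul_smul, inv_smul_eq_iff] at h3
    exact h3
  refine ⟨fun hv => ?_, key g hg v⟩
  have h1 := key g⁻¹ (by rw [← hg, conj_inv_conj]; exact hg.symm) _ hv
  rwa [inv_smul_smul] at h1

theorem memE_iff {v : V} : v ∈ E ↔ ∀ b ∈ A, b • v + v ∈ F := by
  constructor
  · exact fun hv b hb => o.hyp.loc.mem.EB b hb v hv
  · intro hv
    by_contra hvE
    apply o.hyp.beta.ne
    rw [eq_bot_iff]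
    intro b hb
    rw [mem_bot]
    exact o.hyp.loc.mem.inj v hvE b hb.1 (hv b hb.1)

theorem smul_E {g : Y} (hg : MulAut.conj g • A.map L.subtype = A.map L.subtype) (v : V) : g • v ∈ E ↔ v ∈ E := by
  have key : ∀ g : Y, MulAut.conj g • A.map L.subtype = A.map L.subtype → ∀ v ∈ E, g • v ∈ E := by
    intro g hg v hv
    rw [o.memE_iff]
    intro b hb
    have h1 : (b : Y) ∈ MulAut.conj g • A.map L.subtype := by rw [hg]; exact ⟨b, hb, rfl⟩
    rw [mem_conj] at h1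
    obtain ⟨c, hc, h2⟩ := h1
    have h3 := o.hyp.loc.mem.EB c hc v hv
    rw [← o.smul_F hg] at h3
    have h4 : (c : Y) = g⁻¹ * b * g := h2
    have h5 : g • (c • v + v) = b • (g • v) + g • v := by
      rw [smul_add]
      congr 1
      change g • ((c : Y) • v) = (b : Y) • (g • v)
      rw [h4, ← mul_smul, ← mul_smul]
      congr 1
      group
    rwa [h5] at h3
  refine ⟨fun hv => ?_, key g hg v⟩
  have h1 := key g⁻¹ (by rw [← hg, conj_inv_conj]; exact hg.symm) _ hv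
  rwa [inv_smul_smul] at h1

theorem Sp_conj [Finite Y] {P : Subgroup Y} (h : Sp A E P) {g : Y}
    (hg : MulAut.conj g • A.map L.subtype = A.map L.subtype) : Sp A E (MulAut.conj g • P) where
  le := by
    rw [← hg]
    exact conj_le_conj g h.le
  iso := iso_conj g h.iso
  card := by rw [card_conj]; exact h.card
  sp := by
    obtain ⟨v, v₁, h1, h2, h3, h4⟩ := h.sp
    refine ⟨g • v, g • v₁, fun h5 => h1 ((o.smul_E hg _).1 h5), fun h5 => h2 ((o.smul_E hg _).1 h5), fun h5 => ?_, ?_⟩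
    · rw [← smul_add] at h5
      exact h3 ((o.smul_E hg _).1 h5)
    · intro p hp
      rw [mem_conj] at hp
      obtain ⟨p₁, hp₁, h5⟩ := h4 _ hp
      refine ⟨_, conj_mem_conj hp₁, ?_⟩
      have e : ∀ (p : Y) (w : V), (g * p * g⁻¹) • (g • w) + g • w = g • (p • w + w) := by
        intro p w
        rw [smul_add]
        congr 1
        rw [← mul_smul, ← mul_smul]
        congr 1
        group
      have e2 : p = g * (g⁻¹ * p * g) * g⁻¹ := by group
      rw [e, ← h5, ← e, ← e2]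

section cd

variable {k : Type} [Field k] [Finite k] [CharP k 2] {g g' N N' : V →+ (Fin 2 → k)} {c c' : Y → k} {κ : k}
  (cd : Cd Q E F t k g g' N N' c c' κ)
include cd

theorem rX' {q : L} (hq : q ∈ Q) {x : V} (hx : x ∈ t • (fx V Q : AddSubgroup V)) : (t * (q : Y) * t⁻¹) • x = x := by
  rw [mem_smul_as] at hx
  rw [mul_smul, mul_smul]
  have := hx q hq
  change (q : Y) • (t⁻¹ • x) = _ at this
  rw [this, smul_inv_smul]

theorem rVX' {q : L} (hq : q ∈ Q) (v : V) : (t * (q : Y) * t⁻¹) • v + v ∈ t • (fx V Q : AddSubgroup V) := by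
  rw [mem_smul_as, smul_add, mul_smul, mul_smul, inv_smul_smul]
  exact o.QV q hq _

theorem rX_mem {q : L} (hq : q ∈ Q) {x : V} (hx : x ∈ fx V Q) : (t * (q : Y) * t⁻¹) • x + x ∈ F := by
  obtain ⟨b, hb, h1⟩ := o.QtA q hq
  rw [← h1]
  exact o.hyp.loc.mem.EB b hb x (o.hyp.beta.XE hx)

theorem rcomm {q q' : L} (hq : q ∈ Q) (hq' : q' ∈ Q) : (q : Y) * (t * (q' : Y) * t⁻¹) = t * (q' : Y) * t⁻¹ * q := by
  obtain ⟨b, hb, h1⟩ := o.QtA q' hq'
  rw [← h1]
  exact congrArg Subtype.val (o.hyp.loc.mem.comm q (o.QA hq) b hb)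

theorem expand {q q' : L} (hq : q ∈ Q) (hq' : q' ∈ Q) (v : V) :
    ((q : Y) * (t * (q' : Y) * t⁻¹)) • v + v = ((q : Y) • v + v) + ((t * (q' : Y) * t⁻¹) • v + v) +
      ((t * (q' : Y) * t⁻¹) • ((q : Y) • v + v) + ((q : Y) • v + v)) := by
  set r := t * (q' : Y) * t⁻¹ with hr
  rw [o.rcomm cd hq hq', mul_smul, smul_add]
  have h1 := o.two (r • v)
  have h2 := o.two ((q : Y) • v)
  have h3 := o.two v
  have : (q : Y) • v + v + (r • v + v) + (r • (q : Y) • v + r • v + ((q : Y) • v + v)) =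
    r • (q : Y) • v + v + (((q : Y) • v + (q : Y) • v) + (r • v + r • v) + (v + v)) := by abel
  rw [this, h1, h2, h3, add_zero, add_zero, add_zero]

/-- `[[v, q], r]` in coordinates -/
theorem g_qr {q q' : L} (hq : q ∈ Q) (hq' : q' ∈ Q) (v : V) :
    g ((t * (q' : Y) * t⁻¹) • ((q : Y) • v + v) + ((q : Y) • v + v)) =
      ![κ * c' (t * (q' : Y) * t⁻¹) * (c (q : Y) * N v 1), 0] := by
  have hx : (q : Y) • v + v ∈ fx V Q := o.QV q hq v
  rw [cd.κX q' hq' _ hx, cd.cN q hq v]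
  rfl

theorem c_inj {q q₁ : L} (hq : q ∈ Q) (hq₁ : q₁ ∈ Q) (h : c (q : Y) = c (q₁ : Y)) : q = q₁ := by
  have h1 : ∀ v : V, (q : Y) • v = (q₁ : Y) • v := by
    intro v
    have h2 : g (((q : Y) • v + v) + ((q₁ : Y) • v + v)) = 0 := by
      rw [map_add, cd.cN q hq, cd.cN q₁ hq₁, h, ← cd.cN q₁ hq₁, ← map_add, o.two, map_zero]
    have h3 := o.eq_of_add (cd.injX _ ((fx V Q).add_mem (o.QV q hq v) (o.QV q₁ hq₁ v)) h2)
    exact add_right_cancel h3
  have h4 : (q : Y)⁻¹ * q₁ = 1 := by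
    apply o.hyp.faith
    intro v
    rw [mul_smul, ← h1, inv_smul_smul]
  exact Subtype.ext (inv_mul_eq_one.1 h4)

theorem c'_inj {q q₁ : L} (hq : q ∈ Q) (hq₁ : q₁ ∈ Q)
    (h : c' (t * (q : Y) * t⁻¹) = c' (t * (q₁ : Y) * t⁻¹)) : q = q₁ := by
  have h1 : ∀ v : V, (t * (q : Y) * t⁻¹) • v = (t * (q₁ : Y) * t⁻¹) • v := by
    intro v
    have h2 : g' (((t * (q : Y) * t⁻¹) • v + v) + ((t * (q₁ : Y) * t⁻¹) • v + v)) = 0 := by
      rw [map_add, cd.cN' q hq, cd.cN' q₁ hq₁, h, ← cd.cN' q₁ hq₁, ← map_add, o.two, map_zero]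
    have h3 := o.eq_of_add (cd.injX' _ ((t • (fx V Q : AddSubgroup V)).add_mem (o.rVX' cd hq v) (o.rVX' cd hq₁ v)) h2)
    exact add_right_cancel h3
  have h4 : (t * (q : Y) * t⁻¹)⁻¹ * (t * (q₁ : Y) * t⁻¹) = 1 := by
    apply o.hyp.faith
    intro v
    rw [mul_smul, ← h1, inv_smul_smul]
  have h5 := inv_mul_eq_one.1 h4
  have h6 : (q : Y) = q₁ := mul_left_cancel (mul_right_cancel h5)
  exact Subtype.ext h6

/-- isotropy in coordinates -/
theorem iso_iff {q q' q₁ q₁' : L} (hq : q ∈ Q) (hq' : q' ∈ Q) (hq₁ : q₁ ∈ Q) (hq₁' : q₁' ∈ Q)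
    (iso : ∀ v : V, ((q₁ : Y) * (t * (q₁' : Y) * t⁻¹)) • (((q : Y) * (t * (q' : Y) * t⁻¹)) • v + v) =
      ((q : Y) * (t * (q' : Y) * t⁻¹)) • v + v) :
    c' (t * (q₁' : Y) * t⁻¹) * c (q : Y) = c' (t * (q' : Y) * t⁻¹) * c (q₁ : Y) := by
  obtain ⟨v, hv⟩ := o.exists_ne_E
  have hν : N v 1 ≠ 0 := fun h1 => hv ((cd.memE v).2 h1)
  set r := t * (q' : Y) * t⁻¹ with hr
  set r₁ := t * (q₁' : Y) * t⁻¹ with hr₁
  set x := (q : Y) • v + v with hx
  set x' := r • v + v with hx'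
  set f := r • x + x with hf
  have hxX : x ∈ fx V Q := o.QV q hq v
  have hx'X : x' ∈ t • (fx V Q : AddSubgroup V) := o.rVX' cd hq' v
  have hfF : f ∈ F := o.rX_mem cd hq' hxX
  have h1 : ((q : Y) * r) • v + v = x + x' + f := o.expand cd hq hq' v
  have h2 := iso v
  rw [h1, smul_add, smul_add] at h2
  -- `p₁ x = r₁ x`
  have h3 : ((q₁ : Y) * r₁) • x = r₁ • x := by
    rw [mul_smul]
    have h4 : r₁ • x ∈ fx V Q := by
      have := o.rX_mem cd hq₁' hxX
      exact (AddSubgroup.add_mem_cancel_right _ hxX).1 (o.FX this)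
    exact h4 q₁ hq₁
  have h4 : ((q₁ : Y) * r₁) • x' = (q₁ : Y) • x' := by
    rw [mul_smul, o.rX' cd hq₁' hx'X]
  have h5 : ((q₁ : Y) * r₁) • f = f := by
    have h6 : r₁ • f = f := by
      obtain ⟨b, hb, h7⟩ := o.QtA q₁' hq₁'
      rw [hr₁, ← h7]
      exact o.hyp.loc.mem.FB b hb f hfF
    rw [mul_smul, h6]
    exact o.FX hfF q₁ hq₁
  rw [h3, h4, h5] at h2
  have h6 : (r₁ • x + x) + ((q₁ : Y) • x' + x') = 0 := by
    have h7 : r₁ • x + (q₁ : Y) • x' = x + x' := add_right_cancel h2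
    have : r₁ • x + x + ((q₁ : Y) • x' + x') = (r₁ • x + (q₁ : Y) • x') + (x + x') := by abel
    rw [this, h7, o.two]
  -- `[[v, r], q₁] = [[v, q₁], r]`
  have h7 : (q₁ : Y) • x' + x' = r • ((q₁ : Y) • v + v) + ((q₁ : Y) • v + v) := by
    rw [hx', smul_add, smul_add, ← mul_smul, ← mul_smul, hr, o.rcomm cd hq₁ hq']
    abel
  rw [h7] at h6
  have h8 := congrArg g h6
  rw [map_zero, map_add, hr₁, hx, hr, o.g_qr cd hq hq₁', o.g_qr cd hq₁ hq'] at h8
  have h9 := congrFun h8 0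
  change κ * c' (t * (q₁' : Y) * t⁻¹) * (c (q : Y) * N v 1) + κ * c' (t * (q' : Y) * t⁻¹) * (c (q₁ : Y) * N v 1) = 0 at h9
  have h10 : (κ * N v 1) * (c' (t * (q₁' : Y) * t⁻¹) * c (q : Y)) =
      (κ * N v 1) * (c' (t * (q' : Y) * t⁻¹) * c (q₁ : Y)) := by
    have h11 := CharTwo.add_eq_zero.1 h9
    calc (κ * N v 1) * (c' (t * (q₁' : Y) * t⁻¹) * c (q : Y))
        = κ * c' (t * (q₁' : Y) * t⁻¹) * (c (q : Y) * N v 1) := by ring
      _ = _ := h11
      _ = _ := by ring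
  exact mul_left_cancel₀ (mul_ne_zero cd.κ_ne hν) h10

/-- the computation: `p = q r`, `p₁ = q₁ r₁` with `[v, p] = [v₁, p₁]` -/
theorem comp_eq [Finite Y] [Finite V] {q q' q₁ q₁' : L} (hq : q ∈ Q) (hq' : q' ∈ Q) (hq₁ : q₁ ∈ Q) (hq₁' : q₁' ∈ Q)
    {v v₁ : V} (he : ((q : Y) * (t * (q' : Y) * t⁻¹)) • v + v = ((q₁ : Y) * (t * (q₁' : Y) * t⁻¹)) • v₁ + v₁) :
    c (q : Y) * N v 1 + c (q₁ : Y) * N v₁ 1 = 0 ∧
      (c (q : Y) * N v 0 + c (q₁ : Y) * N v₁ 0) +
        (c' (t * (q' : Y) * t⁻¹) * N' v 0 + c' (t * (q₁' : Y) * t⁻¹) * N' v₁ 0) +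
        (κ * c' (t * (q' : Y) * t⁻¹) * (c (q : Y) * N v 1) +
          κ * c' (t * (q₁' : Y) * t⁻¹) * (c (q₁ : Y) * N v₁ 1)) = 0 := by
  rw [o.expand cd hq hq', o.expand cd hq₁ hq₁'] at he
  set x := (q : Y) • v + v with hx
  set x₁ := (q₁ : Y) • v₁ + v₁ with hx₁
  set r := t * (q' : Y) * t⁻¹ with hr
  set r₁ := t * (q₁' : Y) * t⁻¹ with hr₁
  set x' := r • v + v with hx'
  set x₁' := r₁ • v₁ + v₁ with hx₁'
  set f := r • x + x with hf
  set f₁ := r₁ • x₁ + x₁ with hf₁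
  have hxX : x ∈ fx V Q := o.QV q hq v
  have hx₁X : x₁ ∈ fx V Q := o.QV q₁ hq₁ v₁
  have hx'X : x' ∈ t • (fx V Q : AddSubgroup V) := o.rVX' cd hq' v
  have hx₁'X : x₁' ∈ t • (fx V Q : AddSubgroup V) := o.rVX' cd hq₁' v₁
  have hfF : f ∈ F := o.rX_mem cd hq' hxX
  have hf₁F : f₁ ∈ F := o.rX_mem cd hq₁' hx₁X
  have hFX' : F ≤ t • (fx V Q : AddSubgroup V) := by
    rw [← o.infF]; exact inf_le_right
  -- `u + u' + w = 0`
  have hsum : (x + x₁) + (x' + x₁') + (f + f₁) = 0 := by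
    have : (x + x₁) + (x' + x₁') + (f + f₁) = (x + x' + f) + (x₁ + x₁' + f₁) := by abel
    rw [this, he, o.two]
  have hu : x + x₁ ∈ F := by
    rw [← o.infF]
    refine ⟨(fx V Q).add_mem hxX hx₁X, ?_⟩
    have h1 : x + x₁ = (x' + x₁') + (f + f₁) := o.eq_of_add (by rw [← add_assoc]; exact hsum)
    rw [h1]
    exact AddSubgroup.add_mem _ (AddSubgroup.add_mem _ hx'X hx₁'X) (hFX' (F.add_mem hfF hf₁F))
  have hu' : x' + x₁' ∈ F := by
    have h1 : x' + x₁' = (x + x₁) + (f + f₁) := by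
      apply o.eq_of_add
      have : x' + x₁' + (x + x₁ + (f + f₁)) = (x + x₁) + (x' + x₁') + (f + f₁) := by abel
      rw [this, hsum]
    rw [h1]
    exact F.add_mem hu (F.add_mem hfF hf₁F)
  have g1 : g (x + x₁) = c (q : Y) • N v + c (q₁ : Y) • N v₁ := by
    rw [map_add, hx, hx₁, cd.cN q hq, cd.cN q₁ hq₁]
  have g2 : g (x' + x₁') = c' r • N' v + c' r₁ • N' v₁ := by
    rw [← cd.gF _ hu', map_add, hx', hx₁', hr, hr₁, cd.cN' q' hq', cd.cN' q₁' hq₁']
  have g3 : g (f + f₁) = ![κ * c' r * (c (q : Y) * N v 1) + κ * c' r₁ * (c (q₁ : Y) * N v₁ 1), 0] := by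
    rw [map_add, hf, hf₁, hx, hx₁, hr, hr₁, o.g_qr cd hq hq', o.g_qr cd hq₁ hq₁', add_vec, add_zero]
  constructor
  · have h1 := (cd.memF _ (o.FX hu)).1 hu
    rw [g1] at h1
    exact h1
  · have h1 := congrArg g hsum
    rw [map_zero, map_add, map_add, g1, g2, g3] at h1
    exact congrFun h1 0

/-- **special points are `S` and `S^t`** -/
theorem sp_cases [Finite Y] [Finite V] (ha : 4 ≤ E.index) (hk : Nat.card k = E.index) {P : Subgroup Y}
    (h : Sp A E P) : P = Q.map L.subtype ∨ P = MulAut.conj t • Q.map L.subtype := by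
  have hcQ : Nat.card (Q.map L.subtype) = E.index := by
    rw [← o.cQ]
    exact Nat.card_congr (Q.equivMapOfInjective _ L.subtype_injective).symm.toEquiv
  by_cases h1 : ∃ q ∈ Q, q ≠ 1 ∧ (q : Y) ∈ P
  · obtain ⟨q, hq, hq1, hqP⟩ := h1
    left
    exact eq_of_le_of_card_ge (o.le_S h.le h.iso hq hq1 hqP) (by rw [hcQ]; exact h.card)
  by_cases h2 : ∃ q ∈ Q, q ≠ 1 ∧ t * (q : Y) * t⁻¹ ∈ P
  · obtain ⟨q, hq, hq1, hqP⟩ := h2
    right
    exact eq_of_le_of_card_ge (o.le_S' h.le h.iso hq hq1 hqP) (by rw [card_conj, hcQ]; exact h.card)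
  exfalso
  push Not at h1 h2
  -- `p₀`
  have hPc : 1 < Nat.card P := by have := h.card; omega
  haveI hPn : Nontrivial P := Finite.one_lt_card_iff_nontrivial.1 hPc
  obtain ⟨⟨p₀, hp₀⟩, hp₀1⟩ := exists_ne (1 : P)
  have hp₀1' : p₀ ≠ 1 := fun h3 => hp₀1 (Subtype.ext h3)
  obtain ⟨q, hq, q', hq', he₀⟩ := o.mem_A (h.le hp₀)
  have hq1 : q ≠ 1 := by
    rintro rfl
    rw [coe_one, one_mul] at he₀
    by_cases hq'1 : q' = 1
    · apply hp₀1'
      rw [he₀, hq'1]; simp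
    · exact h2 q' hq' hq'1 (by rw [← he₀]; exact hp₀)
  have hcq : c (q : Y) ≠ 0 := cd.c_ne q hq fun h3 => hq1 (Subtype.ext h3)
  have hq'1 : q' ≠ 1 := by
    rintro rfl
    have h3 : p₀ = q := by rw [he₀]; simp
    exact h1 q hq hq1 (by rw [← h3]; exact hp₀)
  have hc'q : c' (t * (q' : Y) * t⁻¹) ≠ 0 := cd.c'_ne q' hq' fun h3 => hq'1 (Subtype.ext h3)
  -- decomposition of the elements of `P`
  have hdec : ∀ p : P, ∃ q₁ ∈ Q, ∃ q₁' ∈ Q, (p : Y) = q₁ * (t * q₁' * t⁻¹) := fun p => o.mem_A (h.le p.2)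
  choose a haQ b hbQ hab using hdec
  have hrel : ∀ p : P, c' (t * (b p : Y) * t⁻¹) * c (q : Y) = c' (t * (q' : Y) * t⁻¹) * c (a p : Y) := by
    intro p
    apply o.iso_iff cd hq hq' (haQ p) (hbQ p)
    intro v
    rw [← hab, ← he₀]
    exact h.iso _ hp₀ _ p.2 v
  let f : P → k := fun p => c (a p : Y) / c (q : Y)
  have hf : Function.Injective f := by
    intro p p₁ hpp
    have h3 : c (a p : Y) = c (a p₁ : Y) := by
      have : c (a p : Y) / c (q : Y) = c (a p₁ : Y) / c (q : Y) := hpp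
      field_simp at this
      exact this
    have h4 := o.c_inj cd (haQ p) (haQ p₁) h3
    have h5 : c' (t * (b p : Y) * t⁻¹) = c' (t * (b p₁ : Y) * t⁻¹) := by
      apply mul_right_cancel₀ hcq
      rw [hrel, hrel, h3]
    have h6 := o.c'_inj cd (hbQ p) (hbQ p₁) h5
    apply Subtype.ext
    rw [hab p, hab p₁, h4, h6]
  have hfs : Function.Surjective f := (hf.bijective_of_nat_card_le (by rw [hk]; exact h.card)).2
  have hca : ∀ p : P, c (a p : Y) = f p * c (q : Y) := fun p => (div_mul_cancel₀ _ hcq).symm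
  have hc'b : ∀ p : P, c' (t * (b p : Y) * t⁻¹) = f p * c' (t * (q' : Y) * t⁻¹) := by
    intro p
    apply mul_right_cancel₀ hcq
    rw [hrel, hca]; ring
  obtain ⟨v, v₁, hv, hv₁, hvv, hsp⟩ := h.sp
  have hν : N v 1 ≠ 0 := fun h3 => hv ((cd.memE v).2 h3)
  have hν₁ : N v₁ 1 ≠ 0 := fun h3 => hv₁ ((cd.memE v₁).2 h3)
  set ν := N v 1 with hνd
  set ν₁ := N v₁ 1 with hν₁d
  set cq := c (q : Y) with hcqd
  set cr := c' (t * (q' : Y) * t⁻¹) with hcrd
  -- the polynomial identity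
  have hpoly : ∀ d : k, d * (cq * (N v 0 + ν / ν₁ * N v₁ 0) + cr * (N' v 0 + ν / ν₁ * N' v₁ 0)) +
      d ^ 2 * (κ * cr * cq * (ν * (1 + ν / ν₁))) = 0 := by
    intro d
    obtain ⟨p, hp⟩ := hfs d
    obtain ⟨p₁, hp₁, he⟩ := hsp p p.2
    have he' := he
    rw [hab p, show p₁ = ((⟨p₁, hp₁⟩ : P) : Y) from rfl, hab ⟨p₁, hp₁⟩] at he'
    obtain ⟨h3, h4⟩ := o.comp_eq cd (haQ p) (hbQ p) (haQ ⟨p₁, hp₁⟩) (hbQ ⟨p₁, hp₁⟩) he'
    set d₁ := f ⟨p₁, hp₁⟩ with hd₁
    rw [hca, hca, hp, ← hd₁, ← hνd, ← hν₁d] at h3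
    rw [hca, hca, hc'b, hc'b, hp, ← hd₁, ← hνd, ← hν₁d] at h4
    have h5 : d₁ = d * (ν / ν₁) := by
      have h6 : d * ν = d₁ * ν₁ := by
        apply mul_right_cancel₀ hcq
        have h7 := CharTwo.add_eq_zero.1 h3
        calc d * ν * cq = d * cq * ν := by ring
          _ = d₁ * cq * ν₁ := h7
          _ = _ := by ring
      field_simp
      exact h6.symm
    rw [h5] at h4
    rw [← h4]
    field_simp
  -- `d₀ ≠ 0, 1`
  obtain ⟨d₀, hd₀, hd₀1⟩ : ∃ d₀ : k, d₀ ≠ 0 ∧ d₀ ≠ 1 := by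
    by_contra hc
    push Not at hc
    have h3 : (Set.univ : Set k) ⊆ {0, 1} := by
      intro d _
      by_cases h4 : d = 0
      · exact Or.inl h4
      · exact Or.inr (hc d h4)
    have h4 := Set.ncard_le_ncard h3 (Set.toFinite _)
    rw [Set.ncard_univ, hk] at h4
    have h5 : ({0, 1} : Set k).ncard ≤ 2 := (Set.ncard_insert_le _ _).trans (by rw [Set.ncard_singleton])
    omega
  set m := cq * (N v 0 + ν / ν₁ * N v₁ 0) + cr * (N' v 0 + ν / ν₁ * N' v₁ 0) with hm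
  set bb := κ * cr * cq * (ν * (1 + ν / ν₁)) with hbb
  have e1 := hpoly 1
  have e2 := hpoly d₀
  have h3 : bb = 0 := by
    have h4 : m = bb := by
      rw [one_mul, one_pow, one_mul] at e1
      exact CharTwo.add_eq_zero.1 e1
    rw [h4] at e2
    have h5 : d₀ * (1 + d₀) * bb = 0 := by rw [← e2]; ring
    have h6 : (1 : k) + d₀ ≠ 0 := fun h7 => hd₀1 (CharTwo.add_eq_zero.1 h7).symm
    exact (mul_eq_zero.1 h5).resolve_left (mul_ne_zero hd₀ h6)
  have h4 : 1 + ν / ν₁ = 0 := by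
    have h5 : κ * cr * cq * ν ≠ 0 := mul_ne_zero (mul_ne_zero (mul_ne_zero cd.κ_ne hc'q) hcq) hν
    have h6 : κ * cr * cq * ν * (1 + ν / ν₁) = 0 := by rw [← h3, hbb]; ring
    exact (mul_eq_zero.1 h6).resolve_left h5
  apply hvv
  rw [cd.memE, map_add]
  change N v 1 + N v₁ 1 = 0
  rw [← hνd, ← hν₁d]
  have h5 : (1 + ν / ν₁) * ν₁ = 0 := by rw [h4, zero_mul]
  rw [add_mul, one_mul, div_mul_cancel₀ _ hν₁] at h5
  rw [add_comm]; exact h5

/-- `S` is special -/
theorem sp_S [Finite Y] [Finite V] (ha : 4 ≤ E.index) (hk : Nat.card k = E.index) :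
    Sp A E (Q.map L.subtype) where
  le := map_mono o.QA
  iso := by
    rintro _ ⟨q, hq, rfl⟩ _ ⟨q', hq', rfl⟩ v
    exact o.QV q hq v q' hq'
  card := by
    rw [← o.cQ]
    exact (Nat.card_congr (Q.equivMapOfInjective _ L.subtype_injective).symm.toEquiv).ge
  sp := by
    obtain ⟨d₀, hd₀, hd₀1⟩ : ∃ d₀ : k, d₀ ≠ 0 ∧ d₀ ≠ 1 := by
      by_contra hc
      push Not at hc
      have h3 : (Set.univ : Set k) ⊆ {0, 1} := by
        intro d _
        by_cases h4 : d = 0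
        · exact Or.inl h4
        · exact Or.inr (hc d h4)
      have h4 := Set.ncard_le_ncard h3 (Set.toFinite _)
      rw [Set.ncard_univ, hk] at h4
      have h5 : ({0, 1} : Set k).ncard ≤ 2 := (Set.ncard_insert_le _ _).trans (by rw [Set.ncard_singleton])
      omega
    obtain ⟨v, hv⟩ := o.exists_ne_E
    have hν : N v 1 ≠ 0 := fun h3 => hv ((cd.memE v).2 h3)
    obtain ⟨v₁, hv₁⟩ := cd.surjN (d₀ • N v)
    refine ⟨v, v₁, hv, fun h1 => ?_, fun h1 => ?_, ?_⟩
    · rw [cd.memE, hv₁] at h1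
      exact mul_ne_zero hd₀ hν h1
    · rw [cd.memE, map_add, hv₁] at h1
      have h2 : N v 1 + d₀ * N v 1 = 0 := h1
      have h3 : (1 + d₀) * N v 1 = 0 := by rw [← h2]; ring
      exact hd₀1 (CharTwo.add_eq_zero.1 ((mul_eq_zero.1 h3).resolve_right hν)).symm
    · rintro _ ⟨q, hq, rfl⟩
      obtain ⟨q₁, hq₁, h1⟩ := cd.c_surj (c (q : Y) * d₀⁻¹)
      refine ⟨q₁, ⟨q₁, hq₁, rfl⟩, ?_⟩
      apply o.eq_of_add
      apply cd.injX _ ((fx V Q).add_mem (o.QV q hq v) (o.QV q₁ hq₁ v₁))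
      change g (((q : Y) • v + v) + ((q₁ : Y) • v₁ + v₁)) = 0
      rw [map_add, cd.cN q hq, cd.cN q₁ hq₁, h1, hv₁, smul_smul, mul_assoc, inv_mul_cancel₀ hd₀, mul_one]
      ext i
      exact CharTwo.add_self_eq_zero _

/-- **`N_Y(A)` permutes `{S, S^t}`** -/
theorem perm [Finite Y] [Finite V] (ha : 4 ≤ E.index) (hk : Nat.card k = E.index) {y : Y}
    (hy : MulAut.conj y • A.map L.subtype = A.map L.subtype) :
    MulAut.conj y • Q.map L.subtype = Q.map L.subtype ∨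
      MulAut.conj y • Q.map L.subtype = MulAut.conj t • Q.map L.subtype :=
  o.sp_cases cd ha hk (o.Sp_conj (o.sp_S cd ha hk) hy)

theorem perm' [Finite Y] [Finite V] (ha : 4 ≤ E.index) (hk : Nat.card k = E.index) {y : Y}
    (hy : MulAut.conj y • A.map L.subtype = A.map L.subtype) :
    MulAut.conj y • MulAut.conj t • Q.map L.subtype = Q.map L.subtype ∨
      MulAut.conj y • MulAut.conj t • Q.map L.subtype = MulAut.conj t • Q.map L.subtype := by
  apply o.sp_cases cd ha hk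
  exact o.Sp_conj (o.Sp_conj (o.sp_S cd ha hk) o.tAY) hy

end cd

/-- **`N_Y(A)` permutes `{S, S^t}`** -/
theorem perm_S [Finite Y] [Finite V] (ha : 4 ≤ E.index) {y : Y}
    (hy : MulAut.conj y • A.map L.subtype = A.map L.subtype) :
    (MulAut.conj y • Q.map L.subtype = Q.map L.subtype ∧
      MulAut.conj y • MulAut.conj t • Q.map L.subtype = MulAut.conj t • Q.map L.subtype) ∨
    (MulAut.conj y • Q.map L.subtype = MulAut.conj t • Q.map L.subtype ∧
      MulAut.conj y • MulAut.conj t • Q.map L.subtype = Q.map L.subtype) := by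
  obtain ⟨k, i1, i2, i3, e, K, φ, ok, -⟩ := o.exists_K
  obtain ⟨g, g', N, N', c, c', κ, cd, -, -⟩ := o.exists_cd ok
  have hne : Q.map L.subtype ≠ MulAut.conj t • Q.map L.subtype := by
    intro h1
    obtain ⟨q, hq, hq1⟩ := o.hyp.exists_q o.tk
    have h2 : (q : Y) ∈ Q.map L.subtype := ⟨q, hq, rfl⟩
    rw [h1, mem_conj] at h2
    obtain ⟨q', hq', h3⟩ := h2
    apply hq1
    apply o.inf1 q hq q' hq'
    have h4 : (q' : Y) = t⁻¹ * q * t := h3
    rw [h4]; group
  rcases o.perm cd ha ok.card hy with h1 | h1 <;> rcases o.perm' cd ha ok.card hy with h2 | h2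
  · exfalso
    rw [← h1] at h2
    have h3 := congrArg (fun P => MulAut.conj y⁻¹ • P) h2
    simp only [conj_inv_conj] at h3
    rw [h1] at h3
    exact hne h3.symm
  · exact Or.inl ⟨h1, h2⟩
  · exact Or.inr ⟨h1, h2⟩
  · exfalso
    rw [← h1] at h2
    have h3 := congrArg (fun P => MulAut.conj y⁻¹ • P) h2
    simp only [conj_inv_conj] at h3
    exact hne (h3.symm.trans h1)

end Out

end Cfsg.Agent.Omega.NO1.B0

end

end
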