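import Cfsg.Agent.ClassTwo.Sp4SL2
import Cfsg.Agent.Mrg.Omega.NO1.AB.Beta
import Cfsg.Agent.Mrg.Omega.NO1.B0.OutTwo
import Cfsg.Agent.Mrg.Omega.NO1.B0.Seven
import Cfsg.Agent.ZN.ChoiceSit
import Cfsg.Prelude.Def_Local
import Cfsg.Agent.SignalizersComponents.SLQuasisimple
import Cfsg.Agent.SignalizersComponents.QsBasic
import Cfsg.Agent.Mrg.Omega.NO1.TH.Fin

-- merged: Cfsg.Agent.Mrg.Omega.NO1.B0.Nin
section

section


/-!
# THEOREM B0 (bb OMEGA 18835, helper970), (9): the setting in coordinates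

`X = {p x y}` the natural module of `ψ : SL₂(k) → Y`, `S` centralises `X` and `V/X`, `t S t⁻¹ ≤ ψ {u α}`.

* `Nin.tor` : an element of odd order of `N_Y(X)` which commutes with the `ψ (u α)` commutes with `ψ (SL₂)`;
* `Nin.nrm` : an element of `N_Y(X)` which fixes `p 1 0` normalises `ψ (SL₂)`.
-/

set_option autoImplicit false
set_option linter.unusedSectionVars false

namespace Cfsg.Agent.Omega.NO1.B0

open Subgroup Cfsg.Agent.ClassTwo.Sp4Defs Cfsg.Agent.ClassTwo.Sp4SL2 Matrix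

variable {Y : Type*} [Group Y] {V : Type*} [AddCommGroup V] [DistribMulAction Y V] {k : Type*} [Field k]

/-- `g` normalises `X = {p x y}` -/
def Pr (p : k → k → V) (g : Y) : Prop := ∀ x y, ∃ x' y', g • p x y = p x' y'

/-- the setting of (9) -/
structure Nin (S : Subgroup Y) (ψ : SpecialLinearGroup (Fin 2) k →* Y) (p : k → k → V) (t : Y) : Prop where
  two : ∀ v : V, v + v = 0
  faith : ∀ y : Y, (∀ v : V, y • v = v) → y = 1
  add : ∀ x y x' y', p (x + x') (y + y') = p x y + p x' y'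
  inj : ∀ x y, p x y = 0 → x = 0 ∧ y = 0
  act : ∀ g x y, ψ g • p x y = p (g.1 0 0 * x + g.1 0 1 * y) (g.1 1 0 * x + g.1 1 1 * y)
  fix : ∀ s ∈ S, ∀ x y, s • p x y = p x y
  comm : ∀ s ∈ S, ∀ g, s * ψ g = ψ g * s
  SV : ∀ s ∈ S, ∀ v : V, ∃ x y, s • v + v = p x y
  Sfix : ∀ s ∈ S, s ≠ 1 → ∀ v : V, s • v = v → ∃ x y, v = p x y
  DD : ∀ g : Y, (∀ x y, g • p x y = p x y) → (∀ v : V, ∃ x y, g • v + v = p x y) → g ∈ S
  Sab : ∀ s ∈ S, ∀ s' ∈ S, s * s' = s' * s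
  cS : Nat.card S = Nat.card k
  cV : Nat.card V = Nat.card k ^ 4
  conj : ∀ s ∈ S, ∃ α, t * s * t⁻¹ = ψ (u α)
  tt : Pr p (t * t)
  tz : t • p 1 0 = p 1 0
  line : ∀ g : Y, Pr p g → ∀ x y c, ∃ c', ∀ x' y', g • p x y = p x' y' → g • p (c * x) (c * y) = p (c' * x') (c' * y')
  semi : ∀ g : Y, Pr p g → g • p 1 0 = p 1 0 → ∃ (σ : k →+* k) (β δ : k), β ≠ 0 ∧
    ∀ x y, g • p x y = p (σ x + δ * σ y) (β * σ y)
  q4 : 4 ≤ Nat.card k

namespace Nin

variable [CharP k 2] {S : Subgroup Y} {ψ : SpecialLinearGroup (Fin 2) k →* Y} {p : k → k → V} {t : Y}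
  (h : Nin S ψ p t)
include h

theorem neg (v : V) : -v = v := neg_eq_of_add_eq_zero_left (h.two v)

theorem eq_of_add {v w : V} (hvw : v + w = 0) : v = w := by
  rw [← neg_eq_iff_add_eq_zero, h.neg] at hvw
  exact hvw

theorem p0 : p 0 0 = 0 := by
  have h1 := h.add 0 0 0 0
  rw [add_zero] at h1
  have h2 : p 0 0 + 0 = p 0 0 + p 0 0 := by rw [add_zero]; exact h1
  exact (add_left_cancel h2).symm

theorem p_inj {x y x' y' : k} (h1 : p x y = p x' y') : x = x' ∧ y = y' := by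
  have h2 : p (x + x') (y + y') = 0 := by rw [h.add, h1, h.two]
  obtain ⟨h3, h4⟩ := h.inj _ _ h2
  exact ⟨CharTwo.add_eq_zero.1 h3, CharTwo.add_eq_zero.1 h4⟩

theorem act_u (α x y : k) : ψ (u α) • p x y = p (x + α * y) y := by
  rw [h.act]
  congr 1 <;> simp

theorem act_v (α x y : k) : ψ (v α) • p x y = p x (α * x + y) := by
  rw [h.act]
  congr 1 <;> simp

theorem act_w (x y : k) : ψ (w k) • p x y = p y x := by
  rw [h.act]
  congr 1 <;> simp [CharTwo.neg_eq]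

theorem act_d (l : kˣ) (x y : k) : ψ (d l) • p x y = p (l * x) ((l⁻¹ : kˣ) * y) := by
  rw [h.act]
  congr 1 <;> simp

theorem ψ_inj {g : SpecialLinearGroup (Fin 2) k} (hg : ψ g = 1) : g = 1 := by
  have h1 := h.act g 1 0
  have h2 := h.act g 0 1
  rw [hg, one_smul] at h1 h2
  obtain ⟨h3, h4⟩ := h.p_inj h1
  obtain ⟨h5, h6⟩ := h.p_inj h2
  rw [Cfsg.Agent.ClassTwo.Sp4SL2.ext_iff]
  simp at h3 h4 h5 h6 ⊢
  exact ⟨h3.symm, h5.symm, h4.symm, h6.symm⟩

theorem ψ_inj' : Function.Injective ψ := (injective_iff_map_eq_one ψ).2 fun _ hg => h.ψ_inj hg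

theorem fk : Finite k := Nat.finite_of_card_ne_zero (by have := h.q4; omega)

theorem fS : Finite S := Nat.finite_of_card_ne_zero (by rw [h.cS]; have := h.q4; omega)

theorem fV : Finite V := Nat.finite_of_card_ne_zero (by rw [h.cV]; have := h.q4; positivity)

theorem Pr_mul {g g' : Y} (hg : Pr p g) (hg' : Pr p g') : Pr p (g * g') := by
  intro x y
  obtain ⟨x₁, y₁, h1⟩ := hg' x y
  obtain ⟨x₂, y₂, h2⟩ := hg x₁ y₁
  exact ⟨x₂, y₂, by rw [mul_smul, h1, h2]⟩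

theorem Pr_ψ (g : SpecialLinearGroup (Fin 2) k) : Pr p (ψ g) := fun x y => ⟨_, _, h.act g x y⟩

theorem Pr_S {s : Y} (hs : s ∈ S) : Pr p s := fun x y => ⟨_, _, h.fix s hs x y⟩

theorem Pr_surj {g : Y} (hg : Pr p g) (x y : k) : ∃ x' y', g • p x' y' = p x y := by
  have := h.fk
  choose f f' hf using hg
  have hinj : Function.Injective fun a : k × k => (f a.1 a.2, f' a.1 a.2) := by
    rintro ⟨a, b⟩ ⟨a', b'⟩ hab
    obtain ⟨e1, e2⟩ := Prod.mk.inj hab
    have h1 := hf a b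
    have h2 := hf a' b'
    simp only at e1 e2
    rw [e1, e2, ← h2, smul_left_cancel_iff] at h1
    obtain ⟨e3, e4⟩ := h.p_inj h1
    rw [e3, e4]
  obtain ⟨⟨a, b⟩, hab⟩ := Finite.surjective_of_injective hinj (x, y)
  obtain ⟨e1, e2⟩ := Prod.mk.inj hab
  refine ⟨a, b, ?_⟩
  rw [hf]
  simp only at e1 e2
  rw [e1, e2]

theorem Pr_inv {g : Y} (hg : Pr p g) : Pr p g⁻¹ := by
  intro x y
  obtain ⟨x', y', h1⟩ := h.Pr_surj hg x y
  exact ⟨x', y', by rw [← h1, inv_smul_smul]⟩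

/-- `S` is normal in `N_Y(X)` -/
theorem nS {g : Y} (hg : Pr p g) {s : Y} (hs : s ∈ S) : g * s * g⁻¹ ∈ S := by
  apply h.DD
  · intro x y
    obtain ⟨x', y', h1⟩ := h.Pr_inv hg x y
    rw [mul_smul, mul_smul, h1, h.fix s hs, ← h1, smul_inv_smul]
  · intro v
    obtain ⟨x, y, h1⟩ := h.SV s hs (g⁻¹ • v)
    obtain ⟨x', y', h2⟩ := hg x y
    refine ⟨x', y', ?_⟩
    rw [← h2, ← h1, smul_add, smul_inv_smul, mul_smul, mul_smul]

theorem nS' {g : Y} (hg : Pr p g) {s : Y} (hs : s ∈ S) : g⁻¹ * s * g ∈ S := by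
  have h1 := h.nS (h.Pr_inv hg) hs
  rwa [inv_inv] at h1

theorem S_ψ {g : SpecialLinearGroup (Fin 2) k} (hg : ψ g ∈ S) : ψ g = 1 := by
  have h1 : g = 1 := by
    have h1 := h.act g 1 0
    have h2 := h.act g 0 1
    rw [h.fix _ hg] at h1 h2
    obtain ⟨h3, h4⟩ := h.p_inj h1
    obtain ⟨h5, h6⟩ := h.p_inj h2
    rw [Cfsg.Agent.ClassTwo.Sp4SL2.ext_iff]
    simp at h3 h4 h5 h6 ⊢
    exact ⟨h3.symm, h5.symm, h4.symm, h6.symm⟩
  rw [h1, map_one]

theorem exists_s : ∃ s ∈ S, s ≠ 1 := by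
  have := h.fS
  by_contra hcon
  push Not at hcon
  have h1 : S = ⊥ := by
    rw [eq_bot_iff]
    intro s hs
    rw [mem_bot]
    exact hcon s hs
  have h2 := h.cS
  rw [h1, card_bot] at h2
  have := h.q4
  omega

/-- two elements of `N_Y(X)` which agree on `X` and are `S`-compatible -/
theorem VX {g g' : Y} (hg : ∀ x y, g • p x y = g' • p x y) {s s' : Y} (hs : s ∈ S) (hs' : s' ∈ S) (hs1 : s' ≠ 1)
    (e1 : s' * g = g * s) (e2 : s' * g' = g' * s) (v : V) : ∃ x y, g • v + g' • v = p x y := by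
  apply h.Sfix s' hs' hs1
  obtain ⟨x, y, h1⟩ := h.SV s hs v
  have h2 : s • v = v + p x y := by
    rw [← h1, add_comm (s • v), ← add_assoc, h.two, zero_add]
  rw [smul_add, ← mul_smul, ← mul_smul, e1, e2, mul_smul, mul_smul, h2, smul_add, smul_add, hg]
  have e : g • v + g' • p x y + (g' • v + g' • p x y) = g • v + g' • v + (g' • p x y + g' • p x y) := by abel
  rw [e, h.two, add_zero]

/-- **TOR**: an element of odd order of `N_Y(X)` which commutes with the `ψ (u α)` commutes with `ψ (SL₂)` -/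
theorem tor {y : Y} (hy : Pr p y) (hu : ∀ α, y * ψ (u α) = ψ (u α) * y) {m : ℕ} (hm : (y * y) ^ m = y)
    (g : SpecialLinearGroup (Fin 2) k) : y * ψ g = ψ g * y := by
  obtain ⟨b, a, h01⟩ := hy 0 1
  -- on `X`
  have hc0 : ∀ c, y • p c 0 = p (c * a) 0 := by
    intro c
    have h1 : y • p c 1 = p (b + c * a) a := by
      have h2 : ψ (u c) • p 0 1 = p c 1 := by rw [h.act_u]; congr 1; ring
      rw [← h2, ← mul_smul, hu, mul_smul, h01, h.act_u]
    have h2 : p c 0 = p c 1 + p 0 1 := by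
      rw [← h.add, add_zero, CharTwo.add_self_eq_zero]
    rw [h2, smul_add, h1, h01, ← h.add, CharTwo.add_self_eq_zero]
    congr 1
    have : b + c * a + b = (b + b) + c * a := by ring
    rw [this, CharTwo.add_self_eq_zero, zero_add]
  have ha : a ≠ 0 := by
    intro ha
    have h1 := hc0 1
    rw [ha, mul_zero, h.p0, smul_eq_zero_iff_eq] at h1
    exact one_ne_zero (h.inj _ _ h1).1
  have h0c : ∀ c, y • p 0 c = p (c * b) (c * a) := by
    intro c
    obtain ⟨c', hc'⟩ := h.line y hy 0 1 c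
    have h1 := hc' _ _ h01
    rw [mul_zero, mul_one] at h1
    have h2 : ψ (u 1) • p 0 c = p c c := by rw [h.act_u]; congr 1; ring
    have h3 : y • p c c = p (c' * b + c' * a) (c' * a) := by
      rw [← h2, ← mul_smul, hu, mul_smul, h1, h.act_u]; congr 1; ring
    have h4 : p c c = p c 0 + p 0 c := by rw [← h.add, add_zero, zero_add]
    rw [h4, smul_add, hc0, h1, ← h.add] at h3
    have h5 := (h.p_inj h3).1
    have h6 : c * a = c' * a := by
      have : c * a + c' * b = c' * a + c' * b := by rw [h5]; ring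
      exact add_right_cancel this
    have h7 : c = c' := mul_right_cancel₀ ha h6
    rw [h1, h7]
  have hxz : ∀ x z, y • p x z = p (x * a + z * b) (z * a) := by
    intro x z
    have h4 : p x z = p x 0 + p 0 z := by rw [← h.add, add_zero, zero_add]
    rw [h4, smul_add, hc0, h0c, ← h.add, zero_add]
  have hyy : ∀ x z, (y * y) • p x z = p (x * (a * a)) (z * (a * a)) := by
    intro x z
    rw [mul_smul, hxz, hxz]
    congr 1
    · have : (x * a + z * b) * a + z * a * b = x * (a * a) + (z * a * b + z * a * b) := by ring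
      rw [this, CharTwo.add_self_eq_zero, add_zero]
    · ring
  have hpow : ∀ (n : ℕ) x z, ((y * y) ^ n) • p x z = p (x * (a * a) ^ n) (z * (a * a) ^ n) := by
    intro n
    induction n with
    | zero => intro x z; rw [pow_zero, one_smul, pow_zero, mul_one, mul_one]
    | succ n ih =>
      intro x z
      rw [pow_succ, mul_smul, hyy, ih, pow_succ]
      congr 1 <;> ring
  have hsc : ∀ x z, y • p x z = p (x * (a * a) ^ m) (z * (a * a) ^ m) := by
    intro x z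
    conv_lhs => rw [← hm]
    rw [hpow]
  have hcX : ∀ (g : SpecialLinearGroup (Fin 2) k) x z, (y * ψ g) • p x z = (ψ g * y) • p x z := by
    intro g x z
    rw [mul_smul, mul_smul, h.act, hsc, hsc, h.act]
    congr 1 <;> ring
  -- on `V/X`
  obtain ⟨s, hs, hs1⟩ := h.exists_s
  have hs' := h.nS hy hs
  have hs'1 : y * s * y⁻¹ ≠ 1 := by
    intro h1
    rw [mul_inv_eq_one] at h1
    exact hs1 (mul_eq_left.1 h1)
  have hV : ∀ (g : SpecialLinearGroup (Fin 2) k) v, ∃ x z, (y * ψ g) • v + (ψ g * y) • v = p x z := by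
    intro g v
    apply h.VX (hcX g) hs hs' hs'1
    · have e1 : y * s * y⁻¹ * (y * ψ g) = y * (s * ψ g) := by group
      rw [e1, h.comm s hs, mul_assoc]
    · rw [← mul_assoc, h.comm _ hs']; group
  have hf : ∀ g : SpecialLinearGroup (Fin 2) k, y * ψ g * (ψ g * y)⁻¹ ∈ S := by
    intro g
    apply h.DD
    · intro x z
      obtain ⟨x', z', h1⟩ := h.Pr_inv (h.Pr_mul (h.Pr_ψ g) hy) x z
      rw [mul_smul, h1, hcX, ← h1, smul_inv_smul]
    · intro v
      obtain ⟨x, z, h1⟩ := hV g ((ψ g * y)⁻¹ • v)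
      refine ⟨x, z, ?_⟩
      rw [← h1, smul_inv_smul, mul_smul (y * ψ g)]
  -- `u`, `v`
  have hv : ∀ α, y * ψ (v α) = ψ (v α) * y := by
    intro α
    obtain ⟨s₀, hs₀, e0⟩ : ∃ s₀ ∈ S, y * ψ (w k) = s₀ * (ψ (w k) * y) := ⟨_, hf (w k), by group⟩
    have e1 : v α = w k * u α * (w k)⁻¹ := by rw [w_conj_u, CharTwo.neg_eq]
    have e2 : y * ψ (w k) * ψ (u α) = ψ (v α) * (y * ψ (w k)) := by
      rw [e0]
      have e3 : s₀ * (ψ (w k) * y) * ψ (u α) = s₀ * (ψ (w k) * (y * ψ (u α))) := by group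
      have e4 : ψ (w k) * ψ (u α) = ψ (v α) * ψ (w k) := by
        rw [← map_mul, ← map_mul, e1]; congr 1; group
      rw [e3, hu]
      have e5 : s₀ * (ψ (w k) * (ψ (u α) * y)) = s₀ * (ψ (w k) * ψ (u α)) * y := by group
      rw [e5, e4]
      have e6 : s₀ * (ψ (v α) * ψ (w k)) * y = s₀ * ψ (v α) * (ψ (w k) * y) := by group
      rw [e6, h.comm s₀ hs₀]; group
    have e7 : ψ (v α) = ψ (w k) * ψ (u α) * (ψ (w k))⁻¹ := by rw [e1, map_mul, map_mul, map_inv]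
    calc y * ψ (v α) = y * ψ (w k) * ψ (u α) * (ψ (w k))⁻¹ := by rw [e7]; group
      _ = ψ (v α) * y := by rw [e2]; group
  have htop := eq_top_of_uv ((centralizer {y}).comap ψ) (fun α => by
    rw [mem_comap, mem_centralizer_singleton_iff]; exact (hu α).symm) (fun α => by
    rw [mem_comap, mem_centralizer_singleton_iff]; exact (hv α).symm)
  have h9 : g ∈ (centralizer {y}).comap ψ := by rw [htop]; exact mem_top g
  rw [mem_comap, mem_centralizer_singleton_iff] at h9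
  exact h9.symm

end Nin

end Cfsg.Agent.Omega.NO1.B0

end

section


/-!
# THEOREM B0 (bb OMEGA 18835, helper970), (9): `N_Y(X)` normalises `ψ (SL₂)`; the tori; `V = X' ⊕ rX'`
-/

set_option autoImplicit false
set_option linter.unusedSectionVars false

namespace Cfsg.Agent.Omega.NO1.B0

open Subgroup Cfsg.Agent.ClassTwo.Sp4Defs Cfsg.Agent.ClassTwo.Sp4SL2 Matrix

variable {Y : Type*} [Group Y] {V : Type*} [AddCommGroup V] [DistribMulAction Y V] {k : Type*} [Field k]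

namespace Nin

variable [CharP k 2] {S : Subgroup Y} {ψ : SpecialLinearGroup (Fin 2) k →* Y} {p : k → k → V} {t : Y}
  (h : Nin S ψ p t)
include h

theorem nrm_aux {g : Y} (hg : Pr p g) (hg1 : g • p 1 0 = p 1 0) (m : SpecialLinearGroup (Fin 2) k) :
    ∃ m', ∃ s ∈ S, g * ψ m * g⁻¹ = s * ψ m' := by
  obtain ⟨σ, β, δ, hβ, hs⟩ := h.semi g hg hg1
  let A := σ (m.1 0 0)
  let B := σ (m.1 0 1)
  let C := σ (m.1 1 0)
  let D := σ (m.1 1 1)
  have hdet : A * D - B * C = 1 := by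
    have h1 := det_eq m
    have h2 := congrArg σ h1
    rw [map_sub, map_mul, map_mul, map_one] at h2
    exact h2
  have two : ∀ x : k, x + x = 0 := CharTwo.add_self_eq_zero
  let m' : SpecialLinearGroup (Fin 2) k :=
    ⟨!![A + δ * C, ((A + δ * C) * δ + B + δ * D) / β; β * C, δ * C + D], by
      rw [Matrix.det_fin_two_of]
      field_simp
      linear_combination hdet⟩
  have hX : ∀ x y, (g * ψ m) • p x y = (ψ m' * g) • p x y := by
    intro x y
    rw [mul_smul, mul_smul, h.act, hs, hs, h.act]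
    change p _ _ = p ((A + δ * C) * _ + ((A + δ * C) * δ + B + δ * D) / β * _) (β * C * _ + (δ * C + D) * _)
    rw [map_add, map_add, map_mul, map_mul, map_mul, map_mul]
    change p (A * σ x + B * σ y + δ * (C * σ x + D * σ y)) (β * (C * σ x + D * σ y)) = _
    congr 1
    · field_simp
      linear_combination -two (A * δ * σ y + C * δ ^ 2 * σ y)
    · linear_combination -two (β * C * δ * σ y)
  obtain ⟨s, hs', hs1⟩ := h.exists_s
  have hs2 := h.nS hg hs'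
  have hs3 : g * s * g⁻¹ ≠ 1 := by
    intro h1
    rw [mul_inv_eq_one] at h1
    exact hs1 (mul_eq_left.1 h1)
  have hV : ∀ w, ∃ x z, (g * ψ m) • w + (ψ m' * g) • w = p x z := by
    intro w
    apply h.VX hX hs' hs2 hs3
    · have e1 : g * s * g⁻¹ * (g * ψ m) = g * (s * ψ m) := by group
      rw [e1, h.comm s hs', mul_assoc]
    · rw [← mul_assoc, h.comm _ hs2]; group
  refine ⟨m', g * ψ m * (ψ m' * g)⁻¹, ?_, by group⟩
  apply h.DD
  · intro x z
    obtain ⟨x', z', h1⟩ := h.Pr_inv (h.Pr_mul (h.Pr_ψ m') hg) x z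
    rw [mul_smul, h1, hX, ← h1, smul_inv_smul]
  · intro w
    obtain ⟨x, z, h1⟩ := hV ((ψ m' * g)⁻¹ • w)
    refine ⟨x, z, ?_⟩
    rw [← h1, smul_inv_smul, mul_smul (g * ψ m)]

/-- `N_Y(X) ∩ C(p 1 0)` normalises `ψ (SL₂)` -/
theorem nrm {g : Y} (hg : Pr p g) (hg1 : g • p 1 0 = p 1 0) (m : SpecialLinearGroup (Fin 2) k) :
    ∃ m', g * ψ m * g⁻¹ = ψ m' := by
  have hu : ∀ α, ∃ m', g * ψ (u α) * g⁻¹ = ψ m' := by
    intro α
    obtain ⟨l, b, e⟩ := u_mem_commutator h.q4 α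
    obtain ⟨m₁, s₁, hs₁, e₁⟩ := h.nrm_aux hg hg1 (d l)
    obtain ⟨m₂, s₂, hs₂, e₂⟩ := h.nrm_aux hg hg1 (u b)
    refine ⟨m₁ * m₂ * m₁⁻¹ * m₂⁻¹, ?_⟩
    have e3 : g * ψ (u α) * g⁻¹ =
        (g * ψ (d l) * g⁻¹) * (g * ψ (u b) * g⁻¹) * (g * ψ (d l) * g⁻¹)⁻¹ * (g * ψ (u b) * g⁻¹)⁻¹ := by
      rw [e, map_mul, map_mul, map_mul, map_inv, map_inv]; group
    rw [e3, e₁, e₂, map_mul, map_mul, map_mul, map_inv, map_inv]
    have c1 := h.comm s₁ hs₁ m₂
    have c2 := h.comm s₂ hs₂ m₁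
    have c3 := h.comm s₁ hs₁ m₁
    have c4 := h.comm s₂ hs₂ m₂
    have c5 := h.Sab s₁ hs₁ s₂ hs₂
    have e4 : s₁ * ψ m₁ * (s₂ * ψ m₂) = (s₁ * s₂) * (ψ m₁ * ψ m₂) := by
      calc s₁ * ψ m₁ * (s₂ * ψ m₂) = s₁ * (ψ m₁ * s₂) * ψ m₂ := by group
        _ = s₁ * (s₂ * ψ m₁) * ψ m₂ := by rw [c2]
        _ = _ := by group
    have e5 : s₂ * ψ m₂ * (s₁ * ψ m₁) = (s₁ * s₂) * (ψ m₂ * ψ m₁) := by
      calc s₂ * ψ m₂ * (s₁ * ψ m₁) = s₂ * (ψ m₂ * s₁) * ψ m₁ := by group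
        _ = s₂ * (s₁ * ψ m₂) * ψ m₁ := by rw [c1]
        _ = (s₂ * s₁) * ψ m₂ * ψ m₁ := by group
        _ = _ := by rw [← c5]; group
    have e6 : s₁ * ψ m₁ * (s₂ * ψ m₂) * (s₁ * ψ m₁)⁻¹ * (s₂ * ψ m₂)⁻¹ =
        (s₁ * ψ m₁ * (s₂ * ψ m₂)) * (s₂ * ψ m₂ * (s₁ * ψ m₁))⁻¹ := by group
    rw [e6, e4, e5]
    have c6 : s₁ * s₂ * (ψ m₁ * ψ m₂ * (ψ m₁)⁻¹ * (ψ m₂)⁻¹) = (ψ m₁ * ψ m₂ * (ψ m₁)⁻¹ * (ψ m₂)⁻¹) * (s₁ * s₂) := by
      have := h.comm (s₁ * s₂) (mul_mem hs₁ hs₂) (m₁ * m₂ * m₁⁻¹ * m₂⁻¹)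
      rwa [map_mul, map_mul, map_mul, map_inv, map_inv] at this
    calc (s₁ * s₂) * (ψ m₁ * ψ m₂) * ((s₁ * s₂) * (ψ m₂ * ψ m₁))⁻¹
        = (s₁ * s₂ * (ψ m₁ * ψ m₂ * (ψ m₁)⁻¹ * (ψ m₂)⁻¹)) * (s₁ * s₂)⁻¹ := by group
      _ = _ := by rw [c6]; group
  have hv : ∀ α, ∃ m', g * ψ (v α) * g⁻¹ = ψ m' := by
    intro α
    obtain ⟨m₁, e₁⟩ := hu α
    obtain ⟨m₂, s₂, hs₂, e₂⟩ := h.nrm_aux hg hg1 (w k)
    refine ⟨m₂ * m₁ * m₂⁻¹, ?_⟩
    have e : v α = w k * u α * (w k)⁻¹ := by rw [w_conj_u, CharTwo.neg_eq]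
    have e3 : g * ψ (v α) * g⁻¹ = (g * ψ (w k) * g⁻¹) * (g * ψ (u α) * g⁻¹) * (g * ψ (w k) * g⁻¹)⁻¹ := by
      rw [e, map_mul, map_mul, map_inv]; group
    have c := h.comm s₂ hs₂ (m₂ * m₁ * m₂⁻¹)
    rw [map_mul, map_mul, map_inv] at c
    rw [e3, e₁, e₂, map_mul, map_mul, map_inv]
    calc s₂ * ψ m₂ * ψ m₁ * (s₂ * ψ m₂)⁻¹ = (s₂ * (ψ m₂ * ψ m₁ * (ψ m₂)⁻¹)) * s₂⁻¹ := by group
      _ = _ := by rw [c]; group
  have htop := eq_top_of_uv ((ψ.range.comap (MulAut.conj g).toMonoidHom).comap ψ) (fun α => by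
    obtain ⟨m', e⟩ := hu α
    exact ⟨m', e.symm⟩) (fun α => by
    obtain ⟨m', e⟩ := hv α
    exact ⟨m', e.symm⟩)
  have h9 : m ∈ (ψ.range.comap (MulAut.conj g).toMonoidHom).comap ψ := by rw [htop]; exact mem_top m
  obtain ⟨m', e⟩ := h9
  exact ⟨m', e.symm⟩

/-! ### `X' = t • X` -/

/-- `t S t⁻¹ = {ψ (u α)}` -/
theorem conj_surj (α : k) : ∃ s ∈ S, t * s * t⁻¹ = ψ (u α) := by
  have := h.fk
  have := h.fS
  have h1 : ∀ s : S, ∃ α, t * (s : Y) * t⁻¹ = ψ (u α) := fun s => h.conj s s.2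
  choose f hf using h1
  have hinj : Function.Injective f := by
    intro s s' hss
    have h2 := hf s
    rw [hss, ← hf s'] at h2
    exact Subtype.ext (mul_left_cancel (mul_right_cancel h2))
  obtain ⟨s, hs⟩ := ((Nat.bijective_iff_injective_and_card f).2 ⟨hinj, h.cS⟩).2 α
  exact ⟨s, s.2, by rw [hf s, hs]⟩

theorem t_inv_u (α : k) : t⁻¹ * ψ (u α) * t ∈ S := by
  obtain ⟨s, hs, e⟩ := h.conj_surj α
  rw [← e]
  have : t⁻¹ * (t * s * t⁻¹) * t = s := by group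
  rwa [this]

theorem t_u (α : k) : t * ψ (u α) * t⁻¹ ∈ S := by
  obtain ⟨s, hs, e⟩ := h.conj_surj α
  have h1 := h.nS h.tt hs
  have e1 : t * t * s * (t * t)⁻¹ = t * (t * s * t⁻¹) * t⁻¹ := by group
  rwa [e1, e] at h1

/-- `S = t S' t⁻¹` -/
theorem t_u_surj {s : Y} (hs : s ∈ S) : ∃ α, s = t * ψ (u α) * t⁻¹ := by
  have h1 := h.nS' h.tt hs
  obtain ⟨α, e⟩ := h.conj _ h1
  refine ⟨α, ?_⟩
  rw [← e]; group

theorem t_inv_u_surj {s : Y} (hs : s ∈ S) : ∃ α, s = t⁻¹ * ψ (u α) * t := by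
  obtain ⟨α, e⟩ := h.conj s hs
  refine ⟨α, ?_⟩
  rw [← e]; group

/-- `X' = C_V(S')` -/
theorem mem_X' {x : V} (hx : ∀ α, ψ (u α) • x = x) : ∃ a b, x = t • p a b := by
  obtain ⟨s, hs, hs1⟩ := h.exists_s
  obtain ⟨α, e⟩ := h.conj s hs
  obtain ⟨a, b, h1⟩ := h.Sfix s hs hs1 (t⁻¹ • x) (by
    have h2 := hx α
    rw [← e] at h2
    have h3 : t⁻¹ • (t * s * t⁻¹) • x = t⁻¹ • x := by rw [h2]
    rw [← mul_smul] at h3
    have e2 : t⁻¹ * (t * s * t⁻¹) = s * t⁻¹ := by group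
    rw [e2, mul_smul] at h3
    exact h3)
  exact ⟨a, b, by rw [← h1, smul_inv_smul]⟩

theorem u_X' (α a b : k) : ψ (u α) • t • p a b = t • p a b := by
  obtain ⟨s, hs, e⟩ := h.conj_surj α
  rw [← e, ← mul_smul]
  have e2 : t * s * t⁻¹ * t = t * s := by group
  rw [e2, mul_smul, h.fix s hs]

/-- `[V, S'] ≤ X'` -/
theorem u_V (α : k) (x : V) : ∃ a b, ψ (u α) • x + x = t • p a b := by
  obtain ⟨s, hs, e⟩ := h.conj_surj α
  obtain ⟨a, b, h1⟩ := h.SV s hs (t⁻¹ • x)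
  refine ⟨a, b, ?_⟩
  rw [← h1, ← e, smul_add, smul_inv_smul, mul_smul, mul_smul]

/-- `X'` is also `t⁻¹ • X` -/
theorem t_inv_p (a b : k) : ∃ a' b', t⁻¹ • p a b = t • p a' b' := by
  apply h.mem_X'
  intro α
  obtain ⟨s, hs, e⟩ : ∃ s ∈ S, ψ (u α) = t⁻¹ * s * t := ⟨_, h.t_u α, by group⟩
  rw [e, ← mul_smul]
  have e2 : t⁻¹ * s * t * t⁻¹ = t⁻¹ * s := by group
  rw [e2, mul_smul, h.fix s hs]

theorem d_X' (l : kˣ) (a b : k) : ∃ a' b', ψ (d l) • t • p a b = t • p a' b' := by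
  apply h.mem_X'
  intro α
  have e : u α * d l = d l * u (((l⁻¹ : kˣ) : k) ^ 2 * α) := by
    have h1 := d_conj_u l (((l⁻¹ : kˣ) : k) ^ 2 * α)
    have h2 : (l : k) ^ 2 * (((l⁻¹ : kˣ) : k) ^ 2 * α) = α := by
      rw [← mul_assoc, ← mul_pow, ← Units.val_mul, mul_inv_cancel, Units.val_one, one_pow, one_mul]
    rw [h2] at h1
    rw [← h1]; group
  rw [← mul_smul, ← map_mul, e, map_mul, mul_smul, h.u_X']

theorem d_pow (l : kˣ) : d l ^ (Nat.card k - 1) = 1 := by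
  have := h.fk
  have h1 : ∀ n : ℕ, d l ^ n = d (l ^ n) := by
    intro n
    induction n with
    | zero => rw [pow_zero, pow_zero, d_one]
    | succ n ih => rw [pow_succ, ih, d_mul, pow_succ]
  rw [h1]
  have h2 : l ^ (Nat.card k - 1) = 1 := by
    have h3 : Nat.card kˣ = Nat.card k - 1 := Nat.card_units k
    rw [← h3]
    exact pow_card_eq_one'
  rw [h2, d_one]

theorem even_k : ∃ m, Nat.card k = 2 * m := by
  have := h.fk
  have := Fintype.ofFinite k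
  obtain ⟨n, -, hn⟩ := FiniteField.card k 2
  refine ⟨2 ^ ((n : ℕ) - 1), ?_⟩
  rw [Nat.card_eq_fintype_card, hn, ← pow_succ', Nat.sub_add_cancel n.pos]

/-- every conjugate of `ψ (d l)` has odd order -/
theorem odd_d (l : kˣ) : ∃ m : ℕ, (ψ (d l) * ψ (d l)) ^ m = ψ (d l) := by
  obtain ⟨m, hm⟩ := h.even_k
  have hq := h.q4
  refine ⟨m, ?_⟩
  have e : m + m = (Nat.card k - 1) + 1 := by omega
  rw [← map_mul, ← map_pow, ← pow_two, ← pow_mul, two_mul, e, pow_succ, h.d_pow, one_mul]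

/-- `t⁻¹ ψ(d l) t` commutes with `ψ (SL₂)` -/
theorem tor₁ (l : kˣ) (g : SpecialLinearGroup (Fin 2) k) :
    t⁻¹ * ψ (d l) * t * ψ g = ψ g * (t⁻¹ * ψ (d l) * t) := by
  obtain ⟨m, hm⟩ := h.odd_d l
  refine h.tor (m := m) ?_ ?_ ?_ g
  · intro x y
    obtain ⟨a', b', e⟩ := h.d_X' l x y
    refine ⟨a', b', ?_⟩
    rw [mul_smul, mul_smul, e, inv_smul_smul]
  · intro α
    have h1 := h.comm _ (h.t_u α) (d l)
    calc t⁻¹ * ψ (d l) * t * ψ (u α) = t⁻¹ * (ψ (d l) * (t * ψ (u α) * t⁻¹)) * t := by group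
      _ = t⁻¹ * ((t * ψ (u α) * t⁻¹) * ψ (d l)) * t := by rw [h1]
      _ = _ := by group
  · have e : (t⁻¹ * ψ (d l) * t * (t⁻¹ * ψ (d l) * t)) ^ m = t⁻¹ * (ψ (d l) * ψ (d l)) ^ m * t := by
      have e1 : t⁻¹ * ψ (d l) * t * (t⁻¹ * ψ (d l) * t) = t⁻¹ * (ψ (d l) * ψ (d l)) * t⁻¹⁻¹ := by group
      rw [e1, conj_pow, inv_inv]
    rw [e, hm]

/-- `t ψ(d l) t⁻¹` commutes with `ψ (SL₂)` -/
theorem tor₂ (l : kˣ) (g : SpecialLinearGroup (Fin 2) k) :
    t * ψ (d l) * t⁻¹ * ψ g = ψ g * (t * ψ (d l) * t⁻¹) := by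
  obtain ⟨m, hm⟩ := h.odd_d l
  refine h.tor (m := m) ?_ ?_ ?_ g
  · intro x y
    obtain ⟨a, b, e⟩ := h.t_inv_p x y
    obtain ⟨a', b', e'⟩ := h.d_X' l a b
    obtain ⟨a'', b'', e''⟩ := h.tt a' b'
    refine ⟨a'', b'', ?_⟩
    rw [mul_smul, mul_smul, e, e', ← mul_smul, e'']
  · intro α
    have h1 := h.comm _ (h.t_inv_u α) (d l)
    calc t * ψ (d l) * t⁻¹ * ψ (u α) = t * (ψ (d l) * (t⁻¹ * ψ (u α) * t)) * t⁻¹ := by group
      _ = t * ((t⁻¹ * ψ (u α) * t) * ψ (d l)) * t⁻¹ := by rw [h1]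
      _ = _ := by group
  · have e : (t * ψ (d l) * t⁻¹ * (t * ψ (d l) * t⁻¹)) ^ m = t * (ψ (d l) * ψ (d l)) ^ m * t⁻¹ := by
      have e1 : t * ψ (d l) * t⁻¹ * (t * ψ (d l) * t⁻¹) = t * (ψ (d l) * ψ (d l)) * t⁻¹ := by group
      rw [e1, conj_pow]
    rw [e, hm]

end Nin

end Cfsg.Agent.Omega.NO1.B0

end

section


/-!
# THEOREM B0 (bb OMEGA 18835, helper970), (9): `V = X' ⊕ rX'`; `[K₁, K₂] = 1` for `a > 4`

`r = ψ w`, `κ = t r t⁻¹`: `κ r (t • p a b) = t • p (δ a⁻¹) (δ b⁻¹) + r (t • p b a)` (`exists_δ`); `δ = 0` for `|k| > 4`.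
-/

set_option autoImplicit false
set_option linter.unusedSectionVars false

namespace Cfsg.Agent.Omega.NO1.B0

open Subgroup Cfsg.Agent.ClassTwo.Sp4Defs Cfsg.Agent.ClassTwo.Sp4SL2 Matrix

variable {Y : Type*} [Group Y] {V : Type*} [AddCommGroup V] [DistribMulAction Y V] {k : Type*} [Field k]

namespace Nin

variable [CharP k 2] {S : Subgroup Y} {ψ : SpecialLinearGroup (Fin 2) k →* Y} {p : k → k → V} {t : Y}
  (h : Nin S ψ p t)
include h

theorem fixed_zero {x : V} (hx : ∀ g, ψ g • x = x) : x = 0 := by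
  have key : ∀ a b, (∀ g, ψ g • p a b = p a b) → p a b = 0 := by
    intro a b hab
    have h1 := hab (w k)
    have h2 := hab (u 1)
    rw [h.act_w] at h1
    rw [h.act_u] at h2
    obtain ⟨h3, h4⟩ := h.p_inj h1
    obtain ⟨h5, -⟩ := h.p_inj h2
    rw [one_mul, add_eq_left] at h5
    rw [h3] at h5
    rw [h3, h5, h.p0]
  obtain ⟨s, hs, hs1⟩ := h.exists_s
  obtain ⟨a, b, h1⟩ := h.SV s hs x
  have h2 : p a b = 0 := by
    apply key
    intro g
    rw [← h1, smul_add, hx, ← mul_smul, ← h.comm s hs, mul_smul, hx]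
  rw [h2] at h1
  obtain ⟨a', b', h3⟩ := h.Sfix s hs hs1 x (h.eq_of_add h1)
  rw [h3]
  apply key
  intro g
  rw [← h3, hx]

theorem add_t (a b a' b' : k) : t • p (a + a') (b + b') = t • p a b + t • p a' b' := by
  rw [h.add, smul_add]

theorem add_rt (a b a' b' : k) : ψ (w k) • t • p (a + a') (b + b') = ψ (w k) • t • p a b + ψ (w k) • t • p a' b' := by
  rw [h.add_t, smul_add]

theorem rr (x : V) : ψ (w k) • ψ (w k) • x = x := by
  rw [← mul_smul, ← map_mul, w_mul_w, map_one, one_smul]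

theorem P_zero {a b c e : k} (h1 : t • p a b + ψ (w k) • t • p c e = 0) : a = 0 ∧ b = 0 ∧ c = 0 ∧ e = 0 := by
  have h2 := h.eq_of_add h1
  have h3 : t • p a b = 0 := by
    apply h.fixed_zero
    have htop := eq_top_of_uv ((MulAction.stabilizer Y (t • p a b)).comap ψ) (fun α => h.u_X' α a b) (fun α => by
      change ψ (v α) • t • p a b = t • p a b
      rw [h2, ← w_u_w, map_mul, map_mul, mul_smul, mul_smul, h.rr, h.u_X'])
    intro g
    have h9 : g ∈ (MulAction.stabilizer Y (t • p a b)).comap ψ := by rw [htop]; exact mem_top g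
    exact h9
  have h4 : ψ (w k) • t • p c e = 0 := by rw [← h2, h3]
  rw [smul_eq_zero_iff_eq] at h3 h4
  rw [smul_eq_zero_iff_eq] at h4
  obtain ⟨h5, h6⟩ := h.inj _ _ h3
  obtain ⟨h7, h8⟩ := h.inj _ _ h4
  exact ⟨h5, h6, h7, h8⟩

theorem P_inj {a b c e a' b' c' e' : k}
    (h1 : t • p a b + ψ (w k) • t • p c e = t • p a' b' + ψ (w k) • t • p c' e') :
    a = a' ∧ b = b' ∧ c = c' ∧ e = e' := by
  have h2 : t • p (a + a') (b + b') + ψ (w k) • t • p (c + c') (e + e') = 0 := by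
    rw [h.add_t, h.add_rt]
    have e1 : t • p a b + t • p a' b' + (ψ (w k) • t • p c e + ψ (w k) • t • p c' e') =
        (t • p a b + ψ (w k) • t • p c e) + (t • p a' b' + ψ (w k) • t • p c' e') := by abel
    rw [e1, h1, h.two]
  obtain ⟨h3, h4, h5, h6⟩ := h.P_zero h2
  exact ⟨CharTwo.add_eq_zero.1 h3, CharTwo.add_eq_zero.1 h4, CharTwo.add_eq_zero.1 h5, CharTwo.add_eq_zero.1 h6⟩

theorem P_surj (x : V) : ∃ a b c e, x = t • p a b + ψ (w k) • t • p c e := by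
  have := h.fk
  have := h.fV
  let f : k × k × k × k → V := fun a => t • p a.1 a.2.1 + ψ (w k) • t • p a.2.2.1 a.2.2.2
  have hinj : Function.Injective f := by
    rintro ⟨a, b, c, e⟩ ⟨a', b', c', e'⟩ hab
    obtain ⟨rfl, rfl, rfl, rfl⟩ := h.P_inj hab
    rfl
  have hcard : Nat.card (k × k × k × k) = Nat.card V := by
    rw [h.cV, Nat.card_prod, Nat.card_prod, Nat.card_prod]; ring
  obtain ⟨⟨a, b, c, e⟩, hx⟩ := ((Nat.bijective_iff_injective_and_card f).2 ⟨hinj, hcard⟩).2 x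
  exact ⟨a, b, c, e, hx.symm⟩

/-- two elements which agree on `X'` and `rX'` -/
theorem eq_of_P {g g' : Y} (h1 : ∀ a b, g • t • p a b = g' • t • p a b)
    (h2 : ∀ a b, g • ψ (w k) • t • p a b = g' • ψ (w k) • t • p a b) : g = g' := by
  have h3 : g'⁻¹ * g = 1 := by
    apply h.faith
    intro x
    obtain ⟨a, b, c, e, rfl⟩ := h.P_surj x
    rw [mul_smul, smul_add g, h1, h2, ← smul_add, inv_smul_smul]
  rw [inv_mul_eq_one] at h3
  exact h3.symm

/-- `ψ (d l)` acts on `X'` as a scalar -/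
theorem exists_χ_aux (l : kˣ) : ∃ c : k, ∀ a b, ψ (d l) • t • p a b = t • p (c * a) (c * b) := by
  choose f f' hf using h.d_X' l
  have hadd : ∀ a b a' b', f (a + a') (b + b') = f a b + f a' b' ∧ f' (a + a') (b + b') = f' a b + f' a' b' := by
    intro a b a' b'
    have h1 := hf (a + a') (b + b')
    rw [h.add_t, smul_add, hf, hf, ← h.add_t, smul_left_cancel_iff] at h1
    obtain ⟨h2, h3⟩ := h.p_inj h1
    exact ⟨h2.symm, h3.symm⟩
  let F : (Fin 2 → k) →+ (Fin 2 → k) := AddMonoidHom.mk' (fun x => ![f (x 0) (x 1), f' (x 0) (x 1)]) (by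
    intro x y
    ext i
    fin_cases i
    · exact (hadd _ _ _ _).1
    · exact (hadd _ _ _ _).2)
  obtain ⟨c, hc⟩ := end_scalar F (by
    intro g x
    have h1 := hf (x 0) (x 1)
    have h2 := hf (g.1 0 0 * x 0 + g.1 0 1 * x 1) (g.1 1 0 * x 0 + g.1 1 1 * x 1)
    rw [← h.act g (x 0) (x 1)] at h2
    have h3 : ψ (d l) • t • ψ g • p (x 0) (x 1) = t • ψ g • t⁻¹ • ψ (d l) • t • p (x 0) (x 1) := by
      have h4 := h.tor₁ l g
      have h5 : ψ (d l) * t * ψ g = t * ψ g * t⁻¹ * ψ (d l) * t := by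
        calc ψ (d l) * t * ψ g = t * (t⁻¹ * ψ (d l) * t * ψ g) := by group
          _ = t * (ψ g * (t⁻¹ * ψ (d l) * t)) := by rw [h4]
          _ = _ := by group
      have h6 := congrArg (fun y : Y => y • p (x 0) (x 1)) h5
      simp only [mul_smul] at h6
      exact h6
    rw [h3, h1, inv_smul_smul, h.act, smul_left_cancel_iff] at h2
    obtain ⟨h4, h5⟩ := h.p_inj h2
    rw [Cfsg.Agent.ClassTwo.Sp4SL2.mulVec_apply, Cfsg.Agent.ClassTwo.Sp4SL2.mulVec_apply]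
    ext i
    fin_cases i
    · change f _ _ = _
      simp only [Matrix.cons_val_zero, Matrix.cons_val_one]
      rw [← h4]; rfl
    · change f' _ _ = _
      simp only [Matrix.cons_val_zero, Matrix.cons_val_one]
      rw [← h5]; rfl)
  refine ⟨c, fun a b => ?_⟩
  have h1 := hc ![a, b]
  have h2 := congrFun h1 0
  have h3 := congrFun h1 1
  change f a b = c * a at h2
  change f' a b = c * b at h3
  rw [hf, h2, h3]

theorem exists_χ : ∃ χ : kˣ → kˣ, (∀ l a b, ψ (d l) • t • p a b = t • p (χ l * a) (χ l * b)) ∧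
    (∀ l a b, ψ (d l) • ψ (w k) • t • p a b = ψ (w k) • t • p ((χ l)⁻¹ * a) ((χ l)⁻¹ * b)) ∧
    Function.Surjective χ := by
  have := h.fk
  have hc : ∀ l : kˣ, ∃ c : kˣ, ∀ a b, ψ (d l) • t • p a b = t • p (c * a) (c * b) := by
    intro l
    obtain ⟨c, hc⟩ := h.exists_χ_aux l
    have hc0 : c ≠ 0 := by
      intro h0
      have h1 := hc 1 0
      rw [h0, zero_mul, zero_mul, h.p0, smul_zero, smul_eq_zero_iff_eq, smul_eq_zero_iff_eq] at h1
      exact one_ne_zero (h.inj _ _ h1).1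
    exact ⟨Units.mk0 c hc0, hc⟩
  choose χ hχ using hc
  have hχ' : ∀ l a b, ψ (d l) • ψ (w k) • t • p a b = ψ (w k) • t • p ((χ l)⁻¹ * a) ((χ l)⁻¹ * b) := by
    intro l a b
    have e1 : d l * w k = w k * (d l)⁻¹ := by
      have := w_d_w l
      rw [← this, ← mul_assoc, ← mul_assoc, w_mul_w, one_mul]
    have e2 : ψ (d l) • ψ (w k) • t • p a b = ψ (w k) • (ψ (d l))⁻¹ • t • p a b := by
      rw [← mul_smul, ← map_mul, e1, map_mul, mul_smul, map_inv]
    rw [e2]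
    congr 1
    rw [inv_smul_eq_iff, hχ, ← mul_assoc, ← mul_assoc, Units.mul_inv, one_mul, one_mul]
  refine ⟨χ, hχ, hχ', ?_⟩
  apply Finite.surjective_of_injective
  have hmul : ∀ l l', χ (l * l') = χ l * χ l' := by
    intro l l'
    have h1 := hχ (l * l') 1 0
    rw [← d_mul, map_mul, mul_smul, hχ, hχ, smul_left_cancel_iff] at h1
    apply Units.ext
    have h2 := (h.p_inj h1).1
    rw [mul_one, mul_one] at h2
    exact h2.symm
  have hone : ∀ l, χ l = 1 → l = 1 := by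
    intro l hl
    have h1 : ψ (d l) = 1 := by
      apply h.eq_of_P
      · intro a b
        rw [hχ, hl, Units.val_one, one_mul, one_mul, one_smul]
      · intro a b
        rw [hχ', hl, inv_one, Units.val_one, one_mul, one_mul, one_smul]
    have h2 := h.ψ_inj h1
    rw [← d_one] at h2
    exact d_injective h2
  intro l l' hll
  have h1 : χ (l * l'⁻¹) * χ l' = χ l := by rw [← hmul, inv_mul_cancel_right]
  rw [hll] at h1
  have h2 := hone _ (mul_eq_right.1 h1)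
  rw [mul_inv_eq_one] at h2
  exact h2

/-- the braid relation -/
theorem u_rt (a b : k) : ψ (u 1) • ψ (w k) • t • p a b = t • p a b + ψ (w k) • t • p a b := by
  obtain ⟨a', b', h1⟩ := h.u_V 1 (ψ (w k) • t • p a b)
  have h2 : ψ (u 1) • ψ (w k) • t • p a b = t • p a' b' + ψ (w k) • t • p a b := by
    rw [← h1, add_assoc, h.two, add_zero]
  have e : (w k) * u (1 : k) * w k = u 1 * w k * u 1 := by
    rw [w_u_w, w_eq', ← mul_assoc, ← mul_assoc, u_mul_self, one_mul, mul_assoc, u_mul_self, mul_one]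
  have h3 : ψ (w k * u (1 : k) * w k) • t • p a b = ψ (u 1 * w k * u 1) • t • p a b := by rw [e]
  rw [map_mul, map_mul, map_mul, map_mul, mul_smul, mul_smul, mul_smul, mul_smul, h.u_X', h2, smul_add, h.rr,
    add_comm (ψ (w k) • t • p a' b')] at h3
  obtain ⟨h4, h5, -, -⟩ := h.P_inj h3
  rw [h2, h4, h5]

/-- `t ψ(g) t⁻¹` on `X'` -/
theorem K₁_X' (g : SpecialLinearGroup (Fin 2) k) (a b : k) : (t * ψ g * t⁻¹) • t • p a b = t • ψ g • p a b := by
  rw [← mul_smul, inv_mul_cancel_right, mul_smul]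

/-- `t ψ(g) t⁻¹` commutes with `S'` -/
theorem K₁_u (g : SpecialLinearGroup (Fin 2) k) (α : k) : t * ψ g * t⁻¹ * ψ (u α) = ψ (u α) * (t * ψ g * t⁻¹) := by
  have h1 := h.comm _ (h.t_inv_u α) g
  calc t * ψ g * t⁻¹ * ψ (u α) = t * (ψ g * (t⁻¹ * ψ (u α) * t)) * t⁻¹ := by group
    _ = t * ((t⁻¹ * ψ (u α) * t) * ψ g) * t⁻¹ := by rw [h1]
    _ = _ := by group

/-- `t ψ(g) t⁻¹` commutes with the torus `ψ (d l)` -/
theorem K₁_d (g : SpecialLinearGroup (Fin 2) k) (l : kˣ) : t * ψ g * t⁻¹ * ψ (d l) = ψ (d l) * (t * ψ g * t⁻¹) := by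
  have h1 := h.tor₁ l g
  calc t * ψ g * t⁻¹ * ψ (d l) = t * (ψ g * (t⁻¹ * ψ (d l) * t)) * t⁻¹ := by group
    _ = t * ((t⁻¹ * ψ (d l) * t) * ψ g) * t⁻¹ := by rw [h1]
    _ = _ := by group

/-- `t ψ(g) t⁻¹` on `rX'` -/
theorem K₁_rX' (g : SpecialLinearGroup (Fin 2) k) (a b : k) :
    ∃ A B, (t * ψ g * t⁻¹) • ψ (w k) • t • p a b = t • p A B + ψ (w k) • t • ψ g • p a b := by
  obtain ⟨A, B, C, D, h1⟩ := h.P_surj ((t * ψ g * t⁻¹) • ψ (w k) • t • p a b)
  refine ⟨A, B, ?_⟩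
  have h2 : (t * ψ g * t⁻¹) • ψ (u 1) • ψ (w k) • t • p a b = ψ (u 1) • (t * ψ g * t⁻¹) • ψ (w k) • t • p a b := by
    rw [← mul_smul, h.K₁_u, mul_smul]
  obtain ⟨a', b', hab⟩ := h.Pr_ψ g a b
  rw [h.u_rt, smul_add, h1, smul_add, h.u_X', h.u_rt, h.K₁_X', hab] at h2
  have h3 : t • p (a' + A) (b' + B) + ψ (w k) • t • p C D = t • p (A + C) (B + D) + ψ (w k) • t • p C D := by
    rw [h.add_t, h.add_t, add_assoc, add_assoc]
    exact h2
  obtain ⟨h4, h5, -, -⟩ := h.P_inj h3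
  rw [add_comm a', add_right_inj] at h4
  rw [add_comm b', add_right_inj] at h5
  rw [h1, hab, h4, h5]

/-- `κ = t ψ(w) t⁻¹` on `rX'` -/
theorem exists_δ : ∃ δ : k, ∀ a b, (t * ψ (w k) * t⁻¹) • ψ (w k) • t • p a b =
    t • p (δ * a⁻¹) (δ * b⁻¹) + ψ (w k) • t • p b a := by
  have h1 : ∀ a b, ∃ A B, (t * ψ (w k) * t⁻¹) • ψ (w k) • t • p a b = t • p A B + ψ (w k) • t • p b a := by
    intro a b
    obtain ⟨A, B, h2⟩ := h.K₁_rX' (w k) a b
    refine ⟨A, B, ?_⟩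
    rw [h2, h.act_w]
  choose A B hAB using h1
  have hadd : ∀ a b a' b', A (a + a') (b + b') = A a b + A a' b' ∧ B (a + a') (b + b') = B a b + B a' b' := by
    intro a b a' b'
    have h2 := hAB (a + a') (b + b')
    rw [h.add_rt, smul_add, hAB, hAB, h.add_rt] at h2
    have h3 : t • p (A a b + A a' b') (B a b + B a' b') + ψ (w k) • t • p (b + b') (a + a') =
        t • p (A (a + a') (b + b')) (B (a + a') (b + b')) + ψ (w k) • t • p (b + b') (a + a') := by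
      rw [h.add_t, h.add_rt, ← h2]; abel
    obtain ⟨h4, h5, -, -⟩ := h.P_inj h3
    exact ⟨h4.symm, h5.symm⟩
  obtain ⟨χ, hχ, hχ', hχs⟩ := h.exists_χ
  -- scalars
  have hsc : ∀ (l : kˣ) a b, A (l * a) (l * b) = (l : k)⁻¹ * A a b ∧ B (l * a) (l * b) = (l : k)⁻¹ * B a b := by
    intro l a b
    obtain ⟨m, hm⟩ := hχs l⁻¹
    have h2 : (t * ψ (w k) * t⁻¹) • ψ (d m) • ψ (w k) • t • p a b =
        ψ (d m) • (t * ψ (w k) * t⁻¹) • ψ (w k) • t • p a b := by
      rw [← mul_smul, h.K₁_d, mul_smul]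
    rw [hχ', hm, inv_inv, hAB, hAB, smul_add, hχ, hχ', hm, inv_inv] at h2
    obtain ⟨h3, h4, -, -⟩ := h.P_inj h2
    rw [Units.val_inv_eq_inv_val] at h3 h4
    exact ⟨h3, h4⟩
  -- the other torus
  have hto : ∀ (l : kˣ) a b, A (l * a) ((l⁻¹ : kˣ) * b) = (l⁻¹ : kˣ) * A a b ∧
      B (l * a) ((l⁻¹ : kˣ) * b) = l * B a b := by
    intro l a b
    have e1 : t * ψ (w k) * t⁻¹ * (t * ψ (d l) * t⁻¹) = t * ψ (d l⁻¹) * t⁻¹ * (t * ψ (w k) * t⁻¹) := by
      have e2 : w k * d l = d l⁻¹ * w k := by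
        rw [← d_inv, ← w_d_w l, mul_assoc, w_mul_w, mul_one]
      have e3 : ψ (w k) * ψ (d l) = ψ (d l⁻¹) * ψ (w k) := by rw [← map_mul, e2, map_mul]
      calc t * ψ (w k) * t⁻¹ * (t * ψ (d l) * t⁻¹) = t * (ψ (w k) * ψ (d l)) * t⁻¹ := by group
        _ = _ := by rw [e3]; group
    have hr : ∀ (m : kˣ) a b, (t * ψ (d m) * t⁻¹) • ψ (w k) • t • p a b =
        ψ (w k) • t • p (m * a) ((m⁻¹ : kˣ) * b) := by
      intro m a b
      rw [← mul_smul, h.tor₂, mul_smul, h.K₁_X', h.act_d]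
    have h2 : (t * ψ (w k) * t⁻¹) • (t * ψ (d l) * t⁻¹) • ψ (w k) • t • p a b =
        (t * ψ (d l⁻¹) * t⁻¹) • (t * ψ (w k) * t⁻¹) • ψ (w k) • t • p a b := by
      rw [← mul_smul, e1, mul_smul]
    rw [hr, hAB, hAB, smul_add, h.K₁_X', h.act_d, hr, inv_inv] at h2
    obtain ⟨h3, h4, -, -⟩ := h.P_inj h2
    exact ⟨h3, h4⟩
  obtain ⟨l, hl⟩ := exists_unit_ne_one h.q4
  have hl0 : (l : k) ≠ 0 := l.ne_zero
  have hl2 : (l : k) * l ≠ 1 := by
    intro h2
    apply hl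
    have h3 : ((l : k) + 1) * (l + 1) = 0 := by
      have h4 : (l : k) + l = 0 := CharTwo.add_self_eq_zero _
      have h5 : (1 : k) + 1 = 0 := CharTwo.add_self_eq_zero _
      linear_combination h2 + h4 + h5
    have h4 : (l : k) + 1 = 0 := mul_self_eq_zero.1 h3
    exact CharTwo.add_eq_zero.1 h4
  have hBa : ∀ a, B a 0 = 0 := by
    intro a
    have h2 := (hsc l a 0).2
    have h3 := (hto l a 0).2
    rw [mul_zero] at h2 h3
    rw [h2] at h3
    have h4 : ((l : k) * l - 1) * B a 0 = 0 := by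
      field_simp at h3
      linear_combination -h3
    exact (mul_eq_zero.1 h4).resolve_left (sub_ne_zero.2 hl2)
  have hAb : ∀ b, A 0 b = 0 := by
    intro b
    have h2 := (hsc l⁻¹ 0 b).1
    have h3 := (hto l 0 b).1
    rw [mul_zero] at h2 h3
    rw [h2, Units.val_inv_eq_inv_val, inv_inv] at h3
    have h4 : ((l : k) * l - 1) * A 0 b = 0 := by
      field_simp at h3
      linear_combination h3
    exact (mul_eq_zero.1 h4).resolve_left (sub_ne_zero.2 hl2)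
  have hA : ∀ a b, A a b = A a 0 := by
    intro a b
    have h2 := (hadd a 0 0 b).1
    rw [add_zero, zero_add, hAb, add_zero] at h2
    exact h2
  have hB : ∀ a b, B a b = B 0 b := by
    intro a b
    have h2 := (hadd a 0 0 b).2
    rw [add_zero, zero_add, hBa, zero_add] at h2
    exact h2
  have hBA : ∀ b, B 0 b = A b 0 := by
    intro b
    have e1 : t * ψ (w k) * t⁻¹ * (t * ψ (w k) * t⁻¹) = 1 := by
      calc t * ψ (w k) * t⁻¹ * (t * ψ (w k) * t⁻¹) = t * (ψ (w k) * ψ (w k)) * t⁻¹ := by group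
        _ = 1 := by rw [← map_mul, w_mul_w, map_one]; group
    have h2 : (t * ψ (w k) * t⁻¹) • (t * ψ (w k) * t⁻¹) • ψ (w k) • t • p 0 b = ψ (w k) • t • p 0 b := by
      rw [← mul_smul, e1, one_smul]
    rw [hAB, smul_add, h.K₁_X', h.act_w, hAB] at h2
    have h3 : t • p (B 0 b + A b 0) (A 0 b + B b 0) + ψ (w k) • t • p 0 b = t • p 0 0 + ψ (w k) • t • p 0 b := by
      rw [h.add_t, h.p0, smul_zero, zero_add, add_assoc]
      exact h2
    have h4 := (h.P_inj h3).1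
    exact CharTwo.add_eq_zero.1 h4
  have hAinv : ∀ a, A a 0 = A 1 0 * a⁻¹ := by
    intro a
    by_cases ha : a = 0
    · have h2 := hAb 0
      rw [ha, _root_.inv_zero, mul_zero, h2]
    · have h2 := (hsc (Units.mk0 a ha) 1 0).1
      rw [mul_zero] at h2
      change A (a * 1) 0 = a⁻¹ * _ at h2
      rw [mul_one] at h2
      rw [h2, mul_comm]
  refine ⟨A 1 0, fun a b => ?_⟩
  rw [hAB, hA, hB, hBA, hAinv a, hAinv b]

/-- `δ (a + b)⁻¹ = δ a⁻¹ + δ b⁻¹` -/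
theorem δ_add {δ : k} (hδ : ∀ a b, (t * ψ (w k) * t⁻¹) • ψ (w k) • t • p a b =
    t • p (δ * a⁻¹) (δ * b⁻¹) + ψ (w k) • t • p b a) (a b : k) : δ * (a + b)⁻¹ = δ * a⁻¹ + δ * b⁻¹ := by
  have h1 := hδ (a + b) 0
  have h2 : p (a + b) 0 = p a 0 + p b 0 := by rw [← h.add, add_zero]
  rw [h2, smul_add, smul_add, smul_add, hδ, hδ, _root_.inv_zero, mul_zero] at h1
  have h3 : t • p (δ * a⁻¹ + δ * b⁻¹) 0 + ψ (w k) • t • p 0 (a + b) =
      t • p (δ * (a + b)⁻¹) 0 + ψ (w k) • t • p 0 (a + b) := by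
    have e1 : t • p (δ * a⁻¹ + δ * b⁻¹) 0 = t • p (δ * a⁻¹) 0 + t • p (δ * b⁻¹) 0 := by
      rw [← h.add_t, add_zero]
    have e2 : ψ (w k) • t • p 0 (a + b) = ψ (w k) • t • p 0 a + ψ (w k) • t • p 0 b := by
      rw [← h.add_rt, add_zero]
    rw [e1, ← h1, e2]; abel
  exact (h.P_inj h3).1.symm

/-- `δ = 0` for `|k| > 4` -/
theorem δ_zero {δ : k} (hδ : ∀ a b, (t * ψ (w k) * t⁻¹) • ψ (w k) • t • p a b =
    t • p (δ * a⁻¹) (δ * b⁻¹) + ψ (w k) • t • p b a) (h4 : 4 < Nat.card k) : δ = 0 := by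
  classical
  have := h.fk
  have := Fintype.ofFinite k
  by_contra hδ0
  have key : ∀ a : k, a ≠ 0 → a ≠ 1 → a * a + a + 1 = 0 := by
    intro a ha ha1
    have h1 := h.δ_add hδ a 1
    have ha2 : a + 1 ≠ 0 := fun h2 => ha1 (CharTwo.add_eq_zero.1 h2)
    rw [← mul_add] at h1
    have h2 := mul_left_cancel₀ hδ0 h1
    field_simp at h2
    linear_combination -h2
  -- at most two solutions
  obtain ⟨l, hl⟩ := exists_unit_ne_one h.q4
  have hl0 : (l : k) ≠ 0 := l.ne_zero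
  have hsub : (Finset.univ : Finset k) ⊆ {0, 1, (l : k), (l : k) + 1} := by
    intro a _
    by_cases ha : a = 0
    · simp [ha]
    by_cases ha1 : a = 1
    · simp [ha1]
    have h1 := key a ha ha1
    have h2 := key l hl0 hl
    have h3 : (a + l) * (a + l + 1) = 0 := by
      have h5 : (1 : k) + 1 = 0 := CharTwo.add_self_eq_zero _
      have h6 : a * l + a * l = 0 := CharTwo.add_self_eq_zero _
      linear_combination h1 + h2 + h6 - h5
    rcases mul_eq_zero.1 h3 with h4 | h4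
    · have : a = l := CharTwo.add_eq_zero.1 h4
      simp [this]
    · have : a = (l : k) + 1 := by
        have h5 : a + ((l : k) + 1) = 0 := by rw [← h4]; ring
        exact CharTwo.add_eq_zero.1 h5
      simp [this]
  have h1 := Finset.card_le_card hsub
  have h2 : Finset.card ({0, 1, (l : k), (l : k) + 1} : Finset k) ≤ 4 := Finset.card_le_four
  rw [Finset.card_univ, ← Nat.card_eq_fintype_card] at h1
  omega

/-- `δ = 0` ⟹ `[K₁, K₂] = 1` -/
theorem comm_of_δ (hδ : ∀ a b, (t * ψ (w k) * t⁻¹) • ψ (w k) • t • p a b = ψ (w k) • t • p b a)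
    (g g' : SpecialLinearGroup (Fin 2) k) : t * ψ g * t⁻¹ * ψ g' = ψ g' * (t * ψ g * t⁻¹) := by
  have hr : t * ψ (w k) * t⁻¹ * ψ (w k) = ψ (w k) * (t * ψ (w k) * t⁻¹) := by
    have hX : ∀ a b, (t * ψ (w k) * t⁻¹) • t • p a b = t • p b a := by
      intro a b
      rw [h.K₁_X', h.act_w]
    generalize t * ψ (w k) * t⁻¹ = κ at hδ hX
    apply h.eq_of_P
    · intro a b
      rw [mul_smul, mul_smul, hδ, hX]
    · intro a b
      rw [mul_smul, mul_smul, h.rr, hδ, h.rr, hX]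
  -- `r` commutes with `K₁`
  have h1 : ∀ g, t * ψ g * t⁻¹ * ψ (w k) = ψ (w k) * (t * ψ g * t⁻¹) := by
    intro g
    have htop := eq_top_of_uw (((centralizer {ψ (w k)}).comap (MulAut.conj t).toMonoidHom).comap ψ) (fun α => by
      rw [mem_comap, mem_comap, mem_centralizer_singleton_iff]
      exact h.comm _ (h.t_u α) (w k)) (by
      rw [mem_comap, mem_comap, mem_centralizer_singleton_iff]
      exact hr)
    have h9 : g ∈ ((centralizer {ψ (w k)}).comap (MulAut.conj t).toMonoidHom).comap ψ := by rw [htop]; exact mem_top g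
    rw [mem_comap, mem_comap, mem_centralizer_singleton_iff] at h9
    exact h9
  have htop := eq_top_of_uw ((centralizer {t * ψ g * t⁻¹}).comap ψ) (fun α => by
    rw [mem_comap, mem_centralizer_singleton_iff]
    exact (h.K₁_u g α).symm) (by
    rw [mem_comap, mem_centralizer_singleton_iff]
    exact (h1 g).symm)
  have h9 : g' ∈ (centralizer {t * ψ g * t⁻¹}).comap ψ := by rw [htop]; exact mem_top g'
  rw [mem_comap, mem_centralizer_singleton_iff] at h9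
  exact h9.symm

/-- **`[K₁, K₂] = 1` for `a > 4`** -/
theorem comm_K (h4 : 4 < Nat.card k) (g g' : SpecialLinearGroup (Fin 2) k) :
    t * ψ g * t⁻¹ * ψ g' = ψ g' * (t * ψ g * t⁻¹) := by
  obtain ⟨δ, hδ⟩ := h.exists_δ
  have h0 := h.δ_zero hδ h4
  apply h.comm_of_δ
  intro a b
  rw [hδ, h0, zero_mul, zero_mul, h.p0, smul_zero, zero_add]

end Nin

end Cfsg.Agent.Omega.NO1.B0

end

section


/-!
# THEOREM B0 (bb OMEGA 18835, helper970), (9), `a = 4`: root groups in coordinates; (Soc5) ⟹ `A ≤ O₂(C_Y(z))`; the end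

`P a b c e = t • p a b + r • t • p c e`.
-/

set_option autoImplicit false
set_option linter.unusedSectionVars false

namespace Cfsg.Agent.Omega.NO1.B0

open Subgroup Cfsg.Agent.ClassTwo.Sp4Defs Cfsg.Agent.ClassTwo.Sp4SL2 Matrix

variable {Y : Type*} [Group Y] {V : Type*} [AddCommGroup V] [DistribMulAction Y V] {k : Type*} [Field k]

namespace Nin

variable [CharP k 2] {S : Subgroup Y} {ψ : SpecialLinearGroup (Fin 2) k →* Y} {p : k → k → V} {t : Y}
  (h : Nin S ψ p t)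
include h

theorem exists_sq_unit (α : k) (hα : α ≠ 0) : ∃ l : kˣ, (l : k) ^ 2 = α := by
  have := h.fk
  have hinj : Function.Injective fun x : k => x ^ 2 := by
    intro x y hxy
    have h1 : (x + y) * (x + y) = 0 := by
      have h2 : x ^ 2 = y ^ 2 := hxy
      have h3 : x * y + x * y = 0 := CharTwo.add_self_eq_zero _
      have h4 : y ^ 2 + y ^ 2 = 0 := CharTwo.add_self_eq_zero _
      linear_combination h2 + h3 + h4
    exact CharTwo.add_eq_zero.1 (mul_self_eq_zero.1 h1)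
  obtain ⟨x, hx⟩ := Finite.surjective_of_injective hinj α
  have hx0 : x ≠ 0 := by
    rintro rfl
    apply hα
    rw [← hx]; simp
  exact ⟨Units.mk0 x hx0, hx⟩

/-- `S' = {ψ (u α)}` on `rX'` -/
theorem exists_γ {χ : kˣ → kˣ} (hχ : ∀ l a b, ψ (d l) • t • p a b = t • p (χ l * a) (χ l * b))
    (hχ' : ∀ l a b, ψ (d l) • ψ (w k) • t • p a b = ψ (w k) • t • p ((χ l)⁻¹ * a) ((χ l)⁻¹ * b))
    (hχs : Function.Surjective χ) :
    ∃ γ : k → k, (∀ α a b, ψ (u α) • ψ (w k) • t • p a b = t • p (γ α * a) (γ α * b) + ψ (w k) • t • p a b) ∧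
      Function.Surjective γ ∧ (∀ α β, γ (α + β) = γ α + γ β) ∧ (∀ l : kˣ, ∀ α, γ ((l : k) ^ 2 * α) = (χ l : k) ^ 2 * γ α) ∧
      (∀ α, γ α = 0 → α = 0) := by
  have h1 : ∀ α, ∃ c, ∀ a b, ψ (u α) • ψ (w k) • t • p a b = t • p (c * a) (c * b) + ψ (w k) • t • p a b := by
    intro α
    by_cases hα : α = 0
    · refine ⟨0, fun a b => ?_⟩
      rw [hα, u_zero, map_one, one_smul, zero_mul, zero_mul, h.p0, smul_zero, zero_add]
    obtain ⟨l, hl⟩ := h.exists_sq_unit α hα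
    refine ⟨(χ l : k) ^ 2, fun a b => ?_⟩
    have e1 : u α = d l * u 1 * (d l)⁻¹ := by rw [d_conj_u, mul_one, hl]
    have e2 : ∀ a b, (ψ (d l))⁻¹ • ψ (w k) • t • p a b = ψ (w k) • t • p (χ l * a) (χ l * b) := by
      intro a b
      rw [inv_smul_eq_iff, hχ', ← mul_assoc, ← mul_assoc, Units.inv_mul, one_mul, one_mul]
    rw [e1, map_mul, map_mul, map_inv, mul_smul, mul_smul, e2, h.u_rt, smul_add, hχ, hχ', ← mul_assoc, ← mul_assoc,
      ← mul_assoc, ← mul_assoc, Units.inv_mul, one_mul, one_mul, ← pow_two]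
  choose γ hγ using h1
  have huniq : ∀ α c, (∀ a b, ψ (u α) • ψ (w k) • t • p a b = t • p (c * a) (c * b) + ψ (w k) • t • p a b) →
      γ α = c := by
    intro α c hc
    have h2 := hγ α 1 0
    rw [hc] at h2
    have h3 := (h.P_inj h2).1
    rw [mul_one, mul_one] at h3
    exact h3.symm
  have hadd : ∀ α β, γ (α + β) = γ α + γ β := by
    intro α β
    apply huniq
    intro a b
    rw [← u_mul, map_mul, mul_smul, hγ, smul_add, h.u_X', hγ, add_mul, add_mul, h.add_t]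
    abel
  have hsq : ∀ l : kˣ, ∀ α, γ ((l : k) ^ 2 * α) = (χ l : k) ^ 2 * γ α := by
    intro l α
    apply huniq
    intro a b
    have e2 : ∀ a b, (ψ (d l))⁻¹ • ψ (w k) • t • p a b = ψ (w k) • t • p (χ l * a) (χ l * b) := by
      intro a b
      rw [inv_smul_eq_iff, hχ', ← mul_assoc, ← mul_assoc, Units.inv_mul, one_mul, one_mul]
    have e3 : ∀ a : k, (((χ l)⁻¹ : kˣ) : k) * ((χ l : k) * a) = a := by
      intro a
      rw [← mul_assoc, Units.inv_mul, one_mul]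
    rw [← d_conj_u, map_mul, map_mul, map_inv, mul_smul, mul_smul, e2, hγ, smul_add, hχ, hχ', e3, e3]
    congr 3 <;> ring
  have hone : γ 1 = 1 := huniq 1 1 fun a b => by rw [h.u_rt, one_mul, one_mul]
  refine ⟨γ, hγ, ?_, hadd, hsq, ?_⟩
  · intro c
    by_cases hc : c = 0
    · refine ⟨0, ?_⟩
      have := hadd 0 0
      rw [add_zero, left_eq_add] at this
      rw [this, hc]
    · obtain ⟨m, hm⟩ := h.exists_sq_unit c hc
      obtain ⟨l, hl⟩ := hχs m
      refine ⟨(l : k) ^ 2 * 1, ?_⟩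
      rw [hsq, hl, hm, hone, mul_one]
  · intro α hα
    have h2 : ψ (u α) = 1 := by
      apply h.eq_of_P
      · intro a b
        rw [h.u_X', one_smul]
      · intro a b
        rw [hγ, hα, zero_mul, zero_mul, h.p0, smul_zero, zero_add, one_smul]
    exact u_eq_one.1 (h.ψ_inj h2)

/-- `S = {t ψ(u β) t⁻¹}` on `X'` and `rX'` -/
theorem s_X' (β a b : k) : (t * ψ (u β) * t⁻¹) • t • p a b = t • p (a + β * b) b := by
  rw [h.K₁_X', h.act_u]

theorem s_rX' (β a b : k) : (t * ψ (u β) * t⁻¹) • ψ (w k) • t • p a b = ψ (w k) • t • p (a + β * b) b := by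
  rw [← mul_smul, h.comm _ (h.t_u β), mul_smul, h.s_X']

theorem s_mul (β β' : k) : t * ψ (u β) * t⁻¹ * (t * ψ (u β') * t⁻¹) = t * ψ (u (β + β')) * t⁻¹ := by
  rw [← u_mul, map_mul]; group

/-- (Soc5) ⟹ `A ≤ O` -/
theorem le_o2 (O : Subgroup Y) (hO : ∀ g : Y, g • p 1 0 = p 1 0 → ∀ x ∈ O, g * x * g⁻¹ ∈ O)
    (hsoc : ∃ a₀ b₀ c₀ e₀ : k, (b₀ ≠ 0 ∨ c₀ ≠ 0 ∨ e₀ ≠ 0) ∧ ∀ m : k, m ≠ 0 → ∃ β α f : k,
      t * ψ (u β) * t⁻¹ * ψ (u α) ∈ O ∧
      (t * ψ (u β) * t⁻¹ * ψ (u α)) • ψ (w k) • t • p 0 m + ψ (w k) • t • p 0 m +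
        (t • p a₀ b₀ + ψ (w k) • t • p c₀ e₀) = t • p f 0) :
    (∀ α, ψ (u α) ∈ O) ∧ ∀ β, t * ψ (u β) * t⁻¹ ∈ O := by
  obtain ⟨χ, hχ, hχ', hχs⟩ := h.exists_χ
  obtain ⟨γ, hγ, hγs, hγa, hγm, hγ0⟩ := h.exists_γ hχ hχ' hχs
  have hγz : γ 0 = 0 := by
    have := hγa 0 0
    rwa [add_zero, left_eq_add] at this
  obtain ⟨a₀, b₀, c₀, e₀, hne, hsoc⟩ := hsoc
  have key : ∀ m : k, m ≠ 0 → e₀ = 0 ∧ ∃ β α, t * ψ (u β) * t⁻¹ * ψ (u α) ∈ O ∧ γ α * m = b₀ ∧ β * m = c₀ := by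
    intro m hm
    obtain ⟨β, α, f, hO', he⟩ := hsoc m hm
    rw [mul_smul, hγ, smul_add, h.s_X', h.s_rX', mul_zero, zero_add, zero_add] at he
    have he' : t • p (β * (γ α * m) + a₀) (γ α * m + b₀) + ψ (w k) • t • p (β * m + c₀) (m + (m + e₀)) =
        t • p f 0 + ψ (w k) • t • p 0 0 := by
      have e1 : p (β * m + c₀) (m + (m + e₀)) = p (β * m) m + (p 0 m + p c₀ e₀) := by
        rw [← h.add, ← h.add, zero_add]
      rw [h.add_t, e1, smul_add, smul_add, smul_add, smul_add, h.p0, smul_zero, smul_zero, add_zero, ← he]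
      abel
    obtain ⟨h1, h2, h3, h4⟩ := h.P_inj he'
    rw [← add_assoc, CharTwo.add_self_eq_zero, zero_add] at h4
    exact ⟨h4, β, α, hO', CharTwo.add_eq_zero.1 h2, CharTwo.add_eq_zero.1 h3⟩
  have he₀ : e₀ = 0 := (key 1 one_ne_zero).1
  -- `S' ≤ O ⟺ S ≤ O`
  have hS : (∀ α, ψ (u α) ∈ O) → ∀ β, t * ψ (u β) * t⁻¹ ∈ O := fun h1 β => hO t h.tz _ (h1 β)
  have hS' : (∀ β, t * ψ (u β) * t⁻¹ ∈ O) → ∀ α, ψ (u α) ∈ O := by
    intro h1 α
    obtain ⟨s, hs, e⟩ := h.conj_surj α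
    obtain ⟨β, rfl⟩ := h.t_u_surj hs
    rw [← e]
    exact hO t h.tz _ (h1 β)
  by_cases hb : b₀ = 0
  · have hc : c₀ ≠ 0 := by
      rcases hne with h1 | h1 | h1
      · exact absurd hb h1
      · exact h1
      · exact absurd he₀ h1
    have h1 : ∀ β, t * ψ (u β) * t⁻¹ ∈ O := by
      intro β
      by_cases hβ : β = 0
      · rw [hβ, u_zero, map_one, mul_one, mul_inv_cancel]; exact one_mem _
      obtain ⟨-, β', α, h2, h3, h4⟩ := key (c₀ / β) (div_ne_zero hc hβ)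
      rw [hb] at h3
      have h5 : γ α = 0 := (mul_eq_zero.1 h3).resolve_right (div_ne_zero hc hβ)
      rw [hγ0 α h5, u_zero, map_one, mul_one] at h2
      have h6 : β' = β := by
        field_simp at h4
        exact h4
      rwa [h6] at h2
    exact ⟨hS' h1, h1⟩
  by_cases hc : c₀ = 0
  · have h1 : ∀ α, ψ (u α) ∈ O := by
      intro α
      by_cases hα : α = 0
      · rw [hα, u_zero, map_one]; exact one_mem _
      have hγα : γ α ≠ 0 := fun h2 => hα (hγ0 α h2)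
      obtain ⟨-, β', α', h2, h3, h4⟩ := key (b₀ / γ α) (div_ne_zero hb hγα)
      rw [hc] at h4
      have h5 : β' = 0 := (mul_eq_zero.1 h4).resolve_right (div_ne_zero hb hγα)
      rw [h5, u_zero, map_one, mul_one, mul_inv_cancel, one_mul] at h2
      have h6 : γ α' = γ α := by
        field_simp at h3
        exact h3
      have h7 : α' = α := by
        have h8 := hγ0 (α' + α) (by rw [hγa, h6, CharTwo.add_self_eq_zero])
        exact CharTwo.add_eq_zero.1 h8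
      rwa [h7] at h2
    exact ⟨h1, hS h1⟩
  -- both nonzero
  obtain ⟨l, hl⟩ := exists_unit_ne_one h.q4
  have hl0 : (l : k) ≠ 0 := l.ne_zero
  have hl4 : (l : k) ^ 2 + ((l : k)⁻¹) ^ 2 ≠ 0 := by
    intro h1
    apply hl
    have h2 : ((l : k) + (l : k)⁻¹) * ((l : k) + (l : k)⁻¹) = 0 := by
      have h3 : (l : k) * (l : k)⁻¹ + (l : k) * (l : k)⁻¹ = 0 := CharTwo.add_self_eq_zero _
      linear_combination h1 + h3
    have h3 := mul_self_eq_zero.1 h2
    have h4 : (l : k) = (l : k)⁻¹ := CharTwo.add_eq_zero.1 h3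
    have h5 : ((l : k) + 1) * (l + 1) = 0 := by
      have h6 : (l : k) * l = 1 := by
        nth_rw 2 [h4]
        exact mul_inv_cancel₀ hl0
      have h7 : (l : k) + l = 0 := CharTwo.add_self_eq_zero _
      have h8 : (1 : k) + 1 = 0 := CharTwo.add_self_eq_zero _
      linear_combination h6 + h7 + h8
    exact CharTwo.add_eq_zero.1 (mul_self_eq_zero.1 h5)
  obtain ⟨l', hl'⟩ := hχs l⁻¹
  have hl'c : ((χ l' : kˣ) : k) = (l : k)⁻¹ := by rw [hl', Units.val_inv_eq_inv_val]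
  set g : Y := ψ (d l') * (t * ψ (d l) * t⁻¹) with hg
  have hgz : g • p 1 0 = p 1 0 := by
    have h1 : p 1 0 = t • p 1 0 := h.tz.symm
    rw [h1, hg, mul_smul, h.K₁_X', h.act_d, hχ, hl'c, mul_one, mul_zero, mul_zero, inv_mul_cancel₀ hl0]
  have h1 : ∀ α, ψ (u α) ∈ O := by
    intro α
    by_cases hα : α = 0
    · rw [hα, u_zero, map_one]; exact one_mem _
    have hγα : γ α ≠ 0 := fun h2 => hα (hγ0 α h2)
    -- `m = (l² + l⁻²) b₀ / γ α`
    set m : k := ((l : k) ^ 2 + ((l : k)⁻¹) ^ 2) * b₀ / γ α with hm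
    have hm0 : m ≠ 0 := div_ne_zero (mul_ne_zero hl4 hb) hγα
    obtain ⟨-, β₁, α₁, h2, h3, h4⟩ := key m hm0
    obtain ⟨-, β₂, α₂, h5, h6, h7⟩ := key (((l : k)⁻¹) ^ 2 * m) (mul_ne_zero (pow_ne_zero 2 (inv_ne_zero hl0)) hm0)
    have h8 := hO g hgz _ h2
    -- conjugate
    have e1 : g * (t * ψ (u β₁) * t⁻¹ * ψ (u α₁)) * g⁻¹ =
        t * ψ (u ((l : k) ^ 2 * β₁)) * t⁻¹ * ψ (u ((l' : k) ^ 2 * α₁)) := by
      have c1 := h.comm _ (h.t_u ((l : k) ^ 2 * β₁)) (d l')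
      have c2 := h.tor₂ l (u α₁)
      have e2 : t * ψ (d l) * t⁻¹ * (t * ψ (u β₁) * t⁻¹) * (t * ψ (d l) * t⁻¹)⁻¹ =
          t * ψ (u ((l : k) ^ 2 * β₁)) * t⁻¹ := by
        rw [← d_conj_u, map_mul, map_mul, map_inv]; group
      have e3 : ψ (d l') * ψ (u α₁) * (ψ (d l'))⁻¹ = ψ (u ((l' : k) ^ 2 * α₁)) := by
        rw [← d_conj_u, map_mul, map_mul, map_inv]
      rw [hg]
      calc ψ (d l') * (t * ψ (d l) * t⁻¹) * (t * ψ (u β₁) * t⁻¹ * ψ (u α₁)) * (ψ (d l') * (t * ψ (d l) * t⁻¹))⁻¹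
          = ψ (d l') * ((t * ψ (d l) * t⁻¹ * (t * ψ (u β₁) * t⁻¹) * (t * ψ (d l) * t⁻¹)⁻¹) *
              (t * ψ (d l) * t⁻¹ * ψ (u α₁)) * (t * ψ (d l) * t⁻¹)⁻¹) * (ψ (d l'))⁻¹ := by group
        _ = ψ (d l') * (t * ψ (u ((l : k) ^ 2 * β₁)) * t⁻¹ *
              (ψ (u α₁) * (t * ψ (d l) * t⁻¹)) * (t * ψ (d l) * t⁻¹)⁻¹) * (ψ (d l'))⁻¹ := by rw [e2, c2]
        _ = (ψ (d l') * (t * ψ (u ((l : k) ^ 2 * β₁)) * t⁻¹)) * ψ (u α₁) * (ψ (d l'))⁻¹ := by group
        _ = (t * ψ (u ((l : k) ^ 2 * β₁)) * t⁻¹ * ψ (d l')) * ψ (u α₁) * (ψ (d l'))⁻¹ := by rw [c1]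
        _ = t * ψ (u ((l : k) ^ 2 * β₁)) * t⁻¹ * (ψ (d l') * ψ (u α₁) * (ψ (d l'))⁻¹) := by group
        _ = _ := by rw [e3]
    rw [e1] at h8
    -- `β` parts agree
    have hβ : (l : k) ^ 2 * β₁ = β₂ := by
      have h9 : (l : k) ^ 2 * (((l : k)⁻¹) ^ 2 * m) = m := by
        rw [← mul_assoc, ← mul_pow, mul_inv_cancel₀ hl0, one_pow, one_mul]
      have h10 : ((l : k) ^ 2 * β₁) * (((l : k)⁻¹) ^ 2 * m) = β₂ * (((l : k)⁻¹) ^ 2 * m) := by
        rw [h7, ← h4]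
        linear_combination β₁ * h9
      exact mul_right_cancel₀ (mul_ne_zero (pow_ne_zero 2 (inv_ne_zero hl0)) hm0) h10
    rw [hβ] at h8
    have h9 := O.mul_mem (O.inv_mem h8) h5
    have e4 : (t * ψ (u β₂) * t⁻¹ * ψ (u ((l' : k) ^ 2 * α₁)))⁻¹ * (t * ψ (u β₂) * t⁻¹ * ψ (u α₂)) =
        ψ (u ((l' : k) ^ 2 * α₁ + α₂)) := by
      rw [← u_mul, map_mul]
      have : (ψ (u ((l' : k) ^ 2 * α₁)))⁻¹ = ψ (u ((l' : k) ^ 2 * α₁)) := by rw [← map_inv, u_inv']
      rw [_root_.mul_inv_rev, this]; group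
    rw [e4] at h9
    have h10 : (l' : k) ^ 2 * α₁ + α₂ = α := by
      have h11 : γ ((l' : k) ^ 2 * α₁ + α₂ + α) = 0 := by
        rw [hγa, hγa, hγm, hl'c]
        have h12 : γ α₁ = b₀ / m := by rw [← h3]; field_simp
        have h13 : γ α₂ = (l : k) ^ 2 * b₀ / m := by
          have h14 : γ α₂ * m = (l : k) ^ 2 * b₀ := by
            rw [← h6]
            field_simp
          rw [← h14]; field_simp
        have h14 : γ α = ((l : k) ^ 2 + ((l : k)⁻¹) ^ 2) * b₀ / m := by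
          rw [eq_div_iff hm0, hm, mul_div_cancel₀ _ hγα]
        rw [h12, h13, h14]
        have h15 : (((l : k)⁻¹) ^ 2 * (b₀ / m) + (l : k) ^ 2 * b₀ / m) + ((l : k) ^ 2 + ((l : k)⁻¹) ^ 2) * b₀ / m =
            (((l : k) ^ 2 + ((l : k)⁻¹) ^ 2) * b₀ / m) + (((l : k) ^ 2 + ((l : k)⁻¹) ^ 2) * b₀ / m) := by ring
        rw [h15, CharTwo.add_self_eq_zero]
      exact CharTwo.add_eq_zero.1 (hγ0 _ h11)
    rwa [h10] at h9
  exact ⟨h1, hS h1⟩

/-- the end: `C_Y(z)` normalises `F` ⟹ `δ = 0` -/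
theorem δ_zero_of_F {δ : k} (hδ : ∀ a b, (t * ψ (w k) * t⁻¹) • ψ (w k) • t • p a b =
    t • p (δ * a⁻¹) (δ * b⁻¹) + ψ (w k) • t • p b a)
    (hF : ∀ g : Y, g • p 1 0 = p 1 0 → ∀ a, ∃ a', g • t • p a 0 = t • p a' 0) : δ = 0 := by
  by_contra hδ0
  obtain ⟨χ, hχ, hχ', hχs⟩ := h.exists_χ
  obtain ⟨γ, hγ, hγs, hγa, hγm, hγ0⟩ := h.exists_γ hχ hχ' hχs
  obtain ⟨α, hα⟩ := hγs δ⁻¹
  have hv1 : ∀ a b, ψ (v α) • t • p a b = t • p a b + ψ (w k) • t • p (δ⁻¹ * a) (δ⁻¹ * b) := by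
    intro a b
    rw [← w_u_w, map_mul, map_mul, mul_smul, mul_smul, hγ, smul_add, h.rr, hα, add_comm]
  have hv2 : ∀ a b, ψ (v α) • ψ (w k) • t • p a b = ψ (w k) • t • p a b := by
    intro a b
    rw [← w_u_w, map_mul, map_mul, mul_smul, mul_smul, h.rr, h.u_X']
  set κ : Y := t * ψ (w k) * t⁻¹ with hκ
  set s : Y := t * ψ (u 1) * t⁻¹ with hs
  have hy : ∀ x, (s * ψ (v α)) • κ • ψ (w k) • t • p x 0 =
      t • p (δ * x⁻¹) 0 + ψ (w k) • t • p (x⁻¹ + x) x := by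
    intro x
    have e1 : κ • ψ (w k) • t • p x 0 = t • p (δ * x⁻¹) 0 + ψ (w k) • t • p 0 x := by
      rw [hδ, _root_.inv_zero, mul_zero]
    rw [e1, mul_smul, smul_add, hv1, hv2, mul_zero, add_assoc, smul_add, hs, h.s_X', mul_zero, add_zero, ← h.add_rt,
      add_zero, zero_add, h.s_rX', one_mul]
    congr 4
    rw [← mul_assoc, inv_mul_cancel₀ hδ0, one_mul]
  obtain ⟨l, hl⟩ := exists_unit_ne_one h.q4
  have hl0 : (l : k) ≠ 0 := l.ne_zero
  obtain ⟨a', ha'⟩ := hF ((κ * ψ (w k))⁻¹ * (s * ψ (v α)) * (κ * ψ (w k))) (by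
    have h1 := hy 1
    rw [inv_one, CharTwo.add_self_eq_zero] at h1
    have h2 : p 1 0 = t • p 1 0 := h.tz.symm
    rw [mul_smul, mul_smul, mul_smul κ, h2, h1, inv_smul_eq_iff, mul_smul κ, hδ, inv_one, _root_.inv_zero, mul_zero])
    (l : k)
  rw [mul_smul, mul_smul, mul_smul κ, hy, inv_smul_eq_iff, mul_smul κ, hδ, _root_.inv_zero, mul_zero] at ha'
  obtain ⟨-, -, h1, -⟩ := h.P_inj ha'
  apply hl
  have h2 : ((l : k) + 1) * (l + 1) = 0 := by
    have h3 : (l : k) + l = 0 := CharTwo.add_self_eq_zero _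
    field_simp at h1
    linear_combination h1 + h3
  exact CharTwo.add_eq_zero.1 (mul_self_eq_zero.1 h2)

end Nin

end Cfsg.Agent.Omega.NO1.B0

end

end

-- merged: Cfsg.Agent.Mrg.Omega.NO1.B0.NinE
section

/-!
# THEOREM B0 (bb OMEGA 18835, helper970), (9), `a = 4`: `A ≤ O₂(C_Y(z))` ⟹ `C_Y(z)` normalises `A`
-/

set_option autoImplicit false
set_option linter.unusedSectionVars false

namespace Cfsg.Agent.Omega.NO1.B0

open Subgroup Cfsg.Agent.ClassTwo.Sp4Defs Cfsg.Agent.ClassTwo.Sp4SL2 Matrix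

universe u v

variable {Y : Type u} [Group Y] {V : Type u} [AddCommGroup V] [DistribMulAction Y V] {k : Type v} [Field k]

/-- `A`, `T`, `O` over `Nin` -/
structure NinT (S : Subgroup Y) (ψ : SpecialLinearGroup (Fin 2) k →* Y) (p : k → k → V) (t : Y)
    (A T O : Subgroup Y) (E F : AddSubgroup V) : Prop where
  m : AB.Mem A E F
  memA : ∀ x, x ∈ A ↔ ∃ s ∈ S, ∃ α, x = s * ψ (u α)
  E_le : ∀ v ∈ E, ∃ a b c, v = t • p a b + ψ (w k) • t • p c 0
  memF : ∀ v, v ∈ F ↔ ∃ a, v = t • p a 0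
  T2 : ∀ x ∈ T, ∃ n : ℕ, x ^ 2 ^ n = 1
  TA : ∀ x ∈ T, ∀ a ∈ A, x * a * x⁻¹ ∈ A
  CTA : ∀ x ∈ T, (∀ a ∈ A, x * a = a * x) → x ∈ A
  CTX : ∀ x ∈ T, (∀ a b, x • p a b = p a b) → x ∈ S
  Tz : ∀ x ∈ T, x • p 1 0 = p 1 0
  TX : ∀ x ∈ T, Pr p x ∨ Pr p (t⁻¹ * x)
  cj : ∀ x ∈ T, Pr p x → Pr p (t⁻¹ * x * t)
  tT : t ∈ T
  Oc : ∀ g : Y, g • p 1 0 = p 1 0 → ∀ x ∈ O, g * x * g⁻¹ ∈ O
  OT : O ≤ T
  AO : A ≤ O

namespace Nin

variable [CharP k 2] {S : Subgroup Y} {ψ : SpecialLinearGroup (Fin 2) k →* Y} {p : k → k → V} {t : Y}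
  (h : Nin S ψ p t)
include h

/-- the two coordinates on `F` -/
theorem exists_τ : ∃ τ : k → k, (∀ x, p x 0 = t • p (τ x) 0) ∧ (∀ x, p 0 x = ψ (w k) • t • p (τ x) 0) ∧
    τ 1 = 1 ∧ (∀ x y, τ (x * y) = τ x * τ y) ∧ Function.Bijective τ := by
  have := h.fk
  have h1 : ∀ x, ∃ a, p x 0 = t • p a 0 := by
    intro x
    obtain ⟨a, b, h1⟩ := h.mem_X' (x := p x 0) (fun α => by rw [h.act_u, mul_zero, add_zero])
    refine ⟨a, ?_⟩
    have h2 := h.fix _ (h.t_u 1) x 0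
    rw [h1, h.s_X', smul_left_cancel_iff] at h2
    have h3 := (h.p_inj h2).1
    rw [one_mul, add_eq_left] at h3
    rw [h1, h3]
  choose τ hτ using h1
  have h01 : ∀ x, p 0 x = ψ (w k) • t • p (τ x) 0 := by
    intro x
    rw [← hτ, h.act_w]
  have hone : τ 1 = 1 := by
    have h2 := hτ 1
    nth_rw 1 [← h.tz] at h2
    rw [smul_left_cancel_iff] at h2
    exact (h.p_inj h2).1.symm
  have hinj : Function.Injective τ := by
    intro x y hxy
    have h2 := hτ x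
    rw [hxy, ← hτ y] at h2
    exact (h.p_inj h2).1
  obtain ⟨χ, hχ, -, -⟩ := h.exists_χ
  have hz : τ 0 = 0 := by
    have h2 := hτ 0
    rw [h.p0, eq_comm, smul_eq_zero_iff_eq] at h2
    exact (h.inj _ _ h2).1
  have hl : ∀ (l : kˣ) y, τ (l * y) = χ l * τ y := by
    intro l y
    have h2 : ψ (d l) • p y 0 = p (l * y) 0 := by rw [h.act_d, mul_zero]
    rw [hτ y, hχ, mul_zero, hτ (l * y), smul_left_cancel_iff] at h2
    exact (h.p_inj h2).1.symm
  refine ⟨τ, hτ, h01, hone, ?_, hinj, Finite.surjective_of_injective hinj⟩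
  intro x y
  by_cases hx : x = 0
  · rw [hx, zero_mul, hz, zero_mul]
  · have h2 := hl (Units.mk0 x hx) y
    have h3 := hl (Units.mk0 x hx) 1
    rw [mul_one, hone, mul_one] at h3
    change τ x = _ at h3
    change τ (x * y) = _ at h2
    rw [h2, h3]

variable {A T O : Subgroup Y} {E F : AddSubgroup V} (o : NinT S ψ p t A T O E F)
include o

theorem S_le {s : Y} (hs : s ∈ S) : s ∈ A := by
  rw [o.memA]
  exact ⟨s, hs, 0, by rw [u_zero, map_one, mul_one]⟩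

theorem u_mem (α : k) : ψ (u α) ∈ A := by
  rw [o.memA]
  exact ⟨1, one_mem _, α, by rw [one_mul]⟩

theorem A_le_T {a : Y} (ha : a ∈ A) : a ∈ T := o.OT (o.AO ha)

/-- an element of `T ∩ N(X)` which centralises `S` is in `A` -/
theorem CS {x : Y} (hx : x ∈ T) (hP : Pr p x) (hc : ∀ s ∈ S, x * s = s * x) : x ∈ A := by
  obtain ⟨τ, hτ, hτ', hτ1, hτm, hτb⟩ := h.exists_τ
  obtain ⟨σ, β, δ, hβ, hσ⟩ := h.semi x hP (o.Tz x hx)
  have hτ0 : τ β ≠ 0 := by
    intro h1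
    have h2 := hτm β β⁻¹
    rw [mul_inv_cancel₀ hβ, hτ1, h1, zero_mul] at h2
    exact one_ne_zero h2
  obtain ⟨a, b, c', e, hv⟩ := h.P_surj (x • ψ (w k) • t • p 0 1)
  have key : ∀ y, τ y * e = τ β * τ (σ y) := by
    intro y
    -- `s v + v = p 0 y`
    have h1 : (t * ψ (u (τ y)) * t⁻¹) • ψ (w k) • t • p 0 1 + ψ (w k) • t • p 0 1 = p 0 y := by
      rw [h.s_rX', hτ' y, ← h.add_rt, zero_add, mul_one, add_zero, CharTwo.add_self_eq_zero]
    have h2 : x • ((t * ψ (u (τ y)) * t⁻¹) • ψ (w k) • t • p 0 1 + ψ (w k) • t • p 0 1) = p (δ * σ y) (β * σ y) := by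
      rw [h1, hσ, map_zero, zero_add]
    rw [smul_add, ← mul_smul, hc _ (h.t_u _), mul_smul, hv, smul_add, h.s_X', h.s_rX'] at h2
    have h3 : p (δ * σ y) (β * σ y) = t • p (τ (δ * σ y)) 0 + ψ (w k) • t • p (τ (β * σ y)) 0 := by
      rw [← hτ, ← hτ', ← h.add, add_zero, zero_add]
    have h4 : t • p (τ y * b) 0 + ψ (w k) • t • p (τ y * e) 0 =
        t • p (τ (δ * σ y)) 0 + ψ (w k) • t • p (τ (β * σ y)) 0 := by
      rw [← h3, ← h2]
      have e1 : p (a + τ y * b) b = p (τ y * b) 0 + p a b := by rw [← h.add, zero_add, add_comm]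
      have e2 : p (c' + τ y * e) e = p (τ y * e) 0 + p c' e := by rw [← h.add, zero_add, add_comm]
      rw [e1, e2, smul_add, smul_add, smul_add]
      have e3 : t • p (τ y * b) 0 + t • p a b + (ψ (w k) • t • p (τ y * e) 0 + ψ (w k) • t • p c' e) +
          (t • p a b + ψ (w k) • t • p c' e) = t • p (τ y * b) 0 + ψ (w k) • t • p (τ y * e) 0 +
          ((t • p a b + ψ (w k) • t • p c' e) + (t • p a b + ψ (w k) • t • p c' e)) := by abel
      rw [e3, h.two, add_zero]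
    have h5 := (h.P_inj h4).2.2.1
    rw [h5, hτm]
  have hσ1 : ∀ y, σ y = y := by
    intro y
    have h1 := key 1
    rw [hτ1, one_mul, map_one, hτ1, mul_one] at h1
    have h2 := key y
    rw [h1, mul_comm] at h2
    exact (hτb.1 (mul_left_cancel₀ hτ0 h2)).symm
  have hβ1 : β = 1 := by
    obtain ⟨n, hn⟩ := o.T2 x hx
    have h1 : ∀ m : ℕ, ∃ c, x ^ m • p 0 1 = p c (β ^ m) := by
      intro m
      induction m with
      | zero => exact ⟨0, by rw [pow_zero, one_smul, pow_zero]⟩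
      | succ m ih =>
        obtain ⟨c, hc⟩ := ih
        refine ⟨c + δ * β ^ m, ?_⟩
        rw [pow_succ', mul_smul, hc, hσ, hσ1, hσ1, pow_succ']
    obtain ⟨c, hc'⟩ := h1 (2 ^ n)
    rw [hn, one_smul] at hc'
    have h2 := (h.p_inj hc').2
    have h3 := (ExpChar.pow_prime_pow_mul_eq_one_iff 2 n 1 β).1 (by rw [mul_one]; exact h2.symm)
    rwa [pow_one] at h3
  have h1 : (ψ (u δ))⁻¹ * x ∈ S := by
    apply o.CTX _ (mul_mem (inv_mem (h.A_le_T o (h.u_mem o δ))) hx)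
    intro a b
    rw [mul_smul, hσ, hσ1, hσ1, hβ1, one_mul, inv_smul_eq_iff, h.act_u]
  have h2 := mul_mem (h.u_mem o δ) (h.S_le o h1)
  rwa [mul_inv_cancel_left] at h2

theorem CS' {x : Y} (hx : x ∈ T) (hP : Pr p x) (hc : ∀ α, x * ψ (u α) = ψ (u α) * x) : x ∈ A := by
  have h1 : t⁻¹ * x * t ∈ A := by
    apply h.CS o (mul_mem (mul_mem (inv_mem o.tT) hx) o.tT) (o.cj x hx hP)
    intro s hs
    obtain ⟨α, rfl⟩ := h.t_inv_u_surj hs
    calc t⁻¹ * x * t * (t⁻¹ * ψ (u α) * t) = t⁻¹ * (x * ψ (u α)) * t := by group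
      _ = t⁻¹ * (ψ (u α) * x) * t := by rw [hc]
      _ = _ := by group
  have h2 := o.TA t o.tT _ h1
  have e : t * (t⁻¹ * x * t) * t⁻¹ = x := by group
  rwa [e] at h2

/-- claim 1 -/
theorem claim1 [Finite Y] {g : Y} (hgT : ∀ a ∈ A, g * a * g⁻¹ ∈ T) {s : Y} (hs : s ∈ S) (hs1 : s ≠ 1)
    (hsA : g⁻¹ * s * g ∈ A) {α : k} (hα : α ≠ 0) (hαA : g⁻¹ * ψ (u α) * g ∈ A) :
    ∀ a ∈ A, g * a * g⁻¹ ∈ A := by
  have := h.fV
  obtain ⟨τ, hτ, hτ', hτ1, hτm, hτb⟩ := h.exists_τ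
  have hm := o.m
  have hfix : ∀ {y : Y} {v : V}, y • v = v → (g⁻¹ * y * g) • (g⁻¹ • v) = g⁻¹ • v := by
    intro y v hv
    rw [mul_smul, mul_smul, smul_inv_smul, hv]
  have hgE' : ∀ v ∈ E, g⁻¹ • v ∈ E := by
    intro v hv
    obtain ⟨a, b, c, rfl⟩ := o.E_le v hv
    rw [smul_add]
    refine E.add_mem ?_ ?_
    · refine hm.mem_of_fix h.two hαA ?_ (hfix (h.u_X' α a b))
      intro h1
      have h2 : ψ (u α) = 1 := by
        have : ψ (u α) = g * (g⁻¹ * ψ (u α) * g) * g⁻¹ := by group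
        rw [this, h1]; group
      exact hα (u_eq_one.1 (h.ψ_inj h2))
    · refine hm.mem_of_fix h.two hsA ?_ (hfix ?_)
      · intro h1
        apply hs1
        have : s = g * (g⁻¹ * s * g) * g⁻¹ := by group
        rw [this, h1]; group
      · obtain ⟨β, rfl⟩ := h.t_u_surj hs
        rw [h.s_rX', mul_zero, add_zero]
  have hgE : ∀ v ∈ E, g • v ∈ E := by
    intro v hv
    let f : E → E := fun e => ⟨g⁻¹ • (e : V), hgE' e e.2⟩
    have hf : Function.Injective f := by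
      intro e e' hee
      have h1 := congrArg Subtype.val hee
      exact Subtype.ext (smul_left_cancel g⁻¹ h1)
    obtain ⟨e, he⟩ := Finite.surjective_of_injective hf ⟨v, hv⟩
    have h1 : g⁻¹ • (e : V) = v := congrArg Subtype.val he
    rw [← h1, smul_inv_smul]
    exact e.2
  have hgF : ∀ v ∈ F, g • v ∈ F := by
    intro v hv
    have h1 : s • g • v = g • v := by
      have h2 := hm.FB _ hsA v hv
      rw [mul_smul, mul_smul, inv_smul_eq_iff] at h2
      exact h2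
    have h3 : ψ (u α) • g • v = g • v := by
      have h2 := hm.FB _ hαA v hv
      rw [mul_smul, mul_smul, inv_smul_eq_iff] at h2
      exact h2
    obtain ⟨a, b, h4⟩ := h.Sfix s hs hs1 _ h1
    rw [h4, h.act_u] at h3
    have h5 := (h.p_inj h3).1
    rw [add_eq_left, mul_eq_zero] at h5
    rw [h4, h5.resolve_left hα, hτ, o.memF]
    exact ⟨_, rfl⟩
  intro a ha
  apply o.CTA _ (hgT a ha)
  set f := g * a * g⁻¹ with hf
  have hfV : ∀ v, f • v + v ∈ E := by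
    intro v
    have h1 := hgE _ (hm.VB a ha (g⁻¹ • v))
    rw [smul_add, smul_inv_smul] at h1
    rwa [hf, mul_smul, mul_smul]
  have hfE : ∀ v ∈ E, f • v + v ∈ F := by
    intro v hv
    have h1 := hgF _ (hm.EB a ha (g⁻¹ • v) (hgE' v hv))
    rw [smul_add, smul_inv_smul] at h1
    rwa [hf, mul_smul, mul_smul]
  intro b hb
  have hcA : f * b * f⁻¹ * b⁻¹ ∈ A := mul_mem (o.TA f (hgT a ha) b hb) (inv_mem hb)
  obtain ⟨v, hv⟩ := hm.ne
  have hw : ∀ w : V, f • b • w + b • f • w ∈ F := by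
    intro w
    have e1 : f • b • w + b • f • w = (f • (b • w + w) + (b • w + w)) + (b • (f • w + w) + (f • w + w)) := by
      rw [smul_add, smul_add]
      have e2 : f • b • w + f • w + (b • w + w) + (b • f • w + b • w + (f • w + w)) =
          (f • b • w + b • f • w) + ((f • w + f • w) + (b • w + b • w) + (w + w)) := by abel
      rw [e2, h.two (f • w), h.two (b • w), h.two w, add_zero, add_zero, add_zero]
    rw [e1]
    exact F.add_mem (hfE _ (hm.VB b hb w)) (hm.EB b hb _ (hfV w))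
  have h1 : f * b * f⁻¹ * b⁻¹ = 1 := by
    apply hm.inj v hv _ hcA
    have h2 := hw (f⁻¹ • b⁻¹ • v)
    rw [smul_inv_smul, smul_inv_smul] at h2
    rw [mul_smul, mul_smul, mul_smul]
    exact h2
  rw [mul_inv_eq_one, mul_inv_eq_iff_eq_mul] at h1
  exact h1

/-- **`C_Y(z)` normalises `A`** -/
theorem norm_A [Finite Y] {g : Y} (hg : g • p 1 0 = p 1 0) : ∀ a ∈ A, g * a * g⁻¹ ∈ A := by
  classical
  have := h.fk
  have := h.fS
  by_contra hcon
  -- `B = A^g ≤ O ≤ T`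
  have hBO : ∀ a ∈ A, g * a * g⁻¹ ∈ O := fun a ha => o.Oc g hg a (o.AO ha)
  have hBT : ∀ a ∈ A, g * a * g⁻¹ ∈ T := fun a ha => o.OT (hBO a ha)
  have hg' : g⁻¹ • p 1 0 = p 1 0 := by rw [inv_smul_eq_iff, hg]
  set B : Subgroup Y := A.map (MulAut.conj g).toMonoidHom with hB
  have memB : ∀ y, y ∈ B ↔ g⁻¹ * y * g ∈ A := by
    intro y
    constructor
    · rintro ⟨a, ha, rfl⟩
      change g⁻¹ * (g * a * g⁻¹) * g ∈ A
      have e : g⁻¹ * (g * a * g⁻¹) * g = a := by group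
      rwa [e]
    · intro hy
      exact ⟨_, hy, by change g * (g⁻¹ * y * g) * g⁻¹ = y; group⟩
  have B_T : ∀ y ∈ B, y ∈ T := by
    rintro _ ⟨a, ha, rfl⟩
    exact hBT a ha
  -- `A` normalises `B`
  have hAB : ∀ a ∈ A, ∀ y ∈ B, a * y * a⁻¹ ∈ B := by
    intro a ha y hy
    rw [memB] at hy ⊢
    have h1 : g⁻¹ * a * g ∈ T := by
      have h2 := o.Oc g⁻¹ hg' a (o.AO ha)
      rw [inv_inv] at h2
      exact o.OT h2
    have h3 := o.TA _ h1 _ hy
    have e : g⁻¹ * a * g * (g⁻¹ * y * g) * (g⁻¹ * a * g)⁻¹ = g⁻¹ * (a * y * a⁻¹) * g := by group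
    rwa [e] at h3
  -- claim 2
  have c2 : ∀ f ∈ B, Pr p f → f ∈ A := by
    intro f hf hfP
    by_contra hfA
    have hfT := B_T f hf
    obtain ⟨s, hs, hs1⟩ : ∃ s ∈ S, f * s ≠ s * f := by
      by_contra h1
      push Not at h1
      exact hfA (h.CS o hfT hfP h1)
    obtain ⟨α, hα⟩ : ∃ α, f * ψ (u α) ≠ ψ (u α) * f := by
      by_contra h1
      push Not at h1
      exact hfA (h.CS' o hfT hfP h1)
    have h1 : s * (f * s⁻¹ * f⁻¹) ∈ S := mul_mem hs (h.nS hfP (inv_mem hs))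
    have h2 : s * (f * s⁻¹ * f⁻¹) ∈ B := by
      have h3 := mul_mem (hAB s (h.S_le o hs) f hf) (inv_mem hf)
      have e : s * f * s⁻¹ * f⁻¹ = s * (f * s⁻¹ * f⁻¹) := by group
      rwa [e] at h3
    have h3 : s * (f * s⁻¹ * f⁻¹) ≠ 1 := by
      intro h4
      apply hs1
      have e : s * (f * s⁻¹ * f⁻¹) = (s * f) * (f * s)⁻¹ := by group
      rw [e, mul_inv_eq_one] at h4
      exact h4.symm
    -- the same in `S'`
    have h4 : ∃ α', f * (ψ (u α))⁻¹ * f⁻¹ = ψ (u α') := by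
      have h5 : t⁻¹ * (ψ (u α))⁻¹ * t ∈ S := by
        have := inv_mem (h.t_inv_u α)
        have e : (t⁻¹ * ψ (u α) * t)⁻¹ = t⁻¹ * (ψ (u α))⁻¹ * t := by group
        rwa [e] at this
      have h6 := h.nS (o.cj f hfT hfP) h5
      obtain ⟨α', h7⟩ := h.conj _ h6
      refine ⟨α', ?_⟩
      rw [← h7]; group
    obtain ⟨α', h4⟩ := h4
    have h5 : ψ (u (α + α')) ∈ B := by
      rw [← u_mul, map_mul, ← h4]
      have h6 := mul_mem (hAB _ (h.u_mem o α) f hf) (inv_mem hf)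
      have e : ψ (u α) * f * (ψ (u α))⁻¹ * f⁻¹ = ψ (u α) * (f * (ψ (u α))⁻¹ * f⁻¹) := by group
      rwa [e] at h6
    have h6 : α + α' ≠ 0 := by
      intro h7
      apply hα
      have h8 : α' = α := (CharTwo.add_eq_zero.1 h7).symm
      rw [h8, ← map_inv, u_inv'] at h4
      rw [mul_inv_eq_iff_eq_mul] at h4
      exact h4
    exact hcon (h.claim1 o hBT h1 h3 ((memB _).1 h2) h6 ((memB _).1 h5))
  -- `|B| ≤ 2 |A ∩ B|`
  have c3 : ∀ y ∈ B, ∀ y' ∈ B, y ∉ A → y' ∉ A → y⁻¹ * y' ∈ A := by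
    intro y hy y' hy' h1 h2
    apply c2 _ (mul_mem (inv_mem hy) hy')
    have h3 : Pr p (t⁻¹ * y) := (o.TX y (B_T y hy)).resolve_left fun h4 => h1 (c2 y hy h4)
    have h4 : Pr p (t⁻¹ * y') := (o.TX y' (B_T y' hy')).resolve_left fun h5 => h2 (c2 y' hy' h5)
    have h5 := h.Pr_mul (h.Pr_inv h3) h4
    have e : (t⁻¹ * y)⁻¹ * (t⁻¹ * y') = y⁻¹ * y' := by group
    rwa [e] at h5
  have cardB : Nat.card B = Nat.card A := by
    rw [hB]
    exact (Nat.card_congr (A.equivMapOfInjective _ (MulAut.conj g).injective).toEquiv).symm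
  have cardle : Nat.card A ≤ 2 * Nat.card ↥(A ⊓ B) := by
    rw [← cardB]
    by_cases hBA : B ≤ A
    · rw [inf_eq_right.2 hBA]; omega
    obtain ⟨y₀, hy₀, hy₀A⟩ := Set.not_subset.1 hBA
    have h1 : Nat.card B ≤ Nat.card (Bool × ↥(A ⊓ B)) := by
      refine Nat.card_le_card_of_injective (fun y : B => if hy : (y : Y) ∈ A then
        ((false, ⟨(y : Y), Subgroup.mem_inf.2 ⟨hy, y.2⟩⟩) : Bool × ↥(A ⊓ B)) else
        (true, ⟨y₀⁻¹ * (y : Y), Subgroup.mem_inf.2 ⟨c3 y₀ hy₀ y y.2 hy₀A hy, B.mul_mem (B.inv_mem hy₀) y.2⟩⟩)) ?_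
      intro y y' hyy
      by_cases hy : (y : Y) ∈ A <;> by_cases hy' : (y' : Y) ∈ A <;> simp only [hy, hy', dif_pos, dif_neg,
        not_false_eq_true, Prod.mk.injEq, true_and, reduceCtorEq, false_and] at hyy
      · exact Subtype.ext (congrArg (fun x : ↥(A ⊓ B) => (x : Y)) hyy)
      · exact Subtype.ext (mul_left_cancel (congrArg (fun x : ↥(A ⊓ B) => (x : Y)) hyy))
    rw [Nat.card_prod, Nat.card_eq_fintype_card (α := Bool), Fintype.card_bool] at h1
    exact h1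
  -- `|A| = q²`
  have hq := h.q4
  have cardA : Nat.card A = Nat.card k * Nat.card k := by
    let f : S × k → A := fun x => ⟨x.1 * ψ (u x.2), (o.memA _).2 ⟨x.1, x.1.2, x.2, rfl⟩⟩
    have hf : Function.Bijective f := by
      constructor
      · rintro ⟨s, α⟩ ⟨s', α'⟩ hss
        have h1 : (s : Y) * ψ (u α) = s' * ψ (u α') := congrArg Subtype.val hss
        have h2 : (s' : Y)⁻¹ * s = ψ (u α') * (ψ (u α))⁻¹ := by
          rw [eq_mul_inv_iff_mul_eq, mul_assoc, h1, inv_mul_cancel_left]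
        have h3 : ψ (u α' * (u α)⁻¹) ∈ S := by
          rw [map_mul, map_inv, ← h2]
          exact mul_mem (inv_mem s'.2) s.2
        have h4 := h.S_ψ h3
        have h5 := h.ψ_inj h4
        rw [mul_inv_eq_one] at h5
        have h6 := u_injective h5
        rw [h6] at h1
        have h7 : s = s' := Subtype.ext (mul_right_cancel h1)
        rw [h7, h6]
      · rintro ⟨a, ha⟩
        obtain ⟨s, hs, α, rfl⟩ := (o.memA a).1 ha
        exact ⟨(⟨s, hs⟩, α), rfl⟩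
    rw [← Nat.card_congr (Equiv.ofBijective f hf), Nat.card_prod, h.cS]
  -- `S ∩ B ≠ 1`, `S' ∩ B ≠ 1`
  have hS1 : ∃ s ∈ S, s ≠ 1 ∧ s ∈ B := by
    by_contra hn
    push Not at hn
    have h1 : Nat.card (S × ↥(A ⊓ B)) ≤ Nat.card A := by
      refine Nat.card_le_card_of_injective (fun x => (⟨x.1 * x.2, mul_mem (h.S_le o x.1.2) x.2.2.1⟩ : A)) ?_
      rintro ⟨s, b⟩ ⟨s', b'⟩ hss
      have h1 : (s : Y) * b = s' * b' := congrArg Subtype.val hss
      have h2 : (s' : Y)⁻¹ * s = b' * (b : Y)⁻¹ := by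
        rw [eq_mul_inv_iff_mul_eq, mul_assoc, h1, inv_mul_cancel_left]
      have h3 : (s' : Y)⁻¹ * s = 1 := by
        by_contra h4
        exact hn _ (mul_mem (inv_mem s'.2) s.2) h4 (by rw [h2]; exact mul_mem b'.2.2 (inv_mem b.2.2))
      rw [inv_mul_eq_one] at h3
      have h5 : s = s' := Subtype.ext h3.symm
      rw [h5] at h1
      have h6 : b = b' := Subtype.ext (mul_left_cancel h1)
      rw [h5, h6]
    rw [Nat.card_prod, h.cS, cardA] at h1
    rw [cardA] at cardle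
    nlinarith
  have hS2 : ∃ α, α ≠ 0 ∧ ψ (u α) ∈ B := by
    by_contra hn
    push Not at hn
    have h1 : Nat.card (k × ↥(A ⊓ B)) ≤ Nat.card A := by
      refine Nat.card_le_card_of_injective (fun x => (⟨ψ (u x.1) * x.2, mul_mem (h.u_mem o x.1) x.2.2.1⟩ : A)) ?_
      rintro ⟨α, b⟩ ⟨α', b'⟩ hss
      have h1 : ψ (u α) * (b : Y) = ψ (u α') * b' := congrArg Subtype.val hss
      have h2 : ψ (u (α' + α)) = b' * (b : Y)⁻¹ := by
        rw [← u_mul, map_mul, eq_mul_inv_iff_mul_eq, mul_assoc, h1, ← mul_assoc, ← map_mul, u_mul_self, map_one, one_mul]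
      have h3 : α' + α = 0 := by
        by_contra h4
        exact hn _ h4 (by rw [h2]; exact mul_mem b'.2.2 (inv_mem b.2.2))
      have h5 : α' = α := CharTwo.add_eq_zero.1 h3
      rw [h5] at h1
      have h6 : b = b' := Subtype.ext (mul_left_cancel h1)
      rw [h5, h6]
    rw [Nat.card_prod, cardA] at h1
    rw [cardA] at cardle
    nlinarith
  obtain ⟨s, hs, hs1, hsB⟩ := hS1
  obtain ⟨α, hα, hαB⟩ := hS2
  exact hcon (h.claim1 o hBT hs hs1 ((memB _).1 hsB) hα ((memB _).1 hαB))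

/-- `C_Y(z)` normalises `F` -/
theorem norm_F [Finite Y] {g : Y} (hg : g • p 1 0 = p 1 0) (a : k) : ∃ a', g • t • p a 0 = t • p a' 0 := by
  have hg' : g⁻¹ • p 1 0 = p 1 0 := by rw [inv_smul_eq_iff, hg]
  have h1 : t • p a 0 ∈ F := (o.memF _).2 ⟨a, rfl⟩
  apply (o.memF _).1
  apply o.m.CB
  intro b hb
  have h2 := h.norm_A o hg' b hb
  rw [inv_inv] at h2
  have h3 := o.m.FB _ h2 _ h1
  rw [mul_smul, mul_smul, inv_smul_eq_iff] at h3
  exact h3

/-- **`[K₁, K₂] = 1`** -/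
theorem comm_K' [Finite Y] (g g' : SpecialLinearGroup (Fin 2) k) :
    t * ψ g * t⁻¹ * ψ g' = ψ g' * (t * ψ g * t⁻¹) := by
  obtain ⟨δ, hδ⟩ := h.exists_δ
  have h0 := h.δ_zero_of_F hδ fun g hg a => h.norm_F o hg a
  apply h.comm_of_δ
  intro a b
  rw [hδ, h0, zero_mul, zero_mul, h.p0, smul_zero, zero_add]

end Nin

end Cfsg.Agent.Omega.NO1.B0

end

-- merged: Cfsg.Agent.Mrg.Omega.NO1.B0.NinF
section

section


/-!
# THEOREM B0 (bb OMEGA 18835, helper970), (9): `Out` + `OutK` ⟹ `Nin`, `NinT`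
-/

set_option autoImplicit false
set_option linter.unusedSectionVars false
set_option linter.style.haveILetI false

namespace Cfsg.Agent.Omega.NO1.B0

open Subgroup Cfsg.Agent.Omega.NO1.AB
open Cfsg.Agent.ClassTwo.Sp4Defs (u v d w)
open Cfsg.Agent.ClassTwo.Sp4SL2 (det_eq u_zero u_eq_one)
open scoped Pointwise

universe u₁

/-- `SL₂(k) → Y` -/
def ps {Y : Type u₁} [Group Y] {L : Subgroup Y} {K : Subgroup L} {k : Type} [Field k]
    (φ : K ≃* Matrix.SpecialLinearGroup (Fin 2) k) : Matrix.SpecialLinearGroup (Fin 2) k →* Y :=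
  (L.subtype.comp K.subtype).comp φ.symm.toMonoidHom

variable {Y : Type u₁} [Group Y] {V : Type u₁} [AddCommGroup V] [DistribMulAction Y V]

/-- the coordinates -/
def pc {L : Subgroup Y} {Q : Subgroup L} {k : Type} [Field k] (e : ↥(fx V Q) ≃+ (Fin 2 → k)) (x y : k) : V :=
  (e.symm ![x, y] : V)

theorem ps_apply {L : Subgroup Y} {K : Subgroup L} {k : Type} [Field k]
    (φ : K ≃* Matrix.SpecialLinearGroup (Fin 2) k) (g : Matrix.SpecialLinearGroup (Fin 2) k) :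
    ps φ g = ((φ.symm g : L) : Y) := rfl

section pc

variable {L : Subgroup Y} {Q : Subgroup L} {k : Type} [Field k] (e : ↥(fx V Q) ≃+ (Fin 2 → k))

theorem mem_pc {v : V} : v ∈ fx V Q ↔ ∃ x y, v = pc e x y := by
  constructor
  · intro hv
    refine ⟨e ⟨v, hv⟩ 0, e ⟨v, hv⟩ 1, ?_⟩
    unfold pc
    have h1 : ![e ⟨v, hv⟩ 0, e ⟨v, hv⟩ 1] = e ⟨v, hv⟩ := by
      ext i
      fin_cases i <;> rfl
    rw [h1, e.symm_apply_apply]
  · rintro ⟨x, y, rfl⟩
    exact (e.symm ![x, y]).2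

theorem pc_e {x y : k} {w : ↥(fx V Q)} (h : (w : V) = pc e x y) : e w = ![x, y] := by
  have : w = e.symm ![x, y] := Subtype.ext h
  rw [this, e.apply_symm_apply]

theorem Pr_iff [Finite V] {g : Y} : Pr (pc e) g ↔ g ∈ NX L V Q := by
  constructor
  · intro h
    apply mem_NX_of
    intro x hx
    obtain ⟨a, b, rfl⟩ := (mem_pc e).1 hx
    obtain ⟨a', b', h1⟩ := h a b
    rw [h1]
    exact (mem_pc e).2 ⟨_, _, rfl⟩
  · intro h x y
    exact (mem_pc e).1 (NX_smul h ((mem_pc e).2 ⟨x, y, rfl⟩))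

end pc

theorem mem_map_of {L : Subgroup Y} {A : Subgroup L} {E F : AddSubgroup V} (h : Mem A E F) :
    Mem (A.map L.subtype) E F where
  comm := by
    rintro _ ⟨b, hb, rfl⟩ _ ⟨c, hc, rfl⟩
    exact congrArg Subtype.val (h.comm b hb c hc)
  sq := by
    rintro _ ⟨b, hb, rfl⟩
    exact congrArg Subtype.val (h.sq b hb)
  FE := h.FE
  VB := by
    rintro _ ⟨b, hb, rfl⟩ v
    exact h.VB b hb v
  EB := by
    rintro _ ⟨b, hb, rfl⟩ v hv
    exact h.EB b hb v hv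
  FB := by
    rintro _ ⟨b, hb, rfl⟩ v hv
    exact h.FB b hb v hv
  CB := fun v hv => h.CB v fun b hb => hv _ ⟨b, hb, rfl⟩
  inj := by
    rintro w hw _ ⟨b, hb, rfl⟩ hbw
    exact congrArg Subtype.val (h.inj w hw b hb hbw)
  surj := fun w hw x hx => by
    obtain ⟨b, hb, h1⟩ := h.surj w hw x hx
    exact ⟨_, ⟨b, hb, rfl⟩, h1⟩
  ne := h.ne

namespace Out

variable {T : Sylow 2 Y} {M L : Subgroup Y} {A Q L₁ : Subgroup L} {R : Sylow 2 L} {E F : AddSubgroup V}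
  {z : V} {t : Y} (o : Out T M L A Q L₁ R E F z t)
include o

section K

variable {K : Subgroup L} {k : Type} [Field k] [Finite k] [CharP k 2] {e : ↥(fx V Q) ≃+ (Fin 2 → k)}
  {φ : K ≃* Matrix.SpecialLinearGroup (Fin 2) k} (ok : OutK o K k e φ)
  (ez : ∀ v : ↥(fx V Q), (v : V) = z → e v = ![1, 0])
include ok ez

theorem pc_z [Finite Y] [Finite V] : pc e 1 0 = z := by
  have h1 : (⟨z, o.hyp.loc.z_mem.1⟩ : ↥(fx V Q)) = e.symm ![1, 0] := by
    rw [← ez ⟨z, o.hyp.loc.z_mem.1⟩ rfl, e.symm_apply_apply]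
  unfold pc
  rw [← h1]

/-- **`Nin`** -/
theorem nin [Finite Y] [Finite V] (ha : 4 ≤ E.index) : Nin (Q.map L.subtype) (ps φ) (pc e) t := by
  have h := o.hyp
  have hact : ∀ (g : Matrix.SpecialLinearGroup (Fin 2) k) (x y : k), ps φ g • pc e x y =
      pc e (g.1 0 0 * x + g.1 0 1 * y) (g.1 1 0 * x + g.1 1 1 * y) := by
    intro g x y
    have hX : pc e x y ∈ fx V Q := (mem_pc e).2 ⟨x, y, rfl⟩
    have h1 := ok.act (φ.symm g) (e.symm ![x, y]) ⟨(φ.symm g : L) • pc e x y, o.hyp.Xmem hX⟩ rfl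
    rw [e.apply_symm_apply, φ.apply_symm_apply, Cfsg.Agent.ClassTwo.Sp4SL2.mulVec_apply] at h1
    have h2 : (⟨(φ.symm g : L) • pc e x y, o.hyp.Xmem hX⟩ : ↥(fx V Q)) =
        e.symm ![g.1 0 0 * x + g.1 0 1 * y, g.1 1 0 * x + g.1 1 1 * y] := by
      rw [e.eq_symm_apply]
      exact h1
    exact congrArg Subtype.val h2
  have hco := o.co_of ok ez
  exact
    { two := o.two
      faith := h.faith
      add := by
        intro x y x' y'
        unfold pc
        rw [← add_vec, map_add]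
        rfl
      inj := by
        intro x y hxy
        have h1 : e.symm ![x, y] = 0 := Subtype.ext hxy
        rw [map_eq_zero_iff e.symm e.symm.injective] at h1
        exact ⟨congrFun h1 0, congrFun h1 1⟩
      act := hact
      fix := by
        rintro _ ⟨q, hq, rfl⟩ x y
        exact (e.symm ![x, y]).2 q hq
      comm := by
        rintro _ ⟨q, hq, rfl⟩ g
        exact congrArg Subtype.val (o.Qz q hq (φ.symm g : L))
      SV := by
        rintro _ ⟨q, hq, rfl⟩ v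
        exact (mem_pc e).1 (o.QV q hq v)
      Sfix := by
        rintro _ ⟨q, hq, rfl⟩ hq1 v hv
        exact (mem_pc e).1 (o.Qfix q hq (fun h1 => hq1 (by rw [h1]; rfl)) v hv)
      DD := by
        intro g h1 h2
        obtain ⟨q, hq, h3⟩ := o.DD g (fun x hx => by
          obtain ⟨a, b, rfl⟩ := (mem_pc e).1 hx
          exact h1 a b) (fun v => (mem_pc e).2 (h2 v))
        exact ⟨q, hq, h3⟩
      Sab := by
        rintro _ ⟨q, hq, rfl⟩ _ ⟨q', hq', rfl⟩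
        exact congrArg Subtype.val (o.Qz q hq q')
      cS := by
        rw [ok.card, ← o.cQ]
        exact (Nat.card_congr (Q.equivMapOfInjective _ L.subtype_injective).toEquiv).symm
      cV := by rw [o.cV, ok.card]
      conj := by
        rintro _ ⟨q, hq, rfl⟩
        obtain ⟨b, hbA, hbK, hb⟩ := o.SK ha ok hq
        set m := φ ⟨b, hbK⟩ with hm
        have hmb : ps φ m = b := by
          rw [ps_apply, hm, φ.symm_apply_apply]
        have h1 := hact m 1 0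
        have h2 : pc e 1 0 ∈ F := by rw [o.pc_z ok ez]; exact h.loc.z_mem.2
        have h3 : ps φ m • pc e 1 0 = pc e 1 0 := by
          rw [hmb]
          exact h.loc.mem.FB b hbA _ h2
        rw [h3] at h1
        have h4 := pc_e e (w := e.symm ![1, 0]) h1
        rw [e.apply_symm_apply] at h4
        obtain ⟨h5, h6⟩ := vec_inj h4
        simp only [mul_one, mul_zero, add_zero] at h5 h6
        refine ⟨m.1 0 1, ?_⟩
        have h7 : m = u (m.1 0 1) := by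
          rw [Cfsg.Agent.ClassTwo.Sp4SL2.ext_iff]
          have h8 := det_eq m
          rw [← h5, ← h6, mul_zero, sub_zero, one_mul] at h8
          simp [← h5, ← h6, h8]
        rw [← h7, hmb]
        exact hb.symm
      tt := (Pr_iff e).2 o.tk.tt
      tz := by
        rw [o.pc_z ok ez]
        exact h.zT t o.tk.tT
      line := by
        intro g hg x y c
        have hg' := (Pr_iff e).1 hg
        obtain ⟨c', hc'⟩ := h.line hco hg' ![x, y] c
        refine ⟨c', fun x' y' h1 => ?_⟩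
        have h2 : ge e hg' ![x, y] = ![x', y'] := by
          rw [ge_apply]
          exact pc_e e h1
        rw [h2, smul_vec, smul_vec, ge_apply, ← e.eq_symm_apply] at hc'
        exact congrArg Subtype.val hc'
      semi := by
        intro g hg hgz
        have hg' := (Pr_iff e).1 hg
        rw [o.pc_z ok ez] at hgz
        obtain ⟨α, β, δ, hβ, h1⟩ := h.semi hco hg' hgz
        refine ⟨α, β, δ, hβ, fun x y => ?_⟩
        have h2 := h1 x y
        rw [ge_apply, ← e.eq_symm_apply] at h2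
        exact congrArg Subtype.val h2
      q4 := by rw [ok.card]; exact ha }

/-- `v ∈ F` in coordinates -/
theorem mem_F_pc [Finite Y] [Finite V] (ha : 4 ≤ E.index) (v : V) : v ∈ F ↔ ∃ a, v = t • pc e a 0 := by
  have h := o.nin ok ez ha
  obtain ⟨τ, hτ, -, -, -, hτb⟩ := h.exists_τ
  constructor
  · intro hv
    have h1 := (ok.memF ⟨v, o.FX hv⟩).1 hv
    obtain ⟨x, y, h2⟩ := (mem_pc e).1 (o.FX hv)
    have h3 := pc_e e (w := ⟨v, o.FX hv⟩) h2
    rw [h3] at h1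
    have h4 : y = 0 := h1
    exact ⟨τ x, by rw [h2, h4, hτ]⟩
  · rintro ⟨a, rfl⟩
    obtain ⟨x, rfl⟩ := hτb.2 a
    rw [← hτ]
    refine (ok.memF ⟨pc e x 0, (mem_pc e).2 ⟨_, _, rfl⟩⟩).2 ?_
    rw [pc_e e (w := ⟨pc e x 0, (mem_pc e).2 ⟨_, _, rfl⟩⟩) rfl]
    rfl

theorem memA_pc [Finite Y] [Finite V] (ha : 4 ≤ E.index) (x : Y) :
    x ∈ A.map L.subtype ↔ ∃ s ∈ Q.map L.subtype, ∃ α, x = s * ps φ (u α) := by
  have h := o.nin ok ez ha
  constructor
  · rintro ⟨b, hb, rfl⟩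
    obtain ⟨q, hq, q', hq', h1⟩ := o.prod b hb
    obtain ⟨α, h2⟩ := h.conj _ ⟨q', hq', rfl⟩
    refine ⟨q, ⟨q, hq, rfl⟩, α, ?_⟩
    rw [← h2]
    exact h1
  · rintro ⟨_, ⟨q, hq, rfl⟩, α, rfl⟩
    obtain ⟨_, ⟨q', hq', rfl⟩, h2⟩ := h.conj_surj α
    obtain ⟨b, hb, h3⟩ := o.QtA q' hq'
    refine ⟨q * b, mul_mem (o.QA hq) hb, ?_⟩
    rw [← h2]
    change (q : Y) * (b : Y) = _
    rw [h3]
    rfl

theorem E_pc [Finite Y] [Finite V] (ha : 4 ≤ E.index) (x : V) (hx : x ∈ E) :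
    ∃ a b c, x = t • pc e a b + ps φ (w k) • t • pc e c 0 := by
  have h := o.nin ok ez ha
  obtain ⟨τ, hτ, hτ', -, -, -⟩ := h.exists_τ
  rw [o.supE] at hx
  obtain ⟨y, hy, y', hy', rfl⟩ := AddSubgroup.mem_sup.1 hx
  obtain ⟨a, b, rfl⟩ := (mem_pc e).1 hy
  rw [mem_smul_as] at hy'
  obtain ⟨a', b', h1⟩ := (mem_pc e).1 hy'
  have h2 : y' = t • pc e a' b' := by rw [← h1, smul_inv_smul]
  refine ⟨τ a + a', b', τ b, ?_⟩
  have h3 : pc e a b = pc e a 0 + pc e 0 b := by rw [← h.add, add_zero, zero_add]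
  have h4 : pc e (τ a + a') b' = pc e (τ a) 0 + pc e a' b' := by rw [← h.add, zero_add]
  rw [h3, h2, h4, hτ a, hτ' b, smul_add]
  abel

/-- `O₂(C_Y(z))` -/
theorem o2_conj [Finite Y] [Finite V] {g : Y} (hg : g • pc e 1 0 = pc e 1 0) {x : Y}
    (hx : x ∈ ZN.o2 (MulAction.stabilizer Y z)) : g * x * g⁻¹ ∈ ZN.o2 (MulAction.stabilizer Y z) := by
  rw [o.pc_z ok ez] at hg
  have h1 := ZN.ChoiceSit.le_normalizer_o2 (MulAction.stabilizer Y z) (show g ∈ MulAction.stabilizer Y z from hg)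
  exact (mem_normalizer_iff.1 h1 x).1 hx

omit ok ez in
theorem o2_le_T [Finite Y] [Finite V] : ZN.o2 (MulAction.stabilizer Y z) ≤ (T : Subgroup Y) := by
  have f2 : Fact (Nat.Prime 2) := ⟨Nat.prime_two⟩
  have hT : (T : Subgroup Y) ≤ MulAction.stabilizer Y z := fun x hx => o.hyp.zT x hx
  have h1 : IsPGroup 2 ((T : Subgroup Y) ⊔ ZN.o2 (MulAction.stabilizer Y z) : Subgroup Y) :=
    IsPGroup.to_sup_of_normal_right' T.2 (ZN.ChoiceSit.isPGroup_o2 _)
      (hT.trans (ZN.ChoiceSit.le_normalizer_o2 _))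
  have h2 := T.3 h1 le_sup_left
  rw [← h2]
  exact le_sup_right

/-- (Soc5) in coordinates -/
theorem soc_pc [Finite Y] [Finite V] (ha : 4 ≤ E.index)
    (h5 : ∃ x : V, x ∉ F ∧ ∀ y : V, y ∉ E → ∃ s ∈ A.map L.subtype, s ∈ ZN.o2 (MulAction.stabilizer Y z) ∧
      s • y + y + x ∈ F) :
    ∃ a₀ b₀ c₀ e₀ : k, (b₀ ≠ 0 ∨ c₀ ≠ 0 ∨ e₀ ≠ 0) ∧ ∀ m : k, m ≠ 0 → ∃ β α f : k,
      t * ps φ (u β) * t⁻¹ * ps φ (u α) ∈ ZN.o2 (MulAction.stabilizer Y z) ∧
      (t * ps φ (u β) * t⁻¹ * ps φ (u α)) • ps φ (w k) • t • pc e 0 m + ps φ (w k) • t • pc e 0 m +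
        (t • pc e a₀ b₀ + ps φ (w k) • t • pc e c₀ e₀) = t • pc e f 0 := by
  have h := o.nin ok ez ha
  obtain ⟨x, hxF, hx⟩ := h5
  obtain ⟨a₀, b₀, c₀, e₀, rfl⟩ := h.P_surj x
  refine ⟨a₀, b₀, c₀, e₀, ?_, fun m hm => ?_⟩
  · by_contra hcon
    push Not at hcon
    obtain ⟨rfl, rfl, rfl⟩ := hcon
    apply hxF
    rw [o.mem_F_pc ok ez ha]
    exact ⟨a₀, by rw [h.p0, smul_zero, smul_zero, add_zero]⟩
  · obtain ⟨s, hsA, hsO, hs⟩ := hx (ps φ (w k) • t • pc e 0 m) (by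
      intro h1
      obtain ⟨a, b, c, h2⟩ := o.E_pc ok ez ha _ h1
      have h3 : t • pc e 0 0 + ps φ (w k) • t • pc e 0 m = t • pc e a b + ps φ (w k) • t • pc e c 0 := by
        rw [h.p0, smul_zero, zero_add]
        exact h2
      exact hm (h.P_inj h3).2.2.2)
    obtain ⟨s₁, hs₁, α, rfl⟩ := (o.memA_pc ok ez ha s).1 hsA
    obtain ⟨β, rfl⟩ := h.t_u_surj hs₁
    obtain ⟨f, hf⟩ := (o.mem_F_pc ok ez ha _).1 hs
    exact ⟨β, α, f, hsO, hf⟩

/-- **`NinT`** -/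
theorem ninT [Finite Y] [Finite V] (ha : 4 ≤ E.index)
    (h5 : ∃ x : V, x ∉ F ∧ ∀ y : V, y ∉ E → ∃ s ∈ A.map L.subtype, s ∈ ZN.o2 (MulAction.stabilizer Y z) ∧
      s • y + y + x ∈ F) :
    NinT (Q.map L.subtype) (ps φ) (pc e) t (A.map L.subtype) (T : Subgroup Y)
      (ZN.o2 (MulAction.stabilizer Y z)) E F := by
  have h := o.nin ok ez ha
  obtain ⟨h1, h2⟩ := h.le_o2 (ZN.o2 (MulAction.stabilizer Y z)) (fun g hg x hx => o.o2_conj ok ez hg hx)
    (o.soc_pc ok ez ha h5)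
  exact
    { m := mem_map_of o.hyp.loc.mem
      memA := o.memA_pc ok ez ha
      E_le := o.E_pc ok ez ha
      memF := o.mem_F_pc ok ez ha
      T2 := by
        intro x hx
        obtain ⟨n, hn⟩ := T.2 ⟨x, hx⟩
        exact ⟨n, congrArg Subtype.val hn⟩
      TA := by
        intro x hx a ha'
        have h3 := o.TA ha hx
        rw [← h3]
        exact conj_mem_conj ha'
      CTA := by
        intro x hx hc
        obtain ⟨b, hb, h3⟩ := o.CTA x hx fun b hb => hc _ ⟨b, hb, rfl⟩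
        exact ⟨b, hb, h3⟩
      CTX := by
        intro x hx hc
        obtain ⟨b, hb, h3⟩ := o.CTX x hx fun v hv => by
          obtain ⟨a, b, rfl⟩ := (mem_pc e).1 hv
          exact hc a b
        exact ⟨b, hb, h3⟩
      Tz := by
        intro x hx
        rw [o.pc_z ok ez]
        exact o.hyp.zT x hx
      TX := by
        intro x hx
        rw [Pr_iff, Pr_iff]
        exact o.T_cases ha hx
      cj := by
        intro x hx hP
        rw [Pr_iff] at hP ⊢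
        exact o.tk.cj' x hx hP
      tT := o.tk.tT
      Oc := fun g hg x hx => o.o2_conj ok ez hg hx
      OT := o.o2_le_T
      AO := by
        intro x hx
        obtain ⟨s, hs, α, rfl⟩ := (o.memA_pc ok ez ha x).1 hx
        obtain ⟨β, rfl⟩ := h.t_u_surj hs
        exact mul_mem (h2 β) (h1 α) }

end K

end Out

end Cfsg.Agent.Omega.NO1.B0

end

section


/-!
# THEOREM B0 (bb OMEGA 18835, helper970), the end: `[K₁, K₂] = 1`; `Y` permutes `{K₁, K₂}`

`K₂ = (ps φ).range`, `K₁ = conj t • K₂`.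
-/

set_option autoImplicit false
set_option linter.unusedSectionVars false
set_option linter.style.haveILetI false

namespace Cfsg.Agent.Omega.NO1.B0

open Subgroup Cfsg.Agent.Omega.NO1.AB
open Cfsg.Agent.ClassTwo.Sp4Defs (u v d w)
open scoped Pointwise

universe u₁

variable {Y : Type u₁} [Group Y] {V : Type u₁} [AddCommGroup V] [DistribMulAction Y V]

namespace Out

variable {T : Sylow 2 Y} {M L : Subgroup Y} {A Q L₁ : Subgroup L} {R : Sylow 2 L} {E F : AddSubgroup V}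
  {z : V} {t : Y} (o : Out T M L A Q L₁ R E F z t)
  {K : Subgroup L} {k : Type} [Field k] [Finite k] [CharP k 2] {e : ↥(fx V Q) ≃+ (Fin 2 → k)}
  {φ : K ≃* Matrix.SpecialLinearGroup (Fin 2) k} (ok : OutK o K k e φ)
  (ez : ∀ v : ↥(fx V Q), (v : V) = z → e v = ![1, 0])
include ok ez

/-- **`[K₁, K₂] = 1`** -/
theorem comm_ps [Finite Y] [Finite V] (ha : 4 ≤ E.index)
    (h5 : ∃ x : V, x ∉ F ∧ ∀ y : V, y ∉ E → ∃ s ∈ A.map L.subtype, s ∈ ZN.o2 (MulAction.stabilizer Y z) ∧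
      s • y + y + x ∈ F) (g g' : Matrix.SpecialLinearGroup (Fin 2) k) :
    t * ps φ g * t⁻¹ * ps φ g' = ps φ g' * (t * ps φ g * t⁻¹) :=
  (o.nin ok ez ha).comm_K' (o.ninT ok ez ha h5) g g'

theorem norm_K [Finite Y] [Finite V] (ha : 4 ≤ E.index) {y : Y} (hy : y ∈ T) (hyX : y ∈ NX L V Q) :
    MulAut.conj y • (ps φ).range = (ps φ).range := by
  apply conj_eq_self_of_le
  intro x hx
  rw [mem_conj] at hx
  obtain ⟨m, hm⟩ := hx
  obtain ⟨m', hm'⟩ := (o.nin ok ez ha).nrm ((Pr_iff e).2 hyX) (by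
    rw [o.pc_z ok ez]
    exact o.hyp.zT y hy) m
  refine ⟨m', ?_⟩
  rw [← hm', hm]; group

theorem norm_K₁ [Finite Y] [Finite V] (ha : 4 ≤ E.index) {y : Y} (hy : y ∈ T) (hyX : y ∈ NX L V Q) :
    MulAut.conj y • MulAut.conj t • (ps φ).range = MulAut.conj t • (ps φ).range := by
  have h1 := o.norm_K ok ez ha (mul_mem (mul_mem (inv_mem o.tk.tT) hy) o.tk.tT) (o.tk.cj' y hy hyX)
  rw [conj_smul_smul]
  have e1 : y * t = t * (t⁻¹ * y * t) := by group
  rw [e1, ← conj_smul_smul, h1]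

theorem tt_K [Finite Y] [Finite V] (ha : 4 ≤ E.index) :
    MulAut.conj t • MulAut.conj t • (ps φ).range = (ps φ).range := by
  rw [conj_smul_smul]
  exact o.norm_K ok ez ha (mul_mem o.tk.tT o.tk.tT) o.tk.tt

/-- **`Y` permutes `{K₁, K₂}`** -/
theorem perm_K [Finite Y] [Finite V] (ha : 4 ≤ E.index)
    (hc : ∀ g g' : Matrix.SpecialLinearGroup (Fin 2) k, t * ps φ g * t⁻¹ * ps φ g' = ps φ g' * (t * ps φ g * t⁻¹))
    (y : Y) :
    (MulAut.conj y • (ps φ).range = (ps φ).range ∧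
      MulAut.conj y • MulAut.conj t • (ps φ).range = MulAut.conj t • (ps φ).range) ∨
    (MulAut.conj y • (ps φ).range = MulAut.conj t • (ps φ).range ∧
      MulAut.conj y • MulAut.conj t • (ps φ).range = (ps φ).range) := by
  have h := o.nin ok ez ha
  set K₂ : Subgroup Y := (ps φ).range with hK₂
  set K₁ : Subgroup Y := MulAut.conj t • K₂ with hK₁
  let N : Subgroup Y :=
    { carrier := {y | (MulAut.conj y • K₂ = K₂ ∧ MulAut.conj y • K₁ = K₁) ∨
        (MulAut.conj y • K₂ = K₁ ∧ MulAut.conj y • K₁ = K₂)}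
      mul_mem' := by
        intro a b ha hb
        rcases ha with ⟨h1, h2⟩ | ⟨h1, h2⟩ <;> rcases hb with ⟨h3, h4⟩ | ⟨h3, h4⟩
        · left; rw [← conj_smul_smul, ← conj_smul_smul, h3, h4]; exact ⟨h1, h2⟩
        · right; rw [← conj_smul_smul, ← conj_smul_smul, h3, h4]; exact ⟨h2, h1⟩
        · right; rw [← conj_smul_smul, ← conj_smul_smul, h3, h4]; exact ⟨h1, h2⟩
        · left; rw [← conj_smul_smul, ← conj_smul_smul, h3, h4]; exact ⟨h2, h1⟩
      one_mem' := by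
        left
        rw [map_one, one_smul, one_smul]
        exact ⟨rfl, rfl⟩
      inv_mem' := by
        intro a ha
        have hi : ∀ P : Subgroup Y, MulAut.conj a⁻¹ • MulAut.conj a • P = P := by
          intro P
          rw [conj_smul_smul, inv_mul_cancel, map_one, one_smul]
        rcases ha with ⟨h1, h2⟩ | ⟨h1, h2⟩
        · left
          constructor
          · nth_rw 1 [← h1]; exact hi _
          · nth_rw 1 [← h2]; exact hi _
        · right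
          constructor
          · nth_rw 1 [← h2]; exact hi _
          · nth_rw 1 [← h1]; exact hi _ }
  have hT : (T : Subgroup Y) ≤ N := by
    intro x hx
    rcases o.T_cases ha hx with h1 | h1
    · exact Or.inl ⟨o.norm_K ok ez ha hx h1, o.norm_K₁ ok ez ha hx h1⟩
    · right
      have hx' : t⁻¹ * x ∈ T := mul_mem (inv_mem o.tk.tT) hx
      obtain ⟨x', rfl⟩ : ∃ x', x = t * x' := ⟨t⁻¹ * x, by group⟩
      rw [inv_mul_cancel_left] at h1 hx'
      have n1 := o.norm_K ok ez ha hx' h1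
      have n2 := o.norm_K₁ ok ez ha hx' h1
      constructor
      · rw [← conj_smul_smul, n1]
      · rw [← conj_smul_smul, n2, o.tt_K ok ez ha]
  have hL : L ≤ N := by
    intro x hx
    left
    constructor
    · apply conj_eq_self_of_le
      intro y hy
      rw [mem_conj] at hy
      obtain ⟨m, hm⟩ := hy
      rw [ps_apply] at hm
      have h1 := ok.normal.conj_mem (φ.symm m : L) (φ.symm m).2 (⟨x, hx⟩ : L)
      refine ⟨φ ⟨_, h1⟩, ?_⟩
      rw [ps_apply, φ.symm_apply_apply]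
      change x * ((φ.symm m : L) : Y) * x⁻¹ = y
      rw [hm]; group
    · apply conj_eq_self_of_le
      intro y hy
      rw [mem_conj, hK₁, mem_conj] at hy
      obtain ⟨m, hm⟩ := hy
      have e0 : y = x * (t * ps φ m * t⁻¹) * x⁻¹ := by rw [hm]; group
      haveI := o.hyp.loc.Qn
      have h1 : (⟨x, hx⟩ : L) ∈ K ⊔ Q := by rw [ok.sup]; exact mem_top _
      obtain ⟨κ, hκ, q, hq, hκq⟩ := mem_sup_of_normal_right.1 h1
      have e1 : x = (κ : Y) * (q : Y) := (congrArg Subtype.val hκq).symm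
      obtain ⟨β, hβ⟩ := h.t_u_surj (s := (q : Y)) ⟨q, hq, rfl⟩
      have e2 : (κ : Y) = ps φ (φ ⟨κ, hκ⟩) := by rw [ps_apply, φ.symm_apply_apply]
      have e3 : (q : Y) * (t * ps φ m * t⁻¹) * (q : Y)⁻¹ = t * ps φ (u β * m * (u β)⁻¹) * t⁻¹ := by
        rw [hβ, map_mul, map_mul, map_inv]; group
      have e4 : y = t * ps φ (u β * m * (u β)⁻¹) * t⁻¹ := by
        have e5 : y = (κ : Y) * ((q : Y) * (t * ps φ m * t⁻¹) * (q : Y)⁻¹) * (κ : Y)⁻¹ := by
          rw [e0, e1]; group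
        rw [e5, e3, e2, ← hc]; group
      rw [hK₁, mem_conj]
      refine ⟨u β * m * (u β)⁻¹, ?_⟩
      rw [e4]; group
  have hN : N = ⊤ := by
    by_contra hN
    exact o.hyp.LM (hL.trans (o.hyp.uniqM N hT hN))
  have hy : y ∈ N := by rw [hN]; exact mem_top y
  exact hy

end Out

end Cfsg.Agent.Omega.NO1.B0

end

section


/-!
# THEOREM B0 (9), the end: two commuting conjugate `SL₂(k)` permuted by `Y` ⟹ two components
-/

set_option autoImplicit false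

namespace Cfsg.Agent.Omega.NO1.B0

open Subgroup
open scoped Pointwise

universe u

theorem two_comp {Y : Type u} [Group Y] [Finite Y] {k : Type} [Field k] [Finite k] [CharP k 2]
    (hk : 4 ≤ Nat.card k) (ψ : Matrix.SpecialLinearGroup (Fin 2) k →* Y) (hψ : Function.Injective ψ) (t : Y)
    (hcomm : ∀ g g', t * ψ g * t⁻¹ * ψ g' = ψ g' * (t * ψ g * t⁻¹))
    (hperm : ∀ y : Y, (MulAut.conj y • ψ.range = ψ.range ∧
        MulAut.conj y • MulAut.conj t • ψ.range = MulAut.conj t • ψ.range) ∨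
      (MulAut.conj y • ψ.range = MulAut.conj t • ψ.range ∧ MulAut.conj y • MulAut.conj t • ψ.range = ψ.range))
    (one : ∀ L L' : Subgroup Y, Cfsg.IsComponent L → Cfsg.IsComponent L' → L = L') : False := by
  set K₁ : Subgroup Y := ψ.range with hK₁
  set K₂ : Subgroup Y := MulAut.conj t • K₁ with hK₂
  have hq : Cfsg.IsQuasisimple (Matrix.SpecialLinearGroup (Fin 2) k) :=
    SignalizersComponents.SLQuasisimple.isQuasisimple_two hk
  have hq1 : Cfsg.IsQuasisimple K₁ :=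
    SignalizersComponents.QsBasic.isQuasisimple_of_mulEquiv (MonoidHom.ofInjective hψ) hq
  have hq2 : Cfsg.IsQuasisimple K₂ :=
    SignalizersComponents.QsBasic.isQuasisimple_of_mulEquiv (Subgroup.equivSMul (MulAut.conj t) K₁) hq1
  have hcm : ∀ x ∈ K₁, ∀ y ∈ K₂, y * x = x * y := by
    rintro _ ⟨g', rfl⟩ y hy
    rw [hK₂, Subgroup.mem_pointwise_smul_iff_inv_smul_mem] at hy
    obtain ⟨g, hg⟩ := hy
    have h1 : y = t * ψ g * t⁻¹ := by
      rw [hg, ← map_inv, MulAut.smul_def, MulAut.conj_apply]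
      group
    rw [h1]
    exact hcomm g g'
  set N : Subgroup Y := K₁ ⊔ K₂ with hN
  have hNn : N.Normal := by
    constructor
    intro n hn y
    have h1 : MulAut.conj y • N = N := by
      rw [hN, Subgroup.smul_sup]
      rcases hperm y with ⟨h1, h2⟩ | ⟨h1, h2⟩
      · rw [h1, h2]
      · rw [h1, h2, sup_comm]
    have h2 := Subgroup.smul_mem_pointwise_smul n (MulAut.conj y) N hn
    rw [h1] at h2
    exact h2
  have hNs : N.IsSubnormal := by
    refine .step N ⊤ le_top .top ?_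
    infer_instance
  have hs : ∀ K K' : Subgroup Y, K ≤ N → K ⊔ K' = N → (∀ x ∈ K, ∀ y ∈ K', y * x = x * y) → K.IsSubnormal := by
    intro K K' hle hsup hc
    refine .step K N hle hNs ?_
    have h1 : N ≤ normalizer (K : Set Y) := by
      rw [← hsup]
      refine sup_le le_normalizer ?_
      intro y hy
      rw [mem_normalizer_iff]
      intro x
      constructor
      · intro hx
        rw [hc x hx y hy, mul_inv_cancel_right]
        exact hx
      · intro hx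
        have h3 := hc _ hx y hy
        have h4 : x = y * x * y⁻¹ := by
          have h5 : y * (y * x * y⁻¹) = y * x := by rw [h3]; group
          exact (mul_left_cancel h5).symm
        rw [h4]; exact hx
    exact normal_subgroupOf_iff_le_normalizer hle |>.2 h1
  have h1 : Cfsg.IsComponent K₁ := ⟨hs K₁ K₂ le_sup_left rfl hcm, hq1⟩
  have h2 : Cfsg.IsComponent K₂ := ⟨hs K₂ K₁ le_sup_right (sup_comm _ _) fun x hx y hy => (hcm y hy x hx).symm, hq2⟩
  have h3 := one K₁ K₂ h1 h2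
  have h4 : ∀ x y : K₁, x * y = y * x := by
    intro x y
    apply Subtype.ext
    have hy : (y : Y) ∈ K₂ := by rw [← h3]; exact y.2
    exact (hcm x x.2 y hy).symm
  have h5 : center K₁ = ⊤ := by
    rw [eq_top_iff]
    intro x _
    rw [mem_center_iff]
    exact fun y => h4 y x
  have h6 := hq1.2.exists_pair_ne
  obtain ⟨x, y, hxy⟩ := h6
  apply hxy
  induction x using QuotientGroup.induction_on with
  | H x =>
    induction y using QuotientGroup.induction_on with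
    | H y =>
      rw [QuotientGroup.eq, h5]
      exact mem_top _

end Cfsg.Agent.Omega.NO1.B0

end

section


/-!
# N1, one component: the BETA case of `Fin` is impossible at the top (THEOREM B0, bb OMEGA 18835, helper970)

`false_of_beta` (socket of 406, bb OMEGA 22616).
-/

set_option autoImplicit false
set_option linter.unusedSectionVars false
set_option linter.style.haveILetI false

namespace Cfsg.Agent.Omega.NO1.TH

open Subgroup Cfsg.Agent.Omega.NO1.AB Cfsg.Agent.Omega.NO1.B0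
open scoped Pointwise

universe u

variable {Y : Type u} [Group Y] {V : Type u} [AddCommGroup V] [DistribMulAction Y V]

/-- **BETA is impossible** (`a ≥ 4`, weakly irreducible, one component, (Soc5)). -/
theorem false_of_beta [Finite Y] [Finite V] {U : Set (Subgroup Y)} {T : Sylow 2 Y} {M : Subgroup Y} {a : ℕ}
    (w : World V U T M a) (ha : 4 ≤ a)
    (one : ∀ L L' : Subgroup Y, Cfsg.IsComponent L → Cfsg.IsComponent L' → L = L') (h5 : Soc5 V U)
    {L A : Subgroup Y} {Q : Subgroup L} {R : Sylow 2 L} (hA : A ∈ U) (hAL : A ≤ L) (hLM : ¬ L ≤ M)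
    (hRT : (R : Subgroup L).map L.subtype ≤ (T : Subgroup Y))
    (h0 : Loc0 (A.subgroupOf L) (Ee V A) (fx V A) Q (M.subgroupOf L) R) (hC : fx V L = ⊥)
    (hne : A.subgroupOf L ⊓ Q ≠ ⊥) : False := by
  have hoff : ∀ B : Subgroup Y, (∀ b ∈ B, b * b = 1) → B ≠ ⊥ → Nat.card B * Nat.card ↥(fx V B) < Nat.card V := by
    intro B hB hB1
    have h1 : ∀ x ∈ B, ∀ y ∈ B, x * y = y * x := by
      intro x hx y hy
      have e1 := hB _ (mul_mem hx hy)
      have e2 : x⁻¹ = x := inv_eq_of_mul_eq_one_left (hB x hx)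
      have e3 : y⁻¹ = y := inv_eq_of_mul_eq_one_left (hB y hy)
      have e4 : x * y = (x * y)⁻¹ := (inv_eq_of_mul_eq_one_left e1).symm
      rw [e4, mul_inv_rev, e2, e3]
    have h2 := w.noff B h1 hB hB1
    have h3 := (fx V B).card_mul_index
    have h4 : 0 < Nat.card ↥(fx V B) := Nat.card_pos
    rw [← h3, mul_comm]
    exact Nat.mul_lt_mul_of_pos_left h2 h4
  obtain ⟨T', z, t, o⟩ := exists_out_of hLM hRT h0 hC hne w.faith
    (fun W hW hWE => (w.irr W hW).resolve_right fun h1 => h1 A hA hWE) hoff w.TM w.Mne w.max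
  obtain ⟨k, i1, i2, i3, e, K, φ, ok, ez⟩ := o.exists_K
  have hE : 4 ≤ (Ee V A).index := by rw [w.ind A hA]; exact ha
  have hAm : (A.subgroupOf L).map L.subtype = A := by
    rw [subgroupOf_map_subtype]
    exact inf_eq_left.2 hAL
  have hz : z ∈ fx V A := o.hyp.loc.z_mem.2
  have h6 : ∃ x : V, x ∉ fx V A ∧ ∀ y : V, y ∉ Ee V A → ∃ s ∈ (A.subgroupOf L).map L.subtype,
      s ∈ ZN.o2 (MulAction.stabilizer Y z) ∧ s • y + y + x ∈ fx V A := by
    obtain ⟨x, hx, h7⟩ := h5 A hA z o.hyp.z_ne hz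
    refine ⟨x, hx, fun y hy => ?_⟩
    obtain ⟨s, hs, h8, h9⟩ := h7 y hy
    exact ⟨s, by rw [hAm]; exact hs, h8, h9⟩
  have hc := o.comm_ps ok ez hE h6
  exact two_comp (by rw [ok.card]; exact hE) (ps φ) (o.nin ok ez hE).ψ_inj' t hc (o.perm_K ok ez hE hc) one

end Cfsg.Agent.Omega.NO1.TH

end

end
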